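import Mathlib
import Cfsg.Prelude.Def_OddOrderChar
import Cfsg.Agent.Lib.helper3.Inflate2
import Cfsg.Agent.Lib.helper3.Irr17

set_option autoImplicit false
set_option linter.style.haveILetI false
set_option linter.unusedSectionVars false

/-!
# Peterfalvi §6, part B: the irreducible characters with a given normal subgroup in the kernel
-/

namespace Cfsg.Agent.H2.PF6

open Cfsg Cfsg.Agent.Lib.helper3.Irr Cfsg.Agent.Lib.helper3.IndFun
open scoped ComplexConjugate

section quot

variable {K : Type*} [Group K] [Finite K]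

/-- The irreducible characters of `K` that are trivial on `N`, as a finset. -/
noncomputable def irrAbove (N : Subgroup K) : Finset (IrrCharacter K) := by
  classical
  exact Finset.univ.filter (fun θ => ∀ n ∈ N, (θ : K → ℂ) n = (θ : K → ℂ) 1)

theorem mem_irrAbove {N : Subgroup K} {θ : IrrCharacter K} :
    θ ∈ irrAbove N ↔ ∀ n ∈ N, (θ : K → ℂ) n = (θ : K → ℂ) 1 := by
  classical
  unfold irrAbove
  simp

/-- The regular character of `K ⧸ N`, read on `K`. -/
theorem sum_irrAbove (N : Subgroup K) [N.Normal] (k : K) [Decidable (k ∈ N)] :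
    ∑ θ ∈ irrAbove N, (θ : K → ℂ) 1 * (θ : K → ℂ) k = if k ∈ N then (N.index : ℂ) else 0 := by
  classical
  letI : Fintype (K ⧸ N) := Fintype.ofFinite _
  have hbij : ∑ θ ∈ irrAbove N, (θ : K → ℂ) 1 * (θ : K → ℂ) k
      = ∑ ψ : IrrCharacter (K ⧸ N), (ψ : K ⧸ N → ℂ) (k : K ⧸ N) * conj ((ψ : K ⧸ N → ℂ) 1) := by
    symm
    refine Finset.sum_bij (fun ψ _ => (⟨inflate N ψ, isIrrCharacter_inflate N ψ.2⟩ : IrrCharacter K))
      ?_ ?_ ?_ ?_
    · intro ψ _
      rw [mem_irrAbove]
      intro n hn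
      exact inflate_apply_of_mem N ψ hn
    · intro a _ b _ hab
      apply Subtype.ext
      apply inflate_injective N
      exact congrArg Subtype.val hab
    · intro θ hθ
      rw [mem_irrAbove] at hθ
      have hconst : ∀ g n : K, n ∈ N → (θ : K → ℂ) (g * n) = (θ : K → ℂ) g := by
        intro g n hn
        exact apply_mul_of_apply_eq_one (isCharacter_of_isIrrCharacter θ.2) (hθ n hn) g
      obtain ⟨ψ, hψ, hψθ⟩ := exists_eq_inflate θ.2 N hconst
      exact ⟨⟨ψ, hψ⟩, Finset.mem_univ _, Subtype.ext hψθ.symm⟩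
    · intro ψ _
      simp only [inflate_apply]
      rw [QuotientGroup.mk_one, conj_apply_one (isCharacter_of_isIrrCharacter ψ.2)]
      ring
  rw [hbij, sum_irr_mul_conj]
  by_cases hk : k ∈ N
  · rw [if_pos hk]
    have h1 : (k : K ⧸ N) = 1 := (QuotientGroup.eq_one_iff k).mpr hk
    rw [h1]
    have : Nat.card {y : K ⧸ N // y * 1 * y⁻¹ = 1} = N.index := by
      rw [Subgroup.index_eq_card]
      apply Nat.card_congr
      exact Equiv.subtypeUnivEquiv (fun y => by simp)
    rw [this]
  · rw [if_neg hk]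
    have h1 : (k : K ⧸ N) ≠ 1 := fun h => hk ((QuotientGroup.eq_one_iff k).mp h)
    have : IsEmpty {y : K ⧸ N // y * 1 * y⁻¹ = (k : K ⧸ N)} := by
      constructor
      rintro ⟨y, hy⟩
      apply h1
      rw [← hy]; simp
    rw [Nat.card_of_isEmpty, Nat.cast_zero]

/-- The sum of the squares of the degrees of the characters of `K ⧸ N`. -/
theorem sum_sq_irrAbove (N : Subgroup K) [N.Normal] :
    ∑ θ ∈ irrAbove N, (θ : K → ℂ) 1 * (θ : K → ℂ) 1 = (N.index : ℂ) := by
  classical
  have := sum_irrAbove N (1 : K)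
  rw [if_pos (one_mem N)] at this
  exact this

/-- The principal character as an element of `IrrCharacter K`. -/
noncomputable def oneIrr (K : Type*) [Group K] [Finite K] : IrrCharacter K :=
  ⟨fun _ => 1, isIrrCharacter_one⟩

theorem oneIrr_mem_irrAbove (N : Subgroup K) : oneIrr K ∈ irrAbove N := by
  rw [mem_irrAbove]
  intro n _
  rfl

/-- A solvable nontrivial quotient has a nonprincipal linear character. -/
theorem exists_linear_irrAbove [Group.IsSolvable K] (N : Subgroup K) [N.Normal] (hN : N ≠ ⊤) :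
    ∃ θ ∈ irrAbove N, (θ : K → ℂ) 1 = 1 ∧ (θ : K → ℂ) ≠ fun _ => 1 := by
  classical
  letI : Fintype (K ⧸ N) := Fintype.ofFinite _
  haveI : Nontrivial (K ⧸ N) := by
    rw [QuotientGroup.nontrivial_iff]
    exact hN
  have hlt := Group.IsSolvable.commutator_lt_top_of_nontrivial (K ⧸ N)
  have hidx : 1 < (commutator (K ⧸ N)).index := by
    have h1 : (commutator (K ⧸ N)).index ≠ 1 := by
      rw [Ne, Subgroup.index_eq_one]
      exact hlt.ne
    have h0 : (commutator (K ⧸ N)).index ≠ 0 := Subgroup.index_ne_zero_of_finite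
    omega
  rw [← card_linear_eq_index_commutator] at hidx
  haveI : Finite {χ : IrrCharacter (K ⧸ N) // (χ : K ⧸ N → ℂ) 1 = 1} := inferInstance
  obtain ⟨a, b, hab⟩ := Finite.one_lt_card_iff_nontrivial.mp hidx
  -- one of them is not principal
  have key : ∃ ψ : IrrCharacter (K ⧸ N), (ψ : K ⧸ N → ℂ) 1 = 1 ∧ (ψ : K ⧸ N → ℂ) ≠ fun _ => 1 := by
    by_cases ha : ((a : IrrCharacter (K ⧸ N)) : K ⧸ N → ℂ) = fun _ => 1
    · refine ⟨b, b.2, fun hb => hab ?_⟩
      apply Subtype.ext
      apply Subtype.ext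
      rw [ha, hb]
    · exact ⟨a, a.2, ha⟩
  obtain ⟨ψ, hψ1, hψne⟩ := key
  refine ⟨⟨inflate N ψ, isIrrCharacter_inflate N ψ.2⟩, ?_, ?_, ?_⟩
  · rw [mem_irrAbove]
    intro n hn
    exact inflate_apply_of_mem N ψ hn
  · show inflate N ψ 1 = 1
    rw [inflate_apply, QuotientGroup.mk_one, hψ1]
  · intro h
    apply hψne
    apply inflate_injective N
    rw [show (inflate N (ψ : K ⧸ N → ℂ)) = fun _ => 1 from h]
    rfl

end quot

end Cfsg.Agent.H2.PF6
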