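import Mathlib
import Cfsg.Prelude.Def_OddOrderChar
import Cfsg.Agent.Lib.helper3.Coh16

set_option autoImplicit false
set_option linter.style.haveILetI false
set_option linter.unusedSectionVars false

/-!
# Peterfalvi §6, part A: general coherence bookkeeping

Subsets of coherent sets are coherent; iterating the extension criterion.
-/

namespace Cfsg.Agent.H2.PF6

open Cfsg Cfsg.Agent.Lib.helper3.Coh Cfsg.Agent.Lib.helper3.Irr
open scoped ComplexConjugate

section sys

variable {L : Type*} [Group L] [Fintype L] {G : Type*} [Group G] [Fintype G]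
variable {S : Set (L → ℂ)} {τ : (L → ℂ) → (G → ℂ)} {R : (L → ℂ) → Finset (G → ℂ)}

theorem isLinearIsometryOn_mono {E E' : Set (L → ℂ)} {τ₁ : (L → ℂ) → (G → ℂ)}
    (h : IsLinearIsometryOn E τ₁) (hE : E' ⊆ E) : IsLinearIsometryOn E' τ₁ :=
  ⟨fun α hα β hβ => h.1 α (hE hα) β (hE hβ), fun α hα n => h.2.1 α (hE hα) n,
    fun α hα β hβ => h.2.2.1 α (hE hα) β (hE hβ), fun α hα => h.2.2.2 α (hE hα)⟩

/-- A subset of a coherent set is coherent as soon as it carries a nonzero combination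
vanishing off `A`. -/
theorem isCoherent_subset {T T' : Set (L → ℂ)} {A : Set L} (h : IsCoherent T A τ)
    (hT : T' ⊆ T) (hne : ∃ α ∈ zspanOn T' A, α ≠ 0) : IsCoherent T' A τ := by
  obtain ⟨-, τ₁, hτ₁, hext⟩ := h
  refine ⟨hne, τ₁, isLinearIsometryOn_mono hτ₁ (zspan_mono hT), ?_⟩
  intro α hα
  exact hext α (zspanOn_mono A hT hα)

/-- In a coherence system, a nonempty conjugation-closed subset carries a nonzero
combination vanishing at `1`. -/
theorem CS.exists_ne_zero (hS : IsCoherenceSystem S τ R) {T : Set (L → ℂ)} (hT : T ⊆ S)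
    (hTc : ∀ φ ∈ T, conjFun φ ∈ T) (hne : T.Nonempty) :
    ∃ α ∈ zspanOn T ({1}ᶜ : Set L), α ≠ 0 := by
  obtain ⟨χ, hχ⟩ := hne
  refine ⟨χ - conjFun χ, ?_, ?_⟩
  · rw [mem_zspanOn_one_iff]
    refine ⟨zspan_sub (mem_zspan_of_mem hχ) (mem_zspan_of_mem (hTc χ hχ)), ?_⟩
    rw [Pi.sub_apply, conjFun_apply_one_of_isCharacter (hS.isCharacter χ (hT hχ)), sub_self]
  · intro h0
    apply hS.conj_ne χ (hT hχ)
    have := sub_eq_zero.mp h0
    exact this.symm

/-- Iterating the extension criterion: all members of a conjugation-closed finite set `T`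
can be added to a coherent set `S₁` provided each of them satisfies the numerical criterion
with respect to `S₁`. -/
theorem CS.extend_many (hS : IsCoherenceSystem S τ R) (d n : (L → ℂ) → ℕ)
    (hd : ∀ φ ∈ S, φ 1 = (d φ : ℂ)) (hn : ∀ φ ∈ S, classInner φ φ = (n φ : ℂ))
    (χ₁ : L → ℂ) (T : Finset (L → ℂ)) (hT : (↑T : Set (L → ℂ)) ⊆ S)
    (hTc : ∀ φ ∈ T, conjFun φ ∈ T) [DecidableEq (L → ℂ)] :
    ∀ (k : ℕ) (S₁ : Finset (L → ℂ)), (T \ S₁).card ≤ k → (↑S₁ : Set (L → ℂ)) ⊆ S →
      (∀ φ ∈ S₁, conjFun φ ∈ S₁) → IsCoherent (↑S₁ : Set (L → ℂ)) ({1}ᶜ : Set L) τ →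
      χ₁ ∈ S₁ → (∀ χ ∈ T, d χ₁ ∣ d χ) →
      (∀ χ ∈ T, (2 * d χ * d χ₁ : ℝ) < ∑ φ ∈ S₁, ((d φ : ℝ) ^ 2 / (n φ : ℝ))) →
      IsCoherent (↑(S₁ ∪ T) : Set (L → ℂ)) ({1}ᶜ : Set L) τ := by
  intro k
  induction k with
  | zero =>
    intro S₁ hk _ _ hcoh _ _ _
    have hsub : T ⊆ S₁ := by
      rw [← Finset.sdiff_eq_empty_iff_subset]
      exact Finset.card_eq_zero.mp (Nat.le_zero.mp hk)
    rw [Finset.union_eq_left.mpr hsub]
    exact hcoh
  | succ k ih =>
    intro S₁ hk hS₁ hS₁c hcoh hχ₁ hdvd hineq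
    by_cases hsub : T ⊆ S₁
    · rw [Finset.union_eq_left.mpr hsub]
      exact hcoh
    · obtain ⟨χ, hχT, hχS₁⟩ := Finset.not_subset.mp hsub
      have hχS : χ ∈ S := hT (Finset.mem_coe.mpr hχT)
      have hχc : conjFun χ ∉ S₁ := by
        intro h
        apply hχS₁
        have := hS₁c _ h
        rwa [conjFun_conjFun] at this
      have hnew := CS.extend_coherent hS d n hd hn S₁ hS₁ hS₁c hcoh χ hχS hχS₁ hχc χ₁ hχ₁
        (hdvd χ hχT) (hineq χ hχT)
      set S₂ : Finset (L → ℂ) := S₁ ∪ {χ, conjFun χ} with hS₂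
      have hcoe : (↑S₂ : Set (L → ℂ)) = ↑S₁ ∪ {χ, conjFun χ} := by
        rw [hS₂, Finset.coe_union, Finset.coe_insert, Finset.coe_singleton]
      have hS₁S₂ : S₁ ⊆ S₂ := Finset.subset_union_left
      have hχS₂ : χ ∈ S₂ := by
        rw [hS₂]; apply Finset.mem_union_right; simp
      have h2 : S₂ ∪ T = S₁ ∪ T := by
        rw [hS₂, Finset.union_assoc]
        congr 1
        apply Finset.union_eq_right.mpr
        intro x hx
        rcases Finset.mem_insert.mp hx with rfl | hx
        · exact hχT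
        · rw [Finset.mem_singleton.mp hx]; exact hTc χ hχT
      rw [← h2]
      apply ih S₂
      · -- card decreases
        have hlt : (T \ S₂).card < (T \ S₁).card := by
          apply Finset.card_lt_card
          rw [Finset.ssubset_iff_of_subset (Finset.sdiff_subset_sdiff (Finset.Subset.refl T) hS₁S₂)]
          exact ⟨χ, Finset.mem_sdiff.mpr ⟨hχT, hχS₁⟩, fun h => (Finset.mem_sdiff.mp h).2 hχS₂⟩
        omega
      · rw [hcoe]
        intro x hx
        rcases hx with hx | hx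
        · exact hS₁ hx
        · rcases hx with rfl | hx
          · exact hχS
          · rw [Set.mem_singleton_iff.mp hx]; exact hS.conj_mem χ hχS
      · intro φ hφ
        rw [hS₂] at hφ ⊢
        rcases Finset.mem_union.mp hφ with hφ | hφ
        · exact Finset.mem_union_left _ (hS₁c φ hφ)
        · apply Finset.mem_union_right
          rcases Finset.mem_insert.mp hφ with rfl | hφ
          · simp
          · rw [Finset.mem_singleton.mp hφ, conjFun_conjFun]; simp
      · rw [hcoe]; exact hnew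
      · exact hS₁S₂ hχ₁
      · exact hdvd
      · intro χ' hχ'
        refine lt_of_lt_of_le (hineq χ' hχ') ?_
        apply Finset.sum_le_sum_of_subset_of_nonneg hS₁S₂
        intro φ _ _
        positivity

end sys

end Cfsg.Agent.H2.PF6
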