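import Mathlib
import Cfsg.Prelude.Def_OddOrderChar
import Cfsg.Agent.H2.PF6.B
import Cfsg.Agent.Lib.helper3.Irr17

set_option autoImplicit false
set_option linter.style.haveILetI false
set_option linter.unusedSectionVars false

/-!
# Peterfalvi §6, part C: the characters induced from a normal subgroup
-/

namespace Cfsg.Agent.H2.PF6

open Cfsg Cfsg.Agent.Lib.helper3.Irr Cfsg.Agent.Lib.helper3.IndFun
open scoped ComplexConjugate

section ind

variable {L : Type*} [Group L] [Fintype L] (K : Subgroup L) [hK : K.Normal]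

/-- The non-principal irreducible characters of `K` whose kernel contains `A ⊓ K`. -/
noncomputable def thetaSet (A : Subgroup L) : Finset (IrrCharacter K) :=
  @Finset.erase (IrrCharacter K) (Classical.decEq _) (irrAbove (A.subgroupOf K)) (oneIrr K)

theorem mem_thetaSet {A : Subgroup L} {θ : IrrCharacter K} :
    θ ∈ thetaSet K A ↔ (θ : K → ℂ) ≠ (fun _ => 1) ∧
      ∀ a : K, (a : L) ∈ A → (θ : K → ℂ) a = (θ : K → ℂ) 1 := by
  classical
  unfold thetaSet
  rw [@Finset.mem_erase _ (Classical.decEq _), mem_irrAbove]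
  constructor
  · rintro ⟨h1, h2⟩
    refine ⟨fun h => h1 (Subtype.ext h), fun a ha => h2 a (Subgroup.mem_subgroupOf.mpr ha)⟩
  · rintro ⟨h1, h2⟩
    refine ⟨fun h => h1 (congrArg Subtype.val h), fun n hn => h2 n (Subgroup.mem_subgroupOf.mp hn)⟩

theorem sum_thetaSet (A : Subgroup L) (f : IrrCharacter K → ℂ) :
    ∑ θ ∈ thetaSet K A, f θ = ∑ θ ∈ irrAbove (A.subgroupOf K), f θ - f (oneIrr K) := by
  letI := Classical.decEq (IrrCharacter K)
  exact Finset.sum_erase_eq_sub (oneIrr_mem_irrAbove _)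

theorem mem_inducedIrrAbove {A : Subgroup L} {φ : L → ℂ} :
    φ ∈ inducedIrrAbove K A ↔ ∃ θ ∈ thetaSet K A, φ = indFun K (θ : K → ℂ) := by
  constructor
  · rintro ⟨θ, hθ, h1, h2, rfl⟩
    exact ⟨⟨θ, hθ⟩, (mem_thetaSet K).mpr ⟨h1, h2⟩, rfl⟩
  · rintro ⟨θ, hθ, rfl⟩
    obtain ⟨h1, h2⟩ := (mem_thetaSet K).mp hθ
    exact ⟨θ, θ.2, h1, h2, rfl⟩

theorem thetaSet_mono {A B : Subgroup L} (h : A ≤ B) : thetaSet K B ⊆ thetaSet K A := by
  intro θ hθ
  rw [mem_thetaSet] at hθ ⊢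
  exact ⟨hθ.1, fun a ha => hθ.2 a (h ha)⟩

theorem inducedIrrAbove_mono {A B : Subgroup L} (h : A ≤ B) :
    inducedIrrAbove K B ⊆ inducedIrrAbove K A := by
  intro φ hφ
  rw [mem_inducedIrrAbove] at hφ ⊢
  obtain ⟨θ, hθ, rfl⟩ := hφ
  exact ⟨θ, thetaSet_mono K h hθ, rfl⟩

/-- Induced functions of irreducible characters of a normal subgroup are equal or orthogonal. -/
theorem classInner_indFun_of_ne (θ θ' : IrrCharacter K)
    (hne : indFun K (θ' : K → ℂ) ≠ indFun K (θ : K → ℂ)) :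
    classInner (indFun K (θ' : K → ℂ)) (indFun K (θ : K → ℂ)) = 0 := by
  apply classInner_indFun_of_not_conj K θ θ' θ.2 θ'.2
  intro g hg
  apply hne
  rw [hg, indFun_conjFun]

/-- The function induced from the principal character is orthogonal to the one induced from a
non-principal irreducible character. -/
theorem classInner_indFun_one (θ : IrrCharacter K) (hθ : (θ : K → ℂ) ≠ fun _ => 1) :
    classInner (indFun K (fun _ : K => (1 : ℂ))) (indFun K (θ : K → ℂ)) = 0 := by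
  apply classInner_indFun_of_not_conj K θ (fun _ => 1) θ.2 isIrrCharacter_one
  intro g hg
  apply hθ
  have h1 : Cfsg.Agent.Lib.helper3.Irr.conjFun K (Cfsg.Agent.Lib.helper3.Irr.conjFun K (θ : K → ℂ) g) g⁻¹
      = (θ : K → ℂ) := by
    rw [conjFun_mul, mul_inv_cancel, conjFun_one]
  rw [← h1, ← hg]
  rfl

/-- The degree of an induced function. -/
theorem indFun_one_eq (θ : K → ℂ) : indFun K θ 1 = (K.index : ℂ) * θ 1 := indFun_apply_one K θ

/-- Key fiber identity: the degrees of the characters in `Θ(A)` inducing a given `φ` sum to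
`φ(1) / ⟨φ, φ⟩`. -/
theorem fiber_sum (A : Subgroup L) [hA : A.Normal] (hAK : A ≤ K) (θ₀ : IrrCharacter K)
    (hθ₀ : θ₀ ∈ thetaSet K A) [DecidableEq (L → ℂ)] :
    (∑ θ ∈ (thetaSet K A).filter (fun θ : IrrCharacter K => indFun K (θ : K → ℂ) = indFun K (θ₀ : K → ℂ)),
        (θ : K → ℂ) 1) * classInner (indFun K (θ₀ : K → ℂ)) (indFun K (θ₀ : K → ℂ))
      = indFun K (θ₀ : K → ℂ) 1 := by
  classical
  letI : Fintype K := Fintype.ofFinite K
  set φ : L → ℂ := indFun K (θ₀ : K → ℂ) with hφ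
  obtain ⟨hθ₀1, hθ₀A⟩ := (mem_thetaSet K).mp hθ₀
  have hφcf : IsClassFunction L φ := indFun_isClassFunction K _
  have hφchar : IsCharacter L φ :=
    isCharacter_indFun K _ (isCharacter_of_isIrrCharacter θ₀.2)
  set N : Subgroup K := A.subgroupOf K with hN
  haveI : N.Normal := by rw [hN]; infer_instance
  -- step 2: the left side as a sum over all of `Θ(A)`
  have h2 : (∑ θ ∈ (thetaSet K A).filter (fun θ : IrrCharacter K => indFun K (θ : K → ℂ) = φ), (θ : K → ℂ) 1)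
        * classInner φ φ
      = ∑ θ ∈ thetaSet K A, (θ : K → ℂ) 1 * classInner (indFun K (θ : K → ℂ)) φ := by
    rw [Finset.sum_mul, Finset.sum_filter]
    apply Finset.sum_congr rfl
    intro θ _
    by_cases h : indFun K (θ : K → ℂ) = φ
    · rw [if_pos h, h]
    · rw [if_neg h, classInner_indFun_of_ne K θ₀ θ h, mul_zero]
  rw [h2]
  -- Frobenius reciprocity
  have h3 : ∀ θ : IrrCharacter K, classInner (indFun K (θ : K → ℂ)) φ
      = classInner (θ : K → ℂ) (fun k : K => φ k) := fun θ =>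
    frobenius_reciprocity K _ φ hφcf
  simp_rw [h3]
  rw [sum_thetaSet, ← hN]
  -- the principal term vanishes
  have h4 : classInner ((oneIrr K : IrrCharacter K) : K → ℂ) (fun k : K => φ k) = 0 := by
    rw [← frobenius_reciprocity K _ φ hφcf]
    exact classInner_indFun_one K θ₀ hθ₀1
  rw [h4, mul_zero, sub_zero]
  -- the main term
  have hconst : ∀ k : K, k ∈ N → φ k = φ 1 := by
    intro k hk
    exact (indFun_normal_const_iff A K hAK _ θ₀.2).mp hθ₀A k (Subgroup.mem_subgroupOf.mp hk)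
  have hconj1 : conj (φ 1) = φ 1 := conj_apply_one hφchar
  simp_rw [classInner_apply]
  have h5 : ∑ θ ∈ irrAbove N, (θ : K → ℂ) 1 * ((Nat.card K : ℂ)⁻¹ * ∑ k : K, (θ : K → ℂ) k * conj (φ k))
      = (Nat.card K : ℂ)⁻¹ * ∑ k : K, (∑ θ ∈ irrAbove N, (θ : K → ℂ) 1 * (θ : K → ℂ) k) * conj (φ k) := by
    rw [Finset.mul_sum]
    simp_rw [Finset.mul_sum, Finset.sum_mul]
    rw [Finset.sum_comm]
    apply Finset.sum_congr rfl
    intro k _
    rw [Finset.mul_sum]
    apply Finset.sum_congr rfl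
    intro θ _
    ring
  rw [h5]
  simp_rw [sum_irrAbove N]
  have h6 : ∑ k : K, (if k ∈ N then (N.index : ℂ) else 0) * conj (φ k)
      = (Nat.card N : ℂ) * ((N.index : ℂ) * φ 1) := by
    have : ∀ k : K, (if k ∈ N then (N.index : ℂ) else 0) * conj (φ k)
        = if k ∈ N then (N.index : ℂ) * φ 1 else 0 := by
      intro k
      by_cases hk : k ∈ N
      · rw [if_pos hk, if_pos hk, hconst k hk, hconj1]
      · rw [if_neg hk, if_neg hk, zero_mul]
    simp_rw [this]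
    rw [← Finset.sum_filter, Finset.sum_const, nsmul_eq_mul]
    congr 2
    rw [Nat.card_eq_fintype_card, Fintype.card_subtype]
  rw [h6]
  have hcard : (Nat.card K : ℂ) = (Nat.card N : ℂ) * (N.index : ℂ) := by
    rw [← Nat.cast_mul, Subgroup.card_mul_index]
  have hK0 : (Nat.card K : ℂ) ≠ 0 := card_ne_zero_complex K
  rw [hcard] at hK0 ⊢
  have hN0 : (Nat.card N : ℂ) ≠ 0 := left_ne_zero_of_mul hK0
  have hi0 : (N.index : ℂ) ≠ 0 := right_ne_zero_of_mul hK0
  field_simp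

/-- The weighted degree sum of the family `S(A)`: `∑ φ(1)² / ⟨φ, φ⟩ = [L:K] ([K:A] - 1)`. -/
theorem sum_sq_div (A : Subgroup L) [hA : A.Normal] (hAK : A ≤ K) (F : Finset (L → ℂ))
    (hF : ∀ φ, φ ∈ F ↔ φ ∈ inducedIrrAbove K A) (d n : (L → ℂ) → ℕ)
    (hd : ∀ φ ∈ F, φ 1 = (d φ : ℂ)) (hn : ∀ φ ∈ F, classInner φ φ = (n φ : ℂ))
    (hn0 : ∀ φ ∈ F, n φ ≠ 0) :
    ∑ φ ∈ F, ((d φ : ℂ) ^ 2 / (n φ : ℂ)) = (K.index : ℂ) * ((A.relIndex K : ℂ) - 1) := by
  classical
  have hmaps : ∀ θ ∈ thetaSet K A, indFun K (θ : K → ℂ) ∈ F := by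
    intro θ hθ
    rw [hF, mem_inducedIrrAbove]
    exact ⟨θ, hθ, rfl⟩
  have h1 : ∀ φ ∈ F, (d φ : ℂ) ^ 2 / (n φ : ℂ)
      = ∑ θ ∈ (thetaSet K A).filter (fun θ : IrrCharacter K => indFun K (θ : K → ℂ) = φ),
          indFun K (θ : K → ℂ) 1 * (θ : K → ℂ) 1 := by
    intro φ hφ
    obtain ⟨θ₀, hθ₀, rfl⟩ := (mem_inducedIrrAbove K).mp ((hF φ).mp hφ)
    have hfs := fiber_sum K A hAK θ₀ hθ₀
    rw [hn _ hφ, hd _ hφ] at hfs
    have hn0' : (n (indFun K (θ₀ : K → ℂ)) : ℂ) ≠ 0 := by exact_mod_cast hn0 _ hφ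
    have h2 : ∑ θ ∈ (thetaSet K A).filter
          (fun θ : IrrCharacter K => indFun K (θ : K → ℂ) = indFun K (θ₀ : K → ℂ)),
          indFun K (θ : K → ℂ) 1 * (θ : K → ℂ) 1
        = (d (indFun K (θ₀ : K → ℂ)) : ℂ) * ∑ θ ∈ (thetaSet K A).filter
          (fun θ : IrrCharacter K => indFun K (θ : K → ℂ) = indFun K (θ₀ : K → ℂ)),
          (θ : K → ℂ) 1 := by
      rw [Finset.mul_sum]
      apply Finset.sum_congr rfl
      intro θ hθ
      rw [(Finset.mem_filter.mp hθ).2, hd _ hφ]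
    rw [h2, ← hfs]
    field_simp
  rw [Finset.sum_congr rfl h1, Finset.sum_fiberwise_of_maps_to hmaps]
  have h3 : ∀ θ ∈ thetaSet K A, indFun K (θ : K → ℂ) 1 * (θ : K → ℂ) 1
      = (K.index : ℂ) * ((θ : K → ℂ) 1 * (θ : K → ℂ) 1) := by
    intro θ _
    rw [indFun_one_eq]
    ring
  rw [Finset.sum_congr rfl h3, ← Finset.mul_sum, sum_thetaSet]
  haveI : (A.subgroupOf K).Normal := inferInstance
  rw [sum_sq_irrAbove]
  congr 1
  show ((A.subgroupOf K).index : ℂ) - (1 : ℂ) * 1 = _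
  rw [mul_one]
  rfl

end ind

end Cfsg.Agent.H2.PF6
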