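import Mathlib
import Cfsg.Prelude.Def_OddOrderChar
import Cfsg.Agent.H2.PF6.A
import Cfsg.Agent.H2.PF6.C
import Cfsg.Agent.Lib.helper3.CentralSection

set_option autoImplicit false
set_option linter.style.haveILetI false
set_option linter.unusedSectionVars false

/-!
# Peterfalvi (6.3): coherence descends through a central step
-/

namespace Cfsg.Agent.H2.PF6

open Cfsg Cfsg.Agent.Lib.helper3.Irr Cfsg.Agent.Lib.helper3.IndFun Cfsg.Agent.Lib.helper3.Coh
open scoped ComplexConjugate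

section ind

variable {L : Type*} [Group L] [Fintype L] (K : Subgroup L) [hK : K.Normal]

/-- The complex conjugate of a member of `Θ(A)`. -/
noncomputable def conjIrr (θ : IrrCharacter K) : IrrCharacter K :=
  ⟨fun k => conj ((θ : K → ℂ) k), isIrrCharacter_conj θ.2⟩

theorem conjIrr_mem_thetaSet {A : Subgroup L} {θ : IrrCharacter K} (hθ : θ ∈ thetaSet K A) :
    conjIrr K θ ∈ thetaSet K A := by
  rw [mem_thetaSet] at hθ ⊢
  obtain ⟨h1, h2⟩ := hθ
  constructor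
  · intro h
    apply h1
    funext k
    have := congrFun h k
    simp only [conjIrr] at this
    have h3 := congrArg (starRingEnd ℂ) this
    simpa using h3
  · intro a ha
    simp only [conjIrr]
    rw [h2 a ha]

theorem indFun_conjIrr (θ : IrrCharacter K) :
    indFun K ((conjIrr K θ : IrrCharacter K) : K → ℂ) = Cfsg.conjFun (indFun K (θ : K → ℂ)) := by
  funext g
  exact indFun_conj K _ g

theorem inducedIrrAbove_conj {A : Subgroup L} {φ : L → ℂ} (hφ : φ ∈ inducedIrrAbove K A) :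
    Cfsg.conjFun φ ∈ inducedIrrAbove K A := by
  rw [mem_inducedIrrAbove] at hφ ⊢
  obtain ⟨θ, hθ, rfl⟩ := hφ
  exact ⟨conjIrr K θ, conjIrr_mem_thetaSet K hθ, (indFun_conjIrr K θ).symm⟩

/-- The degree bound (1.10 of Peterfalvi) for the members of `Θ(B)`. -/
theorem degree_bound {B C D : Subgroup L} (hBD : B ≤ D) (hDC : D ≤ C) (hCK : C ≤ K)
    (hcent : ∀ x ∈ D, ∀ y ∈ C, x * y * x⁻¹ * y⁻¹ ∈ B) {θ : IrrCharacter K}
    (hθ : θ ∈ thetaSet K B) {t : ℕ} (ht : (θ : K → ℂ) 1 = (t : ℂ)) :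
    t ^ 2 * Nat.card C * Nat.card D ≤ Nat.card K ^ 2 := by
  classical
  letI : Fintype K := Fintype.ofFinite K
  obtain ⟨-, h2⟩ := (mem_thetaSet K).mp hθ
  have hb := Cfsg.Agent.Lib.helper3.Central.degree_bound_central_section (θ : K → ℂ) θ.2
    (B.subgroupOf K) (C.subgroupOf K) (D.subgroupOf K)
    (fun x hx => Subgroup.mem_subgroupOf.mpr (hBD (Subgroup.mem_subgroupOf.mp hx)))
    (fun x hx => Subgroup.mem_subgroupOf.mpr (hDC (Subgroup.mem_subgroupOf.mp hx)))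
    (fun x hx y hy => Subgroup.mem_subgroupOf.mpr
      (hcent x (Subgroup.mem_subgroupOf.mp hx) y (Subgroup.mem_subgroupOf.mp hy)))
    (fun b hb => h2 b (Subgroup.mem_subgroupOf.mp hb))
  have hC : Nat.card (C.subgroupOf K) = Nat.card C :=
    Nat.card_congr (Subgroup.subgroupOfEquivOfLe hCK).toEquiv
  have hD : Nat.card (D.subgroupOf K) = Nat.card D :=
    Nat.card_congr (Subgroup.subgroupOfEquivOfLe (hDC.trans hCK)).toEquiv
  rw [hC, hD, ht] at hb
  have hnorm : ‖(t : ℂ)‖ = (t : ℝ) := by simp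
  rw [hnorm] at hb
  exact_mod_cast hb

end ind

/-- The arithmetic of (6.3). -/
theorem arith63 (l t k cc dd N c rel a : ℕ) (hl : l * k = N) (hc : c * cc = N) (hrel : rel * dd = cc)
    (hcc : 0 < cc) (hdd : 0 < dd) (hl0 : 0 < l)
    (hb : t ^ 2 * cc * dd ≤ k ^ 2) (hlt : 4 * c ^ 2 * rel < (a - 1) ^ 2) :
    (2 * ((l * t : ℕ) : ℝ) * (l : ℝ)) < (l : ℝ) * ((a : ℝ) - 1) := by
  have h1 : l ^ 2 * t ^ 2 ≤ c ^ 2 * rel := by
    have h2 : l ^ 2 * t ^ 2 * (cc * dd) ≤ c ^ 2 * rel * (cc * dd) := by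
      calc l ^ 2 * t ^ 2 * (cc * dd) = l ^ 2 * (t ^ 2 * cc * dd) := by ring
        _ ≤ l ^ 2 * k ^ 2 := Nat.mul_le_mul_left _ hb
        _ = N ^ 2 := by rw [← hl]; ring
        _ = c ^ 2 * rel * (cc * dd) := by
          rw [← hc]
          conv_lhs => rw [← hrel]
          conv_rhs => rw [← hrel]
          ring
    exact Nat.le_of_mul_le_mul_right h2 (Nat.mul_pos hcc hdd)
  have h3 : (2 * l * t) ^ 2 < (a - 1) ^ 2 := by
    calc (2 * l * t) ^ 2 = 4 * (l ^ 2 * t ^ 2) := by ring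
      _ ≤ 4 * (c ^ 2 * rel) := Nat.mul_le_mul_left _ h1
      _ = 4 * c ^ 2 * rel := by ring
      _ < (a - 1) ^ 2 := hlt
  have h4 : 2 * l * t < a - 1 := lt_of_pow_lt_pow_left₀ 2 (Nat.zero_le _) h3
  have h5 : 2 * l * t + 1 < a := by omega
  have h6 : (2 * (l : ℝ) * (t : ℝ) + 1) < (a : ℝ) := by exact_mod_cast h5
  have hl0' : (0 : ℝ) < (l : ℝ) := by exact_mod_cast hl0
  push_cast
  nlinarith

end Cfsg.Agent.H2.PF6
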