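import Mathlib
import Cfsg.Prelude.Def_OddOrderChar
import Cfsg.Agent.H2.PF6.D

set_option autoImplicit false
set_option linter.style.haveILetI false
set_option linter.unusedSectionVars false

/-!
# Peterfalvi (6.3): coherence descends through a central step (assembly)
-/

namespace Cfsg.Agent.H2.PF6

open Cfsg Cfsg.Agent.Lib.helper3.Irr Cfsg.Agent.Lib.helper3.IndFun Cfsg.Agent.Lib.helper3.Coh
open scoped ComplexConjugate

section main

variable {L : Type*} [Group L] [Fintype L] {G : Type*} [Group G] [Fintype G]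

/-- `S(A)` contains a character of degree `[L:K]` when `K/A` is solvable and nontrivial. -/
theorem exists_linear_induced (K : Subgroup L) [hK : K.Normal] (hsolv : Group.IsSolvable K)
    (A : Subgroup L) [A.Normal] (hAK : A < K) :
    ∃ θ ∈ thetaSet K A, (θ : K → ℂ) 1 = 1 := by
  haveI := hsolv
  have hN : A.subgroupOf K ≠ ⊤ := by
    rw [Ne, Subgroup.subgroupOf_eq_top]
    exact not_le_of_gt hAK
  obtain ⟨θ, hθ, h1, hne⟩ := exists_linear_irrAbove (A.subgroupOf K) hN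
  refine ⟨θ, ?_, h1⟩
  rw [mem_thetaSet]
  refine ⟨hne, fun a ha => ?_⟩
  exact (mem_irrAbove.mp hθ) a (Subgroup.mem_subgroupOf.mpr ha)

theorem relIndex_mul_card' (D C : Subgroup L) (hDC : D ≤ C) :
    D.relIndex C * Nat.card D = Nat.card C := by
  have h1 : (D.subgroupOf C).index * Nat.card (D.subgroupOf C) = Nat.card C :=
    Subgroup.index_mul_card _
  have h2 : Nat.card (D.subgroupOf C) = Nat.card D :=
    Nat.card_congr (Subgroup.subgroupOfEquivOfLe hDC).toEquiv
  rw [h2] at h1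
  exact h1

/-- Peterfalvi (6.3). -/
theorem s1519 (K : Subgroup L) [hK : K.Normal] (hsolv : Group.IsSolvable K)
    (τ : (L → ℂ) → (G → ℂ)) (R : (L → ℂ) → Finset (G → ℂ))
    (hS : IsCoherenceSystem (inducedIrrAbove K ⊥) τ R) (A B C D : Subgroup L) [A.Normal]
    [B.Normal] [C.Normal] [D.Normal] (hAK : A < K) (hBK : B < K) (hBD : B ≤ D) (hDC : D ≤ C)
    (hCK : C ≤ K) (hcent : ∀ x ∈ D, ∀ y ∈ C, x * y * x⁻¹ * y⁻¹ ∈ B)
    (hA : IsCoherent (inducedIrrAbove K A) ({1}ᶜ : Set L) τ)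
    (hlt : 4 * C.index ^ 2 * D.relIndex C < (A.relIndex K - 1) ^ 2) :
    IsCoherent (inducedIrrAbove K B) ({1}ᶜ : Set L) τ := by
  classical
  have hfin : (inducedIrrAbove K (⊥ : Subgroup L)).Finite := CS.finite hS
  have hAS : inducedIrrAbove K A ⊆ inducedIrrAbove K ⊥ := inducedIrrAbove_mono K bot_le
  have hBS : inducedIrrAbove K B ⊆ inducedIrrAbove K ⊥ := inducedIrrAbove_mono K bot_le
  set FA : Finset (L → ℂ) := (hfin.subset hAS).toFinset with hFA
  set FB : Finset (L → ℂ) := (hfin.subset hBS).toFinset with hFB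
  have hFA' : ∀ φ, φ ∈ FA ↔ φ ∈ inducedIrrAbove K A := fun φ => Set.Finite.mem_toFinset _
  have hFB' : ∀ φ, φ ∈ FB ↔ φ ∈ inducedIrrAbove K B := fun φ => Set.Finite.mem_toFinset _
  have hFAc : (↑FA : Set (L → ℂ)) = inducedIrrAbove K A := Set.Finite.coe_toFinset _
  have hFBc : (↑FB : Set (L → ℂ)) = inducedIrrAbove K B := Set.Finite.coe_toFinset _
  -- degree and norm functions
  have hdeg : ∀ φ ∈ inducedIrrAbove K (⊥ : Subgroup L), ∃ m : ℕ, φ 1 = (m : ℂ) :=
    fun φ hφ => exists_nat_apply_one (hS.isCharacter φ hφ)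
  have hnorm : ∀ φ ∈ inducedIrrAbove K (⊥ : Subgroup L), ∃ m : ℕ, 0 < m ∧ classInner φ φ = (m : ℂ) :=
    fun φ hφ => CS.exists_norm hS hφ
  choose! d hd using hdeg
  choose! n hn using hnorm
  -- the character of degree `[L:K]` in `S(A)`
  obtain ⟨lam, hlam, hlam1⟩ := exists_linear_induced K hsolv A hAK
  set χ₁ : L → ℂ := indFun K (lam : K → ℂ) with hχ₁
  have hχ₁A : χ₁ ∈ inducedIrrAbove K A := (mem_inducedIrrAbove K).mpr ⟨lam, hlam, rfl⟩
  have hdχ₁ : d χ₁ = K.index := by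
    have h1 := hd χ₁ (hAS hχ₁A)
    rw [hχ₁, indFun_one_eq, hlam1, mul_one] at h1
    exact_mod_cast h1.symm
  -- the sum over `S(A)`
  have hsumC := sum_sq_div K A hAK.le FA hFA' d n
    (fun φ hφ => hd φ (hAS ((hFA' φ).mp hφ)))
    (fun φ hφ => (hn φ (hAS ((hFA' φ).mp hφ))).2)
    (fun φ hφ => (hn φ (hAS ((hFA' φ).mp hφ))).1.ne')
  have hsumR : ∑ φ ∈ FA, ((d φ : ℝ) ^ 2 / (n φ : ℝ))
      = (K.index : ℝ) * ((A.relIndex K : ℝ) - 1) := by
    apply Complex.ofReal_injective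
    push_cast
    exact hsumC
  -- apply the iterated criterion
  have hmany := CS.extend_many hS d n hd (fun φ hφ => (hn φ hφ).2) χ₁ FB
    (by rw [hFBc]; exact hBS)
    (fun φ hφ => (hFB' _).mpr (inducedIrrAbove_conj K ((hFB' φ).mp hφ)))
    (FB \ FA).card FA le_rfl (by rw [hFAc]; exact hAS)
    (fun φ hφ => (hFA' _).mpr (inducedIrrAbove_conj K ((hFA' φ).mp hφ)))
    (by rw [hFAc]; exact hA) ((hFA' _).mpr hχ₁A) ?_ ?_
  · -- restrict to `S(B)`
    apply isCoherent_subset hmany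
    · rw [Finset.coe_union, hFBc]
      exact Set.subset_union_right
    · apply CS.exists_ne_zero hS hBS (fun φ hφ => inducedIrrAbove_conj K hφ)
      obtain ⟨θ, hθ, -⟩ := exists_linear_induced K hsolv B hBK
      exact ⟨_, (mem_inducedIrrAbove K).mpr ⟨θ, hθ, rfl⟩⟩
  · -- divisibility
    intro χ hχ
    obtain ⟨θ, hθ, rfl⟩ := (mem_inducedIrrAbove K).mp ((hFB' χ).mp hχ)
    obtain ⟨t, ht⟩ := exists_nat_apply_one (isCharacter_of_isIrrCharacter θ.2)
    have h1 := hd _ (hBS ((hFB' _).mp hχ))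
    rw [indFun_one_eq, ht] at h1
    have h2 : d (indFun K (θ : K → ℂ)) = K.index * t := by exact_mod_cast h1.symm
    rw [hdχ₁, h2]
    exact Dvd.intro _ rfl
  · -- the inequality
    intro χ hχ
    obtain ⟨θ, hθ, rfl⟩ := (mem_inducedIrrAbove K).mp ((hFB' χ).mp hχ)
    obtain ⟨t, ht⟩ := exists_nat_apply_one (isCharacter_of_isIrrCharacter θ.2)
    have h1 := hd _ (hBS ((hFB' _).mp hχ))
    rw [indFun_one_eq, ht] at h1
    have h2 : d (indFun K (θ : K → ℂ)) = K.index * t := by exact_mod_cast h1.symm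
    rw [hdχ₁, h2, hsumR]
    have hb := degree_bound K hBD hDC hCK hcent hθ ht
    exact arith63 K.index t (Nat.card K) (Nat.card C) (Nat.card D) (Nat.card L) C.index
      (D.relIndex C) (A.relIndex K) (Subgroup.index_mul_card K) (Subgroup.index_mul_card C)
      (relIndex_mul_card' D C hDC) Nat.card_pos Nat.card_pos
      (Nat.pos_of_ne_zero Subgroup.index_ne_zero_of_finite) hb hlt

end main

end Cfsg.Agent.H2.PF6
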