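import Mathlib
import Cfsg.Prelude.Def_OddOrderChar
import Cfsg.Agent.H2.PF6.E

set_option autoImplicit false
set_option linter.style.haveILetI false
set_option linter.unusedSectionVars false

/-!
# Peterfalvi (6.4): coherence descends through a nilpotent section
-/

namespace Cfsg.Agent.H2.PF6

open Cfsg Cfsg.Agent.Lib.helper3.Irr Cfsg.Agent.Lib.helper3.IndFun Cfsg.Agent.Lib.helper3.Coh
open scoped ComplexConjugate commutatorElement

section series

variable {L : Type*} [Group L]

/-- The descending series `X₀ = H₁`, `Xᵢ₊₁ = [Xᵢ, H] M`. -/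
def descSeries (H₁ H M : Subgroup L) : ℕ → Subgroup L
  | 0 => H₁
  | n + 1 => ⁅descSeries H₁ H M n, H⁆ ⊔ M

theorem descSeries_normal (H₁ H M : Subgroup L) [H₁.Normal] [H.Normal] [M.Normal] (n : ℕ) :
    (descSeries H₁ H M n).Normal := by
  induction n with
  | zero => exact inferInstanceAs H₁.Normal
  | succ n ih =>
    haveI := ih
    show (⁅descSeries H₁ H M n, H⁆ ⊔ M).Normal
    infer_instance

theorem le_descSeries (H₁ H M : Subgroup L) (hM : M ≤ H₁) (n : ℕ) : M ≤ descSeries H₁ H M n := by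
  cases n with
  | zero => exact hM
  | succ n => exact le_sup_right

theorem descSeries_succ_le (H₁ H M : Subgroup L) [H₁.Normal] [H.Normal] [M.Normal] (hM : M ≤ H₁)
    (n : ℕ) : descSeries H₁ H M (n + 1) ≤ descSeries H₁ H M n := by
  haveI := descSeries_normal H₁ H M n
  show ⁅descSeries H₁ H M n, H⁆ ⊔ M ≤ descSeries H₁ H M n
  exact sup_le (Subgroup.commutator_le_left _ _) (le_descSeries H₁ H M hM n)

theorem descSeries_le (H₁ H M : Subgroup L) [H₁.Normal] [H.Normal] [M.Normal] (hM : M ≤ H₁)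
    (n : ℕ) : descSeries H₁ H M n ≤ H₁ := by
  induction n with
  | zero => exact le_rfl
  | succ n ih => exact (descSeries_succ_le H₁ H M hM n).trans ih

/-- If `H/M` is nilpotent the series reaches `M`. -/
theorem descSeries_eq (H₁ H M : Subgroup L) [H₁.Normal] [H.Normal] [M.Normal] (hM : M ≤ H₁)
    (hH : H₁ ≤ H) [(M.subgroupOf H).Normal]
    (hnil : Group.IsNilpotent (↥H ⧸ M.subgroupOf H)) : ∃ n, descSeries H₁ H M n = M := by
  obtain ⟨n, hn⟩ := Subgroup.nilpotent_iff_lowerCentralSeries.mp hnil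
  refine ⟨n, le_antisymm ?_ (le_descSeries H₁ H M hM n)⟩
  set q : ↥H →* ↥H ⧸ M.subgroupOf H := QuotientGroup.mk' (M.subgroupOf H) with hq
  -- the preimages of the lower central series
  have key : ∀ i, ∀ x ∈ descSeries H₁ H M i, ∃ hx : x ∈ H,
      q ⟨x, hx⟩ ∈ Subgroup.lowerCentralSeries (⊤ : Subgroup (↥H ⧸ M.subgroupOf H)) i := by
    intro i
    induction i with
    | zero =>
      intro x hx
      exact ⟨hH hx, Subgroup.mem_top _⟩
    | succ i ih =>
      intro x hx
      have hle : descSeries H₁ H M (i + 1) ≤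
          ((Subgroup.lowerCentralSeries (⊤ : Subgroup (↥H ⧸ M.subgroupOf H)) (i + 1)).comap q).map
            H.subtype := by
        show ⁅descSeries H₁ H M i, H⁆ ⊔ M ≤ _
        apply sup_le
        · rw [Subgroup.commutator_le]
          intro a ha b hb
          obtain ⟨haH, haq⟩ := ih a ha
          refine ⟨⁅(⟨a, haH⟩ : ↥H), ⟨b, hb⟩⁆, ?_, rfl⟩
          rw [SetLike.mem_coe, Subgroup.mem_comap, map_commutatorElement]
          exact Subgroup.commutator_mem_commutator haq (Subgroup.mem_top _)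
        · intro m hm
          have hmH : m ∈ H := hH (hM hm)
          refine ⟨⟨m, hmH⟩, ?_, rfl⟩
          rw [SetLike.mem_coe, Subgroup.mem_comap]
          have : q ⟨m, hmH⟩ = 1 := by
            rw [hq, QuotientGroup.mk'_apply, QuotientGroup.eq_one_iff]
            exact Subgroup.mem_subgroupOf.mpr hm
          rw [this]
          exact Subgroup.one_mem _
      obtain ⟨y, hy, rfl⟩ := hle hx
      exact ⟨y.2, hy⟩
  intro x hx
  obtain ⟨hxH, hxq⟩ := key n x hx
  rw [hn, Subgroup.mem_bot, hq, QuotientGroup.mk'_apply, QuotientGroup.eq_one_iff] at hxq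
  exact Subgroup.mem_subgroupOf.mp hxq

end series

/-- The arithmetic of (6.4). -/
theorem arith64 (l k h : ℕ) (hk : 0 < k) (hh : 4 * l ^ 2 + 1 < h) :
    4 * (k * l) ^ 2 * h < (h * k - 1) ^ 2 := by
  obtain ⟨h', rfl⟩ : ∃ h', h = h' + 1 := ⟨h - 1, by omega⟩
  have h1 : 4 * l ^ 2 + 1 ≤ h' := by omega
  have h2 : h' * k ≤ (h' + 1) * k - 1 := by
    have : (h' + 1) * k = h' * k + k := by ring
    omega
  have h3 : 4 * (k * l) ^ 2 * (h' + 1) < (h' * k) ^ 2 := by
    have e1 : (h' * k) ^ 2 = h' * h' * k ^ 2 := by ring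
    have e2 : (4 * l ^ 2 + 1) * h' * k ^ 2 ≤ h' * h' * k ^ 2 := by
      apply Nat.mul_le_mul_right
      exact Nat.mul_le_mul_right _ h1
    have hk2 : 0 < k ^ 2 := by positivity
    have e3 : 4 * (k * l) ^ 2 * (h' + 1) < (4 * l ^ 2 + 1) * h' * k ^ 2 := by
      have : (4 * l ^ 2 + 1) * h' * k ^ 2 = 4 * (k * l) ^ 2 * h' + h' * k ^ 2 := by ring
      rw [this]
      have : 4 * (k * l) ^ 2 * (h' + 1) = 4 * (k * l) ^ 2 * h' + 4 * l ^ 2 * k ^ 2 := by ring
      rw [this]
      have : 4 * l ^ 2 * k ^ 2 < h' * k ^ 2 := by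
        apply Nat.mul_lt_mul_of_pos_right _ hk2
        omega
      omega
    rw [e1]
    omega
  exact lt_of_lt_of_le h3 (Nat.pow_le_pow_left h2 2)

section main

variable {L : Type*} [Group L] [Fintype L] {G : Type*} [Group G] [Fintype G]

theorem relIndex_pos' (A B : Subgroup L) : 0 < A.relIndex B :=
  Nat.pos_of_ne_zero (Subgroup.index_ne_zero_of_finite (H := A.subgroupOf B))

/-- Peterfalvi (6.4). -/
theorem s1520 (K : Subgroup L) [hK : K.Normal] (hsolv : Group.IsSolvable K)
    (τ : (L → ℂ) → (G → ℂ)) (R : (L → ℂ) → Finset (G → ℂ))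
    (hS : IsCoherenceSystem (inducedIrrAbove K ⊥) τ R) (M H₁ H : Subgroup L) [M.Normal]
    [H₁.Normal] [H.Normal] (hMH₁ : M ≤ H₁) (hH₁H : H₁ ≤ H) (hHK : H ≤ K)
    [(M.subgroupOf H).Normal] (hnil : Group.IsNilpotent (↥H ⧸ M.subgroupOf H))
    (hcoh : IsCoherent (inducedIrrAbove K H₁) ({1}ᶜ : Set L) τ)
    (hbig : 4 * K.index ^ 2 + 1 < H₁.relIndex H) :
    IsCoherent (inducedIrrAbove K M) ({1}ᶜ : Set L) τ := by
  obtain ⟨n, hn⟩ := descSeries_eq H₁ H M hMH₁ hH₁H hnil
  have hlt' : H₁ < H := by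
    refine lt_of_le_of_ne hH₁H (fun h => ?_)
    have : H₁.relIndex H = 1 := Subgroup.relIndex_eq_one.mpr h.ge
    omega
  have key : ∀ i, IsCoherent (inducedIrrAbove K (descSeries H₁ H M i)) ({1}ᶜ : Set L) τ := by
    intro i
    induction i with
    | zero => exact hcoh
    | succ i ih =>
      haveI := descSeries_normal H₁ H M i
      haveI := descSeries_normal H₁ H M (i + 1)
      have hXH₁ : descSeries H₁ H M i ≤ H₁ := descSeries_le H₁ H M hMH₁ i
      have hXH : descSeries H₁ H M i ≤ H := hXH₁.trans hH₁H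
      have hX'X : descSeries H₁ H M (i + 1) ≤ descSeries H₁ H M i :=
        descSeries_succ_le H₁ H M hMH₁ i
      have hAK : descSeries H₁ H M i < K := lt_of_le_of_lt hXH₁ (lt_of_lt_of_le hlt' hHK)
      have hBK : descSeries H₁ H M (i + 1) < K := lt_of_le_of_lt hX'X hAK
      apply s1519 K hsolv τ R hS (descSeries H₁ H M i) (descSeries H₁ H M (i + 1)) H
        (descSeries H₁ H M i) hAK hBK hX'X hXH hHK ?_ ih ?_
      · intro x hx y hy
        have : ⁅x, y⁆ ∈ ⁅descSeries H₁ H M i, H⁆ := Subgroup.commutator_mem_commutator hx hy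
        rw [commutatorElement_def] at this
        exact (le_sup_left : ⁅descSeries H₁ H M i, H⁆ ≤ ⁅descSeries H₁ H M i, H⁆ ⊔ M) this
      · have e1 : H.index = H.relIndex K * K.index := (Subgroup.relIndex_mul_index hHK).symm
        have e2 : (descSeries H₁ H M i).relIndex K
            = (descSeries H₁ H M i).relIndex H * H.relIndex K :=
          (Subgroup.relIndex_mul_relIndex _ _ _ hXH hHK).symm
        have e3 : H₁.relIndex H ≤ (descSeries H₁ H M i).relIndex H :=
          Nat.le_of_dvd (relIndex_pos' _ _) (Subgroup.relIndex_dvd_of_le_left H hXH₁)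
        rw [e1, e2]
        exact arith64 K.index (H.relIndex K) _ (relIndex_pos' _ _) (lt_of_lt_of_le hbig e3)
  rw [← hn]
  exact key n

end main

end Cfsg.Agent.H2.PF6
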