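import Mathlib

set_option autoImplicit false
set_option linter.style.haveILetI false
set_option linter.unusedSectionVars false

/-!
# Peterfalvi §6, part G: counting in a Frobenius-like quotient
-/

namespace Cfsg.Agent.H2.PF6

section generic

/-- If a finite group acts on a finite invariant set with all orbits of the same size `l`, then
`l` divides the size of the set. -/
theorem card_dvd_of_uniform_orbits {Γ X : Type*} [Group Γ] [Fintype Γ] [DecidableEq X]
    (act : Γ → X → X) (act_one : ∀ x, act 1 x = x)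
    (act_mul : ∀ a b x, act (a * b) x = act a (act b x)) (l : ℕ) :
    ∀ s : Finset X, (∀ γ, ∀ x ∈ s, act γ x ∈ s) →
      (∀ x ∈ s, (Finset.univ.image (fun γ : Γ => act γ x)).card = l) → l ∣ s.card := by
  intro s
  induction s using Finset.strongInduction with
  | H s ih =>
    intro hs horb
    rcases s.eq_empty_or_nonempty with rfl | ⟨x₀, hx₀⟩
    · simp
    · set O : Finset X := Finset.univ.image (fun γ : Γ => act γ x₀) with hO
      have hOs : O ⊆ s := by
        intro y hy
        obtain ⟨γ, -, rfl⟩ := Finset.mem_image.mp hy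
        exact hs γ x₀ hx₀
      have hx₀O : x₀ ∈ O := Finset.mem_image.mpr ⟨1, Finset.mem_univ _, act_one x₀⟩
      have hlt : s \ O ⊂ s := by
        rw [Finset.ssubset_iff_of_subset Finset.sdiff_subset]
        exact ⟨x₀, hx₀, fun h => (Finset.mem_sdiff.mp h).2 hx₀O⟩
      have hinv : ∀ γ, ∀ x ∈ s \ O, act γ x ∈ s \ O := by
        intro γ x hx
        obtain ⟨hxs, hxO⟩ := Finset.mem_sdiff.mp hx
        refine Finset.mem_sdiff.mpr ⟨hs γ x hxs, fun h => hxO ?_⟩
        obtain ⟨δ, -, hδ⟩ := Finset.mem_image.mp h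
        refine Finset.mem_image.mpr ⟨γ⁻¹ * δ, Finset.mem_univ _, ?_⟩
        show act (γ⁻¹ * δ) x₀ = x
        rw [act_mul, hδ, ← act_mul, inv_mul_cancel, act_one]
      have h1 := ih (s \ O) hlt hinv
        (fun x hx => horb x (Finset.mem_sdiff.mp hx).1)
      have h2 : s.card = (s \ O).card + O.card := by
        rw [Finset.card_sdiff_add_card_eq_card hOs]
      rw [h2]
      exact Dvd.dvd.add h1 (by rw [horb x₀ hx₀])

/-- In a finite group, the number of conjugates of `t` times the order of its centralizer is the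
order of the group. -/
theorem card_conj_mul_card_centralizer {Q : Type*} [Group Q] [Fintype Q] [DecidableEq Q] (t : Q) :
    (Finset.univ.image (fun x : Q => x * t * x⁻¹)).card
      * Nat.card (Subgroup.centralizer ({t} : Set Q)) = Nat.card Q := by
  classical
  set O : Finset Q := Finset.univ.image (fun x : Q => x * t * x⁻¹) with hO
  have h1 : (Finset.univ : Finset Q).card
      = ∑ b ∈ O, (Finset.univ.filter (fun x : Q => x * t * x⁻¹ = b)).card :=
    Finset.card_eq_sum_card_fiberwise (fun x _ => Finset.mem_image.mpr ⟨x, Finset.mem_univ _, rfl⟩)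
  have h2 : ∀ b ∈ O, (Finset.univ.filter (fun x : Q => x * t * x⁻¹ = b)).card
      = Nat.card (Subgroup.centralizer ({t} : Set Q)) := by
    intro b hb
    obtain ⟨y, -, rfl⟩ := Finset.mem_image.mp hb
    rw [Nat.card_eq_fintype_card, ← Fintype.card_coe]
    apply Fintype.card_congr
    refine ⟨fun x => ⟨y⁻¹ * x.1, ?_⟩, fun c => ⟨y * c.1, ?_⟩, ?_, ?_⟩
    · have hx := (Finset.mem_filter.mp x.2).2
      rw [Subgroup.mem_centralizer_iff]
      intro z hz
      rw [Set.mem_singleton_iff] at hz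
      subst hz
      have : y⁻¹ * x.1 * z * (y⁻¹ * x.1)⁻¹ = z := by
        have e : y⁻¹ * x.1 * z * (y⁻¹ * x.1)⁻¹ = y⁻¹ * (x.1 * z * x.1⁻¹) * y := by group
        rw [e, hx]; group
      calc z * (y⁻¹ * x.1) = (y⁻¹ * x.1 * z * (y⁻¹ * x.1)⁻¹) * (y⁻¹ * x.1) := by rw [this]
        _ = y⁻¹ * x.1 * z := by group
    · refine Finset.mem_filter.mpr ⟨Finset.mem_univ _, ?_⟩
      have hc := Subgroup.mem_centralizer_iff.mp c.2 t (Set.mem_singleton t)
      have : c.1 * t * c.1⁻¹ = t := by rw [← hc]; group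
      calc y * c.1 * t * (y * c.1)⁻¹ = y * (c.1 * t * c.1⁻¹) * y⁻¹ := by group
        _ = y * t * y⁻¹ := by rw [this]
    · intro x
      apply Subtype.ext
      simp
    · intro c
      apply Subtype.ext
      simp
  rw [Finset.sum_congr rfl h2, Finset.sum_const, smul_eq_mul, Finset.card_univ,
    ← Nat.card_eq_fintype_card] at h1
  exact h1.symm

end generic

section frob

open scoped commutatorElement

variable {L : Type*} [Group L] [Finite L]

/-- In a Frobenius-like quotient `L/H₁` with abelian kernel `K/H₁`, the index `[L:K]` divides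
`[N:H₁] - 1` for every normal subgroup `N` of `L` between `H₁` and `K`. -/
theorem frob_dvd (H₁ N K : Subgroup L) [hH₁ : H₁.Normal] [hN : N.Normal] [hK : K.Normal]
    (hH₁N : H₁ ≤ N) (hNK : N ≤ K) (hKK : ⁅K, K⁆ ≤ H₁)
    (hfrob : ∀ k ∈ K, k ∉ H₁ → ∀ x : L, x * k * x⁻¹ * k⁻¹ ∈ H₁ → x ∈ K) :
    K.index ∣ H₁.relIndex N - 1 := by
  classical
  letI : Fintype L := Fintype.ofFinite L
  set π : L →* L ⧸ H₁ := QuotientGroup.mk' H₁ with hπ
  letI : Fintype (L ⧸ H₁) := Fintype.ofFinite _
  have hπs : Function.Surjective π := QuotientGroup.mk'_surjective H₁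
  have hker : π.ker = H₁ := QuotientGroup.ker_mk' H₁
  set T : Subgroup (L ⧸ H₁) := N.map π with hT
  set Kb : Subgroup (L ⧸ H₁) := K.map π with hKb
  haveI hTn : T.Normal := Subgroup.Normal.map hN π hπs
  have hcardT : Nat.card T = H₁.relIndex N := by
    rw [hT, ← Subgroup.relIndex_ker, hker]
  have hidx : Kb.index = K.index := Subgroup.index_map_eq K hπs (by rw [hker]; exact hH₁N.trans hNK)
  -- centralizers of nonidentity elements of `T`
  have hcent : ∀ t ∈ T, t ≠ 1 → Subgroup.centralizer ({t} : Set (L ⧸ H₁)) = Kb := by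
    intro t ht ht1
    obtain ⟨n, hn, rfl⟩ := Subgroup.mem_map.mp ht
    have hnH₁ : n ∉ H₁ := by
      intro h
      apply ht1
      rw [hπ, QuotientGroup.mk'_apply, QuotientGroup.eq_one_iff]
      exact h
    apply le_antisymm
    · intro q hq
      obtain ⟨x, rfl⟩ := hπs q
      have hc := Subgroup.mem_centralizer_iff.mp hq (π n) (Set.mem_singleton _)
      refine Subgroup.mem_map.mpr ⟨x, ?_, rfl⟩
      apply hfrob n (hNK hn) hnH₁ x
      rw [← hker, MonoidHom.mem_ker]
      simp only [map_mul, map_inv]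
      rw [← hc]
      group
    · intro q hq
      obtain ⟨k, hk, rfl⟩ := Subgroup.mem_map.mp hq
      rw [Subgroup.mem_centralizer_iff]
      intro z hz
      rw [Set.mem_singleton_iff] at hz
      subst hz
      have h1 : ⁅n, k⁆ ∈ H₁ := hKK (Subgroup.commutator_mem_commutator (hNK hn) hk)
      rw [← hker, MonoidHom.mem_ker, commutatorElement_def] at h1
      simp only [map_mul, map_inv] at h1
      calc π n * π k = (π n * π k * (π n)⁻¹ * (π k)⁻¹) * (π k * π n) := by group
        _ = π k * π n := by rw [h1, one_mul]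
  -- the set `T \ {1}`
  set s : Finset (L ⧸ H₁) := (Finset.univ.filter (fun q => q ∈ T)).erase 1 with hs
  have hscard : s.card = Nat.card T - 1 := by
    rw [hs, Finset.card_erase_of_mem (by simp [T.one_mem]), Nat.card_eq_fintype_card,
      Fintype.card_subtype]
  have hmem : ∀ q, q ∈ s ↔ q ∈ T ∧ q ≠ 1 := by
    intro q
    rw [hs, Finset.mem_erase, Finset.mem_filter]
    constructor
    · rintro ⟨h1, -, h2⟩; exact ⟨h2, h1⟩
    · rintro ⟨h1, h2⟩; exact ⟨h2, Finset.mem_univ _, h1⟩
  have key := card_dvd_of_uniform_orbits (Γ := L ⧸ H₁) (fun x q => x * q * x⁻¹)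
    (by intro x; simp) (by intro a b x; simp only [mul_inv_rev]; group) K.index s ?_ ?_
  · rw [hscard, hcardT] at key
    exact key
  · intro γ x hx
    rw [hmem] at hx ⊢
    refine ⟨hTn.conj_mem x hx.1 γ, fun h => hx.2 ?_⟩
    have : x = γ⁻¹ * (γ * x * γ⁻¹) * γ := by group
    rw [this, h]; group
  · intro t ht
    rw [hmem] at ht
    have h1 := card_conj_mul_card_centralizer t
    rw [hcent t ht.1 ht.2] at h1
    have h2 : Kb.index * Nat.card Kb = Nat.card (L ⧸ H₁) := Subgroup.index_mul_card Kb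
    rw [← h2, hidx] at h1
    exact Nat.eq_of_mul_eq_mul_right Nat.card_pos h1

/-- An odd number `a > 1` congruent to `1` modulo the odd number `l` is at least `2l + 1`. -/
theorem two_mul_add_one_le {l a : ℕ} (hl : Odd l) (ha : Odd a) (ha1 : 1 < a) (h : l ∣ a - 1) :
    2 * l + 1 ≤ a := by
  obtain ⟨j, hj⟩ := h
  have hj0 : j ≠ 0 := by
    rintro rfl
    omega
  have hj1 : j ≠ 1 := by
    rintro rfl
    obtain ⟨u, hu⟩ := hl
    obtain ⟨v, hv⟩ := ha
    omega
  have : 2 * l ≤ l * j := by
    calc 2 * l = l * 2 := by ring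
      _ ≤ l * j := Nat.mul_le_mul_left _ (by omega)
  omega

theorem arith_a {l a b : ℕ} (hl : Odd l) (ha : Odd a) (hb : Odd b) (ha1 : 1 < a) (hb1 : 1 < b)
    (h1 : l ∣ a - 1) (h2 : l ∣ a * b - 1) : 4 * l ^ 2 + 1 < a * b := by
  have ha' := two_mul_add_one_le hl ha ha1 h1
  have hcop : Nat.Coprime l a := by
    obtain ⟨j, hj⟩ := h1
    have : a = l * j + 1 := by omega
    rw [this]
    simp
  have h3 : l ∣ a * (b - 1) := by
    have e : a * b - 1 = a * (b - 1) + (a - 1) := by
      obtain ⟨b', rfl⟩ : ∃ b', b = b' + 1 := ⟨b - 1, by omega⟩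
      have : a * (b' + 1) = a * b' + a := by ring
      simp only [Nat.add_sub_cancel]
      omega
    rw [e] at h2
    exact (Nat.dvd_add_iff_left h1).mpr h2
  have h4 : l ∣ b - 1 := hcop.dvd_of_dvd_mul_left h3
  have hb' := two_mul_add_one_le hl hb hb1 h4
  have hl0 : 0 < l := hl.pos
  calc 4 * l ^ 2 + 1 < (2 * l + 1) * (2 * l + 1) := by nlinarith
    _ ≤ a * b := Nat.mul_le_mul ha' hb'

/-- Case (a) of Peterfalvi (6.5): a normal subgroup strictly between forces a large index. -/
theorem frob_bound (H₁ N K : Subgroup L) [hH₁ : H₁.Normal] [hN : N.Normal] [hK : K.Normal]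
    (hodd : Odd (Nat.card L)) (hH₁N : H₁ < N) (hNK : N < K) (hKK : ⁅K, K⁆ ≤ H₁)
    (hfrob : ∀ k ∈ K, k ∉ H₁ → ∀ x : L, x * k * x⁻¹ * k⁻¹ ∈ H₁ → x ∈ K) :
    4 * K.index ^ 2 + 1 < H₁.relIndex K := by
  have e : H₁.relIndex N * N.relIndex K = H₁.relIndex K :=
    Subgroup.relIndex_mul_relIndex _ _ _ hH₁N.le hNK.le
  have h1 := frob_dvd H₁ N K hH₁N.le hNK.le hKK hfrob
  have h2 := frob_dvd H₁ K K (hH₁N.le.trans hNK.le) le_rfl hKK hfrob
  rw [← e] at h2 ⊢
  have hoddsub : ∀ A B : Subgroup L, Odd (A.relIndex B) := by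
    intro A B
    have : A.relIndex B ∣ Nat.card L :=
      (Subgroup.relIndex_dvd_card A B).trans (Subgroup.card_subgroup_dvd_card B)
    exact Odd.of_dvd_nat hodd this
  have hl : Odd K.index := Odd.of_dvd_nat hodd (Subgroup.index_dvd_card K)
  have hne : ∀ A B : Subgroup L, A < B → 1 < A.relIndex B := by
    intro A B hAB
    have h0 : A.relIndex B ≠ 0 := Subgroup.index_ne_zero_of_finite (H := A.subgroupOf B)
    have h1 : A.relIndex B ≠ 1 := by
      intro h
      exact not_le_of_gt hAB (Subgroup.relIndex_eq_one.mp h)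
    omega
  exact arith_a hl (hoddsub _ _) (hoddsub _ _) (hne _ _ hH₁N) (hne _ _ hNK) h1 h2

end frob

end Cfsg.Agent.H2.PF6
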