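import Mathlib

set_option autoImplicit false
set_option linter.style.haveILetI false
set_option linter.unusedSectionVars false

/-!
# Peterfalvi §6, part H: two facts on finite nilpotent groups and their abelianization
-/

namespace Cfsg.Agent.H2.PF6

open scoped commutatorElement

section nilp

/-- In a finite nilpotent group every prime divisor of the order divides the order of the
abelianization. -/
theorem prime_dvd_index_commutator (G : Type*) [Group G] [Group.IsNilpotent G] :
    Finite G → ∀ q : ℕ, q.Prime → q ∣ Nat.card G → q ∣ (commutator G).index := by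
  refine Group.nilpotent_center_quotient_ind
    (P := fun G [Group G] [Group.IsNilpotent G] =>
      Finite G → ∀ q : ℕ, q.Prime → q ∣ Nat.card G → q ∣ (commutator G).index) G ?_ ?_
  · intro G _ _ _ q hq hdvd
    have : Nat.card G = 1 := Nat.card_unique
    rw [this] at hdvd
    exact absurd (Nat.le_of_dvd one_pos hdvd) (by have := hq.two_le; omega)
  · intro G _ _ ih hfin q hq hdvd
    haveI := hfin
    by_cases hqz : q ∣ (Subgroup.center G).index
    · -- use the quotient
      have h1 : q ∣ (commutator (G ⧸ Subgroup.center G)).index := by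
        apply ih inferInstance q hq
        rw [← Subgroup.index_eq_card]
        exact hqz
      have h2 : commutator (G ⧸ Subgroup.center G)
          = (commutator G).map (QuotientGroup.mk' (Subgroup.center G)) := by
        rw [commutator_def, commutator_def, Subgroup.map_commutator,
          Subgroup.map_top_of_surjective _ (QuotientGroup.mk'_surjective _)]
      rw [h2] at h1
      exact h1.trans (Subgroup.index_map_dvd _ (QuotientGroup.mk'_surjective _))
    · -- use the transfer into the centre
      have hcard : Nat.card (Subgroup.center G) * (Subgroup.center G).index = Nat.card G :=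
        Subgroup.card_mul_index _
      have hqZ : q ∣ Nat.card (Subgroup.center G) := by
        rw [← hcard] at hdvd
        exact (hq.dvd_mul.mp hdvd).resolve_right hqz
      haveI : Fact q.Prime := ⟨hq⟩
      obtain ⟨z, hz⟩ := exists_prime_orderOf_dvd_card' q hqZ
      set f : G →* Subgroup.center G := MonoidHom.transferCenterPow G with hf
      have hfz : f (z : G) = z ^ (Subgroup.center G).index := by
        apply Subtype.ext
        rw [hf, MonoidHom.transferCenterPow_apply]
        rfl
      have hord : orderOf (f (z : G)) = q := by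
        rw [hfz, Nat.Coprime.orderOf_pow, hz]
        rw [hz]
        exact (Nat.Prime.coprime_iff_not_dvd hq).mpr hqz
      have h1 : q ∣ Nat.card f.range := by
        rw [← hord]
        have : orderOf (⟨f (z : G), ⟨_, rfl⟩⟩ : f.range) = orderOf (f (z : G)) :=
          Subgroup.orderOf_mk _ _
        rw [← this]
        exact orderOf_dvd_natCard _
      rw [← Subgroup.index_ker] at h1
      have hker : commutator G ≤ f.ker := by
        rw [commutator_eq_closure, Subgroup.closure_le]
        rintro x ⟨a, b, rfl⟩
        rw [SetLike.mem_coe, MonoidHom.mem_ker, map_commutatorElement, commutatorElement_def]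
        have hc : f a * f b = f b * f a := by
          apply Subtype.ext
          exact Subgroup.mem_center_iff.mp (f b).2 (f a : G)
        rw [hc]
        group
      exact h1.trans (Subgroup.index_dvd_of_le hker)

/-- A nilpotent group generated by one element modulo its commutator subgroup is abelian. -/
theorem commutator_eq_bot_of_cyclic (G : Type*) [Group G] [Group.IsNilpotent G] :
    ∀ g : G, (∀ x : G, ∃ i : ℤ, x * g ^ i ∈ commutator G) → commutator G = ⊥ := by
  refine Group.nilpotent_center_quotient_ind
    (P := fun G [Group G] [Group.IsNilpotent G] =>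
      ∀ g : G, (∀ x : G, ∃ i : ℤ, x * g ^ i ∈ commutator G) → commutator G = ⊥) G ?_ ?_
  · intro G _ _ g _
    exact Subsingleton.elim _ _
  · intro G _ _ ih g hg
    have hmap : commutator (G ⧸ Subgroup.center G)
        = (commutator G).map (QuotientGroup.mk' (Subgroup.center G)) := by
      rw [commutator_def, commutator_def, Subgroup.map_commutator,
        Subgroup.map_top_of_surjective _ (QuotientGroup.mk'_surjective _)]
    have h1 : commutator (G ⧸ Subgroup.center G) = ⊥ := by
      apply ih (QuotientGroup.mk' (Subgroup.center G) g)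
      intro x
      obtain ⟨y, rfl⟩ := QuotientGroup.mk'_surjective (Subgroup.center G) x
      obtain ⟨i, hi⟩ := hg y
      refine ⟨i, ?_⟩
      rw [hmap, ← map_zpow, ← map_mul]
      exact Subgroup.mem_map_of_mem _ hi
    have h2 : commutator G ≤ Subgroup.center G := by
      rw [hmap, Subgroup.map_eq_bot_iff, QuotientGroup.ker_mk'] at h1
      exact h1
    -- `G` is commutative
    have hcomm : ∀ x y : G, x * y = y * x := by
      intro x y
      obtain ⟨i, hi⟩ := hg x
      obtain ⟨j, hj⟩ := hg y
      have hci := Subgroup.mem_center_iff.mp (h2 hi)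
      have hcj := Subgroup.mem_center_iff.mp (h2 hj)
      have ex : x = (x * g ^ i) * g ^ (-i) := by group
      have ey : y = (y * g ^ j) * g ^ (-j) := by group
      set c := x * g ^ i with hc
      set d := y * g ^ j with hd
      rw [ex, ey]
      have hgg : g ^ (-i) * g ^ (-j) = g ^ (-j) * g ^ (-i) := by
        rw [← zpow_add, ← zpow_add, add_comm]
      calc c * g ^ (-i) * (d * g ^ (-j)) = c * (g ^ (-i) * d) * g ^ (-j) := by group
        _ = c * (d * g ^ (-i)) * g ^ (-j) := by rw [hcj]
        _ = (c * d) * (g ^ (-i) * g ^ (-j)) := by group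
        _ = (d * c) * (g ^ (-j) * g ^ (-i)) := by rw [hgg, ← hci d]
        _ = d * (c * g ^ (-j)) * g ^ (-i) := by group
        _ = d * (g ^ (-j) * c) * g ^ (-i) := by rw [hci]
        _ = d * g ^ (-j) * (c * g ^ (-i)) := by group
    rw [commutator_def, Subgroup.commutator_eq_bot_iff_le_centralizer]
    intro x _
    rw [Subgroup.mem_centralizer_iff]
    intro y _
    exact hcomm y x

end nilp

section bridge

variable {L : Type*} [Group L] [Finite L] (K M : Subgroup L)

theorem comap_commutator_quot (hMK : M ≤ K) [(M.subgroupOf K).Normal] :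
    (commutator (↥K ⧸ M.subgroupOf K)).comap (QuotientGroup.mk' (M.subgroupOf K))
      = (⁅K, K⁆ ⊔ M).subgroupOf K := by
  have h1 : commutator (↥K ⧸ M.subgroupOf K)
      = (commutator ↥K).map (QuotientGroup.mk' (M.subgroupOf K)) := by
    rw [commutator_def, commutator_def, Subgroup.map_commutator,
      Subgroup.map_top_of_surjective _ (QuotientGroup.mk'_surjective _)]
  rw [h1, Subgroup.comap_map_eq, QuotientGroup.ker_mk']
  apply Subgroup.map_injective K.subtype_injective
  rw [Subgroup.map_sup, Subgroup.map_subtype_commutator, Subgroup.map_subgroupOf_eq_of_le hMK,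
    Subgroup.map_subgroupOf_eq_of_le (sup_le (Subgroup.commutator_le_self K) hMK)]

theorem index_commutator_quot (hMK : M ≤ K) [(M.subgroupOf K).Normal] :
    (commutator (↥K ⧸ M.subgroupOf K)).index = (⁅K, K⁆ ⊔ M).relIndex K := by
  rw [← Subgroup.index_comap_of_surjective _ (QuotientGroup.mk'_surjective (M.subgroupOf K)),
    comap_commutator_quot K M hMK]
  rfl

theorem commutator_le_of_quot_eq_bot (hMK : M ≤ K) [(M.subgroupOf K).Normal]
    (h : commutator (↥K ⧸ M.subgroupOf K) = ⊥) : ⁅K, K⁆ ≤ M := by
  have h1 := comap_commutator_quot K M hMK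
  rw [h, MonoidHom.comap_bot, QuotientGroup.ker_mk'] at h1
  have h2 := congrArg (Subgroup.map K.subtype) h1
  rw [Subgroup.map_subgroupOf_eq_of_le hMK,
    Subgroup.map_subgroupOf_eq_of_le (sup_le (Subgroup.commutator_le_self K) hMK)] at h2
  rw [h2]
  exact le_sup_left

/-- Every prime divisor of `[K:M]` divides `[K:K'M]` when `K/M` is nilpotent. -/
theorem prime_dvd_relIndex_commutator (hMK : M ≤ K) [(M.subgroupOf K).Normal]
    (hnil : Group.IsNilpotent (↥K ⧸ M.subgroupOf K)) {q : ℕ} (hq : q.Prime)
    (hdvd : q ∣ M.relIndex K) : q ∣ (⁅K, K⁆ ⊔ M).relIndex K := by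
  rw [← index_commutator_quot K M hMK]
  apply prime_dvd_index_commutator _ inferInstance q hq
  rw [← Subgroup.index_eq_card]
  exact hdvd

/-- If `K/M` is nilpotent and `[K:K'M]` is a prime then `K/M` is abelian. -/
theorem commutator_le_of_prime_relIndex (hMK : M ≤ K) [(M.subgroupOf K).Normal]
    (hnil : Group.IsNilpotent (↥K ⧸ M.subgroupOf K))
    (hp : ((⁅K, K⁆ ⊔ M).relIndex K).Prime) : ⁅K, K⁆ ≤ M := by
  apply commutator_le_of_quot_eq_bot K M hMK
  rw [← index_commutator_quot K M hMK] at hp
  set Gb := ↥K ⧸ M.subgroupOf K with hGb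
  haveI : Fact ((commutator Gb).index).Prime := ⟨hp⟩
  have hcard : Nat.card (Gb ⧸ commutator Gb) = (commutator Gb).index :=
    (Subgroup.index_eq_card _).symm
  haveI : IsCyclic (Gb ⧸ commutator Gb) := isCyclic_of_prime_card hcard
  obtain ⟨a, ha⟩ := IsCyclic.exists_generator (α := Gb ⧸ commutator Gb)
  obtain ⟨g, rfl⟩ := QuotientGroup.mk'_surjective (commutator Gb) a
  apply commutator_eq_bot_of_cyclic Gb g
  intro x
  obtain ⟨i, hi⟩ := Subgroup.mem_zpowers_iff.mp (ha (QuotientGroup.mk' (commutator Gb) x))
  refine ⟨-i, ?_⟩
  rw [← QuotientGroup.eq_one_iff, QuotientGroup.mk_mul, QuotientGroup.mk_zpow]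
  have : (QuotientGroup.mk' (commutator Gb) g) ^ i = (x : Gb ⧸ commutator Gb) := hi
  rw [zpow_neg]
  rw [QuotientGroup.mk'_apply] at this
  rw [this]
  exact mul_inv_cancel _

end bridge

end Cfsg.Agent.H2.PF6
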