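import Mathlib
import Cfsg.Agent.H2.PF6.G

set_option autoImplicit false
set_option linter.style.haveILetI false
set_option linter.unusedSectionVars false

/-!
# Peterfalvi §6, part I: a normal subgroup strictly between `H₁` and `K`
when `K/H₁` is abelian and not of prime power order
-/

namespace Cfsg.Agent.H2.PF6

open scoped commutatorElement

section between

variable {L : Type*} [Group L] [Finite L]

/-- If `K/H₁` is abelian and two distinct primes divide `[K:H₁]`, there is a normal subgroup of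
`L` strictly between `H₁` and `K` (the preimage of the `p`-primary part). -/
theorem exists_normal_between (H₁ K : Subgroup L) [hH₁ : H₁.Normal] [hK : K.Normal]
    (hH₁K : H₁ ≤ K) (hKK : ⁅K, K⁆ ≤ H₁) {p q : ℕ} (hp : p.Prime) (hq : q.Prime) (hpq : p ≠ q)
    (hpd : p ∣ H₁.relIndex K) (hqd : q ∣ H₁.relIndex K) :
    ∃ N : Subgroup L, N.Normal ∧ H₁ < N ∧ N < K := by
  classical
  set π : L →* L ⧸ H₁ := QuotientGroup.mk' H₁ with hπ
  have hπs : Function.Surjective π := QuotientGroup.mk'_surjective H₁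
  have hker : π.ker = H₁ := QuotientGroup.ker_mk' H₁
  set Kb : Subgroup (L ⧸ H₁) := K.map π with hKb
  haveI hKbn : Kb.Normal := Subgroup.Normal.map hK π hπs
  have hcardKb : Nat.card Kb = H₁.relIndex K := by
    rw [hKb, ← Subgroup.relIndex_ker, hker]
  -- `Kb` is commutative
  have hcomm : ∀ a ∈ Kb, ∀ b ∈ Kb, a * b = b * a := by
    intro a ha b hb
    obtain ⟨x, hx, rfl⟩ := Subgroup.mem_map.mp ha
    obtain ⟨y, hy, rfl⟩ := Subgroup.mem_map.mp hb
    have h1 : ⁅x, y⁆ ∈ H₁ := hKK (Subgroup.commutator_mem_commutator hx hy)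
    rw [← hker, MonoidHom.mem_ker, commutatorElement_def] at h1
    simp only [map_mul, map_inv] at h1
    calc π x * π y = (π x * π y * (π x)⁻¹ * (π y)⁻¹) * (π y * π x) := by group
      _ = π y * π x := by rw [h1, one_mul]
  -- the `p`-primary part
  let Nb : Subgroup (L ⧸ H₁) :=
    { carrier := {a | a ∈ Kb ∧ ∃ j : ℕ, a ^ (p ^ j) = 1}
      one_mem' := ⟨Kb.one_mem, 0, by simp⟩
      mul_mem' := by
        rintro a b ⟨ha, i, hi⟩ ⟨hb, j, hj⟩
        refine ⟨Kb.mul_mem ha hb, i + j, ?_⟩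
        have hc : Commute a b := hcomm a ha b hb
        rw [hc.mul_pow, pow_add, pow_mul, hi, one_pow, one_mul, mul_comm (p ^ i), pow_mul, hj,
          one_pow]
      inv_mem' := by
        rintro a ⟨ha, i, hi⟩
        exact ⟨Kb.inv_mem ha, i, by rw [inv_pow, hi, inv_one]⟩ }
  have hNbmem : ∀ a, a ∈ Nb ↔ a ∈ Kb ∧ ∃ j : ℕ, a ^ (p ^ j) = 1 := fun a => Iff.rfl
  have hNbn : Nb.Normal := by
    constructor
    intro a ha g
    rw [hNbmem] at ha ⊢
    obtain ⟨haK, j, hj⟩ := ha
    refine ⟨hKbn.conj_mem a haK g, j, ?_⟩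
    rw [conj_pow, hj]
    group
  refine ⟨Nb.comap π, Subgroup.Normal.comap hNbn π, ?_, ?_⟩
  · -- `H₁ < N`
    have hle : H₁ ≤ Nb.comap π := by
      intro x hx
      rw [Subgroup.mem_comap]
      have : π x = 1 := by rw [← MonoidHom.mem_ker, hker]; exact hx
      rw [this]
      exact Nb.one_mem
    refine lt_of_le_of_ne hle (fun heq => ?_)
    haveI : Fact p.Prime := ⟨hp⟩
    rw [← hcardKb] at hpd
    obtain ⟨z, hz⟩ := exists_prime_orderOf_dvd_card' p hpd
    obtain ⟨x, hx, hxz⟩ := Subgroup.mem_map.mp z.2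
    have hzN : (z : L ⧸ H₁) ∈ Nb := by
      rw [hNbmem]
      refine ⟨z.2, 1, ?_⟩
      rw [pow_one]
      have h1 : orderOf (z : L ⧸ H₁) = p := by rw [Subgroup.orderOf_coe, hz]
      rw [← h1]
      exact pow_orderOf_eq_one _
    have hxN : x ∈ Nb.comap π := by
      rw [Subgroup.mem_comap, hxz]; exact hzN
    rw [← heq, ← hker, MonoidHom.mem_ker, hxz] at hxN
    have : orderOf (z : L ⧸ H₁) = 1 := by rw [hxN, orderOf_one]
    rw [Subgroup.orderOf_coe, hz] at this
    exact hp.one_lt.ne' this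
  · -- `N < K`
    have hle : Nb.comap π ≤ K := by
      intro x hx
      rw [Subgroup.mem_comap, hNbmem] at hx
      obtain ⟨y, hy, hyx⟩ := Subgroup.mem_map.mp hx.1
      have h1 : y⁻¹ * x ∈ H₁ := by
        rw [← hker, MonoidHom.mem_ker, map_mul, map_inv, hyx]
        group
      have : x = y * (y⁻¹ * x) := by group
      rw [this]
      exact K.mul_mem hy (hH₁K h1)
    refine lt_of_le_of_ne hle (fun heq => ?_)
    haveI : Fact q.Prime := ⟨hq⟩
    rw [← hcardKb] at hqd
    obtain ⟨z, hz⟩ := exists_prime_orderOf_dvd_card' q hqd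
    obtain ⟨x, hx, hxz⟩ := Subgroup.mem_map.mp z.2
    rw [← heq, Subgroup.mem_comap, hNbmem, hxz] at hx
    obtain ⟨-, j, hj⟩ := hx
    have h1 : orderOf (z : L ⧸ H₁) ∣ p ^ j := orderOf_dvd_of_pow_eq_one hj
    rw [Subgroup.orderOf_coe, hz] at h1
    exact hpq ((Nat.prime_dvd_prime_iff_eq hq hp).mp (hq.dvd_of_dvd_pow h1)).symm

/-- A number that is not a prime power and not `1` has two distinct prime divisors. -/
theorem exists_two_primes {n : ℕ} (hn0 : n ≠ 0) (hn1 : n ≠ 1)
    (h : ¬ ∃ p m : ℕ, p.Prime ∧ n = p ^ m) :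
    ∃ p q : ℕ, p.Prime ∧ q.Prime ∧ p ≠ q ∧ p ∣ n ∧ q ∣ n := by
  have hp : (n.minFac).Prime := Nat.minFac_prime hn1
  by_contra hcon
  push Not at hcon
  apply h
  refine ⟨n.minFac, _, hp, Nat.eq_prime_pow_of_unique_prime_dvd hn0 ?_⟩
  intro d hd hdn
  by_contra hne
  exact hcon n.minFac d hp hd (fun h => hne h.symm) (Nat.minFac_dvd n) hdn

end between

end Cfsg.Agent.H2.PF6
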