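import Mathlib
import Cfsg.Prelude.Def_OddOrderChar
import Cfsg.Agent.H2.PF6.F
import Cfsg.Agent.H2.PF6.H
import Cfsg.Agent.H2.PF6.I

set_option autoImplicit false
set_option linter.style.haveILetI false
set_option linter.unusedSectionVars false

/-!
# Peterfalvi (6.5): coherence of `S(M)` unless `K/H₁` is a small chief factor
-/

namespace Cfsg.Agent.H2.PF6

open Cfsg Cfsg.Agent.Lib.helper3.Irr Cfsg.Agent.Lib.helper3.IndFun Cfsg.Agent.Lib.helper3.Coh
open scoped ComplexConjugate commutatorElement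

section main

variable {L : Type*} [Group L] [Fintype L] {G : Type*} [Group G] [Fintype G]

/-- A nonempty conjugation-closed subset of a coherence system is a coherence system. -/
theorem CS.sub {S : Set (L → ℂ)} {τ : (L → ℂ) → (G → ℂ)} {R : (L → ℂ) → Finset (G → ℂ)}
    (hS : IsCoherenceSystem S τ R) {T : Set (L → ℂ)} (hT : T ⊆ S) (hne : T.Nonempty)
    (hc : ∀ φ ∈ T, Cfsg.conjFun φ ∈ T) : IsCoherenceSystem T τ R where
  nonempty := hne
  isCharacter := fun χ h => hS.isCharacter χ (hT h)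
  conj_mem := hc
  conj_ne := fun χ h => hS.conj_ne χ (hT h)
  isometry := isLinearIsometryOn_mono hS.isometry (zspanOn_mono _ hT)
  map_one := fun α h => hS.map_one α (zspanOn_mono _ hT h)
  orthogonal := fun χ h φ h' => hS.orthogonal χ (hT h) φ (hT h')
  orthonormal := fun χ h => hS.orthonormal χ (hT h)
  virtual := fun χ h => hS.virtual χ (hT h)
  sum_eq := fun χ h => hS.sum_eq χ (hT h)
  disjoint := fun χ h φ h' => hS.disjoint χ (hT h) φ (hT h')

/-- Characters of `K` trivial on a subgroup containing `K'` are linear. -/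
theorem linear_of_mem_thetaSet (K : Subgroup L) [hK : K.Normal] (H₁ : Subgroup L) [H₁.Normal]
    (hKK : ⁅K, K⁆ ≤ H₁) {θ : IrrCharacter K} (hθ : θ ∈ thetaSet K H₁) :
    (θ : K → ℂ) 1 = 1 := by
  classical
  obtain ⟨-, h2⟩ := (mem_thetaSet K).mp hθ
  set N : Subgroup K := H₁.subgroupOf K with hN
  haveI : N.Normal := by rw [hN]; infer_instance
  have hconst : ∀ g n : K, n ∈ N → (θ : K → ℂ) (g * n) = (θ : K → ℂ) g := by
    intro g n hn
    exact apply_mul_of_apply_eq_one (isCharacter_of_isIrrCharacter θ.2)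
      (h2 n (Subgroup.mem_subgroupOf.mp hn)) g
  obtain ⟨ψ, hψ, hψθ⟩ := exists_eq_inflate θ.2 N hconst
  have hcomm : ∀ a b : K ⧸ N, a * b = b * a := by
    intro a b
    obtain ⟨x, rfl⟩ := QuotientGroup.mk_surjective a
    obtain ⟨y, rfl⟩ := QuotientGroup.mk_surjective b
    rw [← QuotientGroup.mk_mul, ← QuotientGroup.mk_mul, QuotientGroup.eq]
    rw [hN, Subgroup.mem_subgroupOf]
    have : (((x * y)⁻¹ * (y * x) : K) : L) = ⁅(y : L)⁻¹, (x : L)⁻¹⁆ := by
      rw [commutatorElement_def]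
      push_cast
      group
    rw [this]
    exact hKK (Subgroup.commutator_mem_commutator (K.inv_mem y.2) (K.inv_mem x.2))
  rw [hψθ, inflate_apply, QuotientGroup.mk_one]
  exact apply_one_eq_one_of_comm hcomm hψ

/-- `S(H₁)` is coherent when `K' ≤ H₁ < K`. -/
theorem coherent_above_commutator (K : Subgroup L) [hK : K.Normal] (hsolv : Group.IsSolvable K)
    (τ : (L → ℂ) → (G → ℂ)) (R : (L → ℂ) → Finset (G → ℂ))
    (hS : IsCoherenceSystem (inducedIrrAbove K ⊥) τ R) (H₁ : Subgroup L) [H₁.Normal]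
    (hKK : ⁅K, K⁆ ≤ H₁) (hH₁K : H₁ < K) :
    IsCoherent (inducedIrrAbove K H₁) ({1}ᶜ : Set L) τ := by
  have hne : (inducedIrrAbove K H₁).Nonempty := by
    obtain ⟨θ, hθ, -⟩ := exists_linear_induced K hsolv H₁ hH₁K
    exact ⟨_, (mem_inducedIrrAbove K).mpr ⟨θ, hθ, rfl⟩⟩
  have hsub := CS.sub hS (inducedIrrAbove_mono K bot_le) hne
    (fun φ hφ => inducedIrrAbove_conj K hφ)
  apply CS.coherent_of_constant_degree hsub
  have hdeg : ∀ φ ∈ inducedIrrAbove K H₁, φ 1 = (K.index : ℂ) := by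
    intro φ hφ
    obtain ⟨θ, hθ, rfl⟩ := (mem_inducedIrrAbove K).mp hφ
    rw [indFun_one_eq, linear_of_mem_thetaSet K H₁ hKK hθ, mul_one]
  intro φ hφ ψ hψ
  rw [hdeg φ hφ, hdeg ψ hψ]

/-- The arithmetic of case (e). -/
theorem arith_e {l p j : ℕ} (hl : Odd l) (hp : p.Prime) (hpodd : Odd p) (hdvd : l ∣ p - 1)
    (hj : 2 ≤ j) : 4 * l ^ 2 + 1 < p ^ j := by
  have hp2 := hp.two_le
  have h1 : 2 * l ≤ p - 1 := by
    obtain ⟨c, hc⟩ := hdvd
    have hc0 : c ≠ 0 := by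
      rintro rfl
      omega
    have hc1 : c ≠ 1 := by
      rintro rfl
      obtain ⟨u, hu⟩ := hl
      obtain ⟨v, hv⟩ := hpodd
      omega
    calc 2 * l = l * 2 := by ring
      _ ≤ l * c := Nat.mul_le_mul_left _ (by omega)
      _ = p - 1 := hc.symm
  have h2 : p ^ 2 ≤ p ^ j := Nat.pow_le_pow_right (by omega) hj
  obtain ⟨p', rfl⟩ : ∃ p', p = p' + 1 := ⟨p - 1, by omega⟩
  simp only [Nat.add_sub_cancel] at h1
  have h3 : 4 * l ^ 2 ≤ p' ^ 2 := by nlinarith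
  have h4 : p' ^ 2 + 1 < (p' + 1) ^ 2 := by nlinarith
  omega

/-- Peterfalvi (6.5). -/
theorem s1521 (K : Subgroup L) [hK : K.Normal] (hsolv : Group.IsSolvable K)
    (τ : (L → ℂ) → (G → ℂ)) (R : (L → ℂ) → Finset (G → ℂ))
    (hS : IsCoherenceSystem (inducedIrrAbove K ⊥) τ R) (hodd : Odd (Nat.card L))
    (M : Subgroup L) [M.Normal] (hMK : M ≤ K) [(M.subgroupOf K).Normal]
    (hnil : Group.IsNilpotent (↥K ⧸ M.subgroupOf K)) (H₁ : Subgroup L) (hH₁ : H₁ = ⁅K, K⁆ ⊔ M)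
    (hH₁K : H₁ < K)
    (hfrob : ∀ k ∈ K, k ∉ H₁ → ∀ x : L, x * k * x⁻¹ * k⁻¹ ∈ H₁ → x ∈ K)
    (hgood : (∃ N : Subgroup L, N.Normal ∧ H₁ < N ∧ N < K) ∨ 4 * K.index ^ 2 + 1 < H₁.relIndex K ∨
      (¬ ∃ p m : ℕ, p.Prime ∧ M.relIndex K = p ^ m) ∨ ⁅K, K⁆ ≤ M ∨
      (∃ p m : ℕ, p.Prime ∧ M.relIndex K = p ^ m ∧ K.index ∣ p - 1)) :
    IsCoherent (inducedIrrAbove K M) ({1}ᶜ : Set L) τ := by
  subst hH₁
  haveI : (⁅K, K⁆ ⊔ M).Normal := inferInstance
  have hKK : ⁅K, K⁆ ≤ ⁅K, K⁆ ⊔ M := le_sup_left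
  have hMH₁ : M ≤ ⁅K, K⁆ ⊔ M := le_sup_right
  have hcohH₁ := coherent_above_commutator K hsolv τ R hS (⁅K, K⁆ ⊔ M) hKK hH₁K
  have main : 4 * K.index ^ 2 + 1 < (⁅K, K⁆ ⊔ M).relIndex K →
      IsCoherent (inducedIrrAbove K M) ({1}ᶜ : Set L) τ := fun hbig =>
    s1520 K hsolv τ R hS M (⁅K, K⁆ ⊔ M) K hMH₁ hH₁K.le le_rfl hnil hcohH₁ hbig
  have caseA : (∃ N : Subgroup L, N.Normal ∧ ⁅K, K⁆ ⊔ M < N ∧ N < K) →
      IsCoherent (inducedIrrAbove K M) ({1}ᶜ : Set L) τ := by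
    rintro ⟨N, hNn, h1, h2⟩
    haveI := hNn
    exact main (frob_bound (⁅K, K⁆ ⊔ M) N K hodd h1 h2 hKK hfrob)
  have caseD : ⁅K, K⁆ ≤ M → IsCoherent (inducedIrrAbove K M) ({1}ᶜ : Set L) τ := by
    intro hd
    have : ⁅K, K⁆ ⊔ M = M := sup_eq_right.mpr hd
    rw [this] at hcohH₁
    exact hcohH₁
  have hMK1 : M.relIndex K ≠ 1 := by
    intro h
    have : K ≤ M := Subgroup.relIndex_eq_one.mp h
    exact not_le_of_gt hH₁K (this.trans hMH₁)
  have hMK0 : M.relIndex K ≠ 0 := (relIndex_pos' M K).ne'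
  rcases hgood with ha | hbig | hnp | hd | ⟨p, m, hp, hpm, hdvd⟩
  · exact caseA ha
  · exact main hbig
  · obtain ⟨p, q, hp, hq, hpq, hpd, hqd⟩ := exists_two_primes hMK0 hMK1 hnp
    apply caseA
    exact exists_normal_between (⁅K, K⁆ ⊔ M) K hH₁K.le hKK hp hq hpq
      (prime_dvd_relIndex_commutator K M hMK hnil hp hpd)
      (prime_dvd_relIndex_commutator K M hMK hnil hq hqd)
  · exact caseD hd
  · by_cases hd : ⁅K, K⁆ ≤ M
    · exact caseD hd
    · apply main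
      have h1 : (⁅K, K⁆ ⊔ M).relIndex K ∣ p ^ m := by
        rw [← hpm]
        exact Subgroup.relIndex_dvd_of_le_left K hMH₁
      obtain ⟨j, -, hj⟩ := (Nat.dvd_prime_pow hp).mp h1
      have hj0 : j ≠ 0 := by
        rintro rfl
        rw [pow_zero] at hj
        exact not_le_of_gt hH₁K (Subgroup.relIndex_eq_one.mp hj)
      have hj1 : j ≠ 1 := by
        rintro rfl
        rw [pow_one] at hj
        apply hd
        apply commutator_le_of_prime_relIndex K M hMK hnil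
        rw [hj]
        exact hp
      rw [hj]
      have hlodd : Odd K.index := Odd.of_dvd_nat hodd (Subgroup.index_dvd_card K)
      have hm0 : m ≠ 0 := by
        rintro rfl
        rw [pow_zero] at hpm
        exact hMK1 hpm
      have hpL : p ∣ Nat.card L := by
        have h2 : p ∣ M.relIndex K := by
          rw [hpm]
          exact dvd_pow_self p hm0
        exact h2.trans ((Subgroup.relIndex_dvd_card M K).trans (Subgroup.card_subgroup_dvd_card K))
      exact arith_e hlodd hp (Odd.of_dvd_nat hodd hpL) hdvd (by omega)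

end main

end Cfsg.Agent.H2.PF6
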