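import Mathlib
import Cfsg.Prelude.Def_OddOrderChar
import Cfsg.Agent.H2.PF6.C

set_option autoImplicit false
set_option linter.style.haveILetI false
set_option linter.unusedSectionVars false

/-!
# Peterfalvi §6, part N1: the weighted degree sum for saturated families
-/

namespace Cfsg.Agent.H2.PF6

open Cfsg Cfsg.Agent.Lib.helper3.Irr Cfsg.Agent.Lib.helper3.IndFun
open scoped ComplexConjugate

section ind

variable {L : Type*} [Group L] [Fintype L] (K : Subgroup L) [hK : K.Normal]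

/-- The weighted degree sum of the family induced from a saturated set `Θ'` of non-principal
irreducible characters of `K`. -/
theorem sum_sq_div_sat (Θ' : Finset (IrrCharacter K)) (hΘ' : Θ' ⊆ thetaSet K ⊥)
    (hsat : ∀ θ ∈ Θ', ∀ θ' ∈ thetaSet K (⊥ : Subgroup L),
      indFun K (θ' : K → ℂ) = indFun K (θ : K → ℂ) → θ' ∈ Θ')
    (F : Finset (L → ℂ)) (hF : ∀ φ, φ ∈ F ↔ ∃ θ ∈ Θ', φ = indFun K (θ : K → ℂ))
    (d n : (L → ℂ) → ℕ) (hd : ∀ φ ∈ F, φ 1 = (d φ : ℂ))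
    (hn : ∀ φ ∈ F, classInner φ φ = (n φ : ℂ)) (hn0 : ∀ φ ∈ F, n φ ≠ 0) :
    ∑ φ ∈ F, ((d φ : ℂ) ^ 2 / (n φ : ℂ))
      = (K.index : ℂ) * ∑ θ ∈ Θ', (θ : K → ℂ) 1 * (θ : K → ℂ) 1 := by
  classical
  have hmaps : ∀ θ ∈ Θ', indFun K (θ : K → ℂ) ∈ F := fun θ hθ => (hF _).mpr ⟨θ, hθ, rfl⟩
  have h1 : ∀ φ ∈ F, (d φ : ℂ) ^ 2 / (n φ : ℂ)
      = ∑ θ ∈ Θ'.filter (fun θ : IrrCharacter K => indFun K (θ : K → ℂ) = φ),
          indFun K (θ : K → ℂ) 1 * (θ : K → ℂ) 1 := by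
    intro φ hφ
    obtain ⟨θ₀, hθ₀, rfl⟩ := (hF φ).mp hφ
    have hfs := fiber_sum K ⊥ bot_le θ₀ (hΘ' hθ₀)
    have hfilt : (thetaSet K (⊥ : Subgroup L)).filter
          (fun θ : IrrCharacter K => indFun K (θ : K → ℂ) = indFun K (θ₀ : K → ℂ))
        = Θ'.filter (fun θ : IrrCharacter K => indFun K (θ : K → ℂ) = indFun K (θ₀ : K → ℂ)) := by
      ext θ
      simp only [Finset.mem_filter]
      constructor
      · rintro ⟨h1, h2⟩
        exact ⟨hsat θ₀ hθ₀ θ h1 h2, h2⟩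
      · rintro ⟨h1, h2⟩
        exact ⟨hΘ' h1, h2⟩
    rw [hfilt, hn _ hφ, hd _ hφ] at hfs
    have hn0' : (n (indFun K (θ₀ : K → ℂ)) : ℂ) ≠ 0 := by exact_mod_cast hn0 _ hφ
    have h2 : ∑ θ ∈ Θ'.filter
          (fun θ : IrrCharacter K => indFun K (θ : K → ℂ) = indFun K (θ₀ : K → ℂ)),
          indFun K (θ : K → ℂ) 1 * (θ : K → ℂ) 1
        = (d (indFun K (θ₀ : K → ℂ)) : ℂ) * ∑ θ ∈ Θ'.filter
          (fun θ : IrrCharacter K => indFun K (θ : K → ℂ) = indFun K (θ₀ : K → ℂ)),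
          (θ : K → ℂ) 1 := by
      rw [Finset.mul_sum]
      apply Finset.sum_congr rfl
      intro θ hθ
      rw [(Finset.mem_filter.mp hθ).2, hd _ hφ]
    rw [h2, ← hfs]
    field_simp
  rw [Finset.sum_congr rfl h1, Finset.sum_fiberwise_of_maps_to hmaps]
  have h3 : ∀ θ ∈ Θ', indFun K (θ : K → ℂ) 1 * (θ : K → ℂ) 1
      = (K.index : ℂ) * ((θ : K → ℂ) 1 * (θ : K → ℂ) 1) := by
    intro θ _
    rw [indFun_one_eq]
    ring
  rw [Finset.sum_congr rfl h3, ← Finset.mul_sum]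

end ind

end Cfsg.Agent.H2.PF6
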