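import Mathlib
import Cfsg.Prelude.Def_OddOrderChar
import Cfsg.Agent.H2.PF6.N1

set_option autoImplicit false
set_option linter.style.haveILetI false
set_option linter.unusedSectionVars false

/-!
# Peterfalvi (6.6), first half: the characters of `L` non-trivial on a central subgroup `Z`
-/

namespace Cfsg.Agent.H2.PF6

open Cfsg Cfsg.Agent.Lib.helper3.Irr Cfsg.Agent.Lib.helper3.IndFun
open scoped ComplexConjugate

section ind

variable {L : Type*} [Group L] [Fintype L] (K : Subgroup L) [hK : K.Normal]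

/-- The irreducible characters of `K` that are not trivial on `Z`. -/
noncomputable def thetaOff (Z : Subgroup L) : Finset (IrrCharacter K) := by
  classical
  exact Finset.univ.filter
    (fun θ : IrrCharacter K => ∃ a : K, (a : L) ∈ Z ∧ (θ : K → ℂ) a ≠ (θ : K → ℂ) 1)

theorem mem_thetaOff {Z : Subgroup L} {θ : IrrCharacter K} :
    θ ∈ thetaOff K Z ↔ ∃ a : K, (a : L) ∈ Z ∧ (θ : K → ℂ) a ≠ (θ : K → ℂ) 1 := by
  classical
  unfold thetaOff
  simp

theorem thetaOff_subset (Z : Subgroup L) : thetaOff K Z ⊆ thetaSet K ⊥ := by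
  intro θ hθ
  obtain ⟨a, -, ha⟩ := (mem_thetaOff K).mp hθ
  rw [mem_thetaSet]
  refine ⟨fun h => ha ?_, fun b hb => ?_⟩
  · rw [h]
  · have : b = 1 := Subtype.ext (Subgroup.mem_bot.mp hb)
    rw [this]

theorem not_mem_thetaSet_of_mem_thetaOff {Z : Subgroup L} {θ : IrrCharacter K}
    (hθ : θ ∈ thetaOff K Z) : θ ∉ thetaSet K Z := by
  obtain ⟨a, haZ, ha⟩ := (mem_thetaOff K).mp hθ
  intro h
  exact ha (((mem_thetaSet K).mp h).2 a haZ)

theorem mem_thetaOff_of_not_mem {Z : Subgroup L} {θ : IrrCharacter K}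
    (hθ : θ ∈ thetaSet K ⊥) (h : θ ∉ thetaSet K Z) : θ ∈ thetaOff K Z := by
  rw [mem_thetaOff]
  by_contra hcon
  push Not at hcon
  exact h ((mem_thetaSet K).mpr ⟨((mem_thetaSet K).mp hθ).1, hcon⟩)

/-- Membership in `thetaOff` only depends on the induced function. -/
theorem thetaOff_sat (Z : Subgroup L) [Z.Normal] (hZK : Z ≤ K) {θ θ' : IrrCharacter K}
    (hθ : θ ∈ thetaOff K Z) (h : indFun K (θ' : K → ℂ) = indFun K (θ : K → ℂ)) :
    θ' ∈ thetaOff K Z := by
  rw [mem_thetaOff]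
  by_contra hcon
  push Not at hcon
  have h1 := (indFun_normal_const_iff Z K hZK _ θ'.2).mp hcon
  rw [h] at h1
  have h2 := (indFun_normal_const_iff Z K hZK _ θ.2).mpr h1
  obtain ⟨a, haZ, ha⟩ := (mem_thetaOff K).mp hθ
  exact ha (h2 a haZ)

/-- The members of `S ∖ S(Z)`. -/
theorem mem_diff_iff (Z : Subgroup L) [Z.Normal] (hZK : Z ≤ K) {φ : L → ℂ} :
    φ ∈ inducedIrrAbove K ⊥ \ inducedIrrAbove K Z ↔
      ∃ θ ∈ thetaOff K Z, φ = indFun K (θ : K → ℂ) := by
  constructor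
  · rintro ⟨h1, h2⟩
    obtain ⟨θ, hθ, rfl⟩ := (mem_inducedIrrAbove K).mp h1
    refine ⟨θ, mem_thetaOff_of_not_mem K hθ (fun h => h2 ?_), rfl⟩
    exact (mem_inducedIrrAbove K).mpr ⟨θ, h, rfl⟩
  · rintro ⟨θ, hθ, rfl⟩
    refine ⟨(mem_inducedIrrAbove K).mpr ⟨θ, thetaOff_subset K Z hθ, rfl⟩, fun h => ?_⟩
    obtain ⟨θ', hθ', h'⟩ := (mem_inducedIrrAbove K).mp h
    exact not_mem_thetaSet_of_mem_thetaOff K (thetaOff_sat K Z hZK hθ h'.symm) hθ'

/-- Peterfalvi (6.6), first statement. -/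
theorem diff_eq_irr (Z : Subgroup L) [Z.Normal] (hZK : Z ≤ K)
    (hirr : ∀ χ ∈ inducedIrrAbove K ⊥ \ inducedIrrAbove K Z, IsIrrCharacter L χ) :
    inducedIrrAbove K ⊥ \ inducedIrrAbove K Z
      = {χ | IsIrrCharacter L χ ∧ ∃ z ∈ Z, χ z ≠ χ 1} := by
  classical
  letI : Fintype K := Fintype.ofFinite K
  ext χ
  constructor
  · intro hχ
    refine ⟨hirr χ hχ, ?_⟩
    obtain ⟨θ, hθ, rfl⟩ := (mem_diff_iff K Z hZK).mp hχ
    by_contra hcon
    push Not at hcon
    have h2 := (indFun_normal_const_iff Z K hZK _ θ.2).mpr hcon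
    obtain ⟨a, haZ, ha⟩ := (mem_thetaOff K).mp hθ
    exact ha (h2 a haZ)
  · rintro ⟨hχ, z, hzZ, hz⟩
    have hχc := isCharacter_of_isIrrCharacter hχ
    have hres := isCharacter_restrict hχc K
    have hdec := isCharacter_eq_sum_classInner hres
    -- some constituent is nontrivial at `z`
    have hex : ∃ ψ : IrrCharacter K, classInner (fun k : K => χ k) (ψ : K → ℂ) ≠ 0 ∧
        (ψ : K → ℂ) ⟨z, hZK hzZ⟩ ≠ (ψ : K → ℂ) 1 := by
      by_contra hcon
      push Not at hcon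
      apply hz
      have e1 := congrFun hdec ⟨z, hZK hzZ⟩
      have e2 := congrFun hdec 1
      simp only [Finset.sum_apply, Pi.smul_apply, smul_eq_mul] at e1 e2
      have e3 : χ z = χ 1 := by
        rw [e1, show χ 1 = χ ((1 : K) : L) from rfl, e2]
        apply Finset.sum_congr rfl
        intro ψ _
        by_cases h0 : classInner (fun k : K => χ k) (ψ : K → ℂ) = 0
        · rw [h0, zero_mul, zero_mul]
        · rw [hcon ψ h0]
      exact e3
    obtain ⟨ψ, hψ0, hψz⟩ := hex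
    have hψoff : ψ ∈ thetaOff K Z := (mem_thetaOff K).mpr ⟨⟨z, hZK hzZ⟩, hzZ, hψz⟩
    have hmem : indFun K (ψ : K → ℂ) ∈ inducedIrrAbove K ⊥ \ inducedIrrAbove K Z :=
      (mem_diff_iff K Z hZK).mpr ⟨ψ, hψoff, rfl⟩
    have hirrψ := hirr _ hmem
    have hne : classInner (indFun K (ψ : K → ℂ)) χ ≠ 0 := by
      rw [frobenius_reciprocity K _ χ (isClassFunction_of_isCharacter hχc)]
      intro h0
      apply hψ0
      rw [← classInner_conj_symm, h0, map_zero]
    have heq : indFun K (ψ : K → ℂ) = χ := by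
      by_contra hne'
      exact hne (irr_classInner_eq_zero hirrψ hχ hne')
    rw [← heq]
    exact hmem

end ind

end Cfsg.Agent.H2.PF6
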