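import Mathlib
import Cfsg.Prelude.Def_OddOrderChar
import Cfsg.Agent.H2.PF6.N2
import Cfsg.Agent.H2.PF6.D

set_option autoImplicit false
set_option linter.style.haveILetI false
set_option linter.unusedSectionVars false

/-!
# Peterfalvi (6.6), second half, `p`-group case: the key lower bound
-/

namespace Cfsg.Agent.H2.PF6

open Cfsg Cfsg.Agent.Lib.helper3.Irr Cfsg.Agent.Lib.helper3.IndFun
open scoped ComplexConjugate

theorem level_arith (e p b c z W Wbig : ℕ) (hp : p.Prime) (hcop : Nat.Coprime e p)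
    (hT : W + Wbig = p ^ c * (z - 1)) (hbc : 2 * b ≤ c) (hbig : p ^ (2 * b) ∣ Wbig)
    (he : e ∣ W) (hW : 0 < W) : e * p ^ (2 * b) ≤ W := by
  have h1 : p ^ (2 * b) ∣ W + Wbig := by
    rw [hT]
    exact Dvd.dvd.mul_right (pow_dvd_pow p hbc) _
  have h2 : p ^ (2 * b) ∣ W := (Nat.dvd_add_left hbig).mp h1
  have h3 : Nat.Coprime e (p ^ (2 * b)) := Nat.Coprime.pow_right _ hcop
  exact Nat.le_of_dvd hW (Nat.Coprime.mul_dvd_of_dvd_of_dvd h3 he h2)

section ind

variable {L : Type*} [Group L] [Fintype L] (K : Subgroup L) [hK : K.Normal]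

/-- The sum of the squares of the degrees of the characters of `K` not trivial on `Z`. -/
theorem sum_sq_thetaOff (Z : Subgroup L) [Z.Normal] (t : IrrCharacter K → ℕ)
    (ht : ∀ θ : IrrCharacter K, (θ : K → ℂ) 1 = (t θ : ℂ)) :
    ∑ θ ∈ thetaOff K Z, t θ ^ 2 + Z.relIndex K = Nat.card K := by
  classical
  letI : Fintype K := Fintype.ofFinite K
  haveI : (Z.subgroupOf K).Normal := inferInstance
  have h1 : ∑ θ : IrrCharacter K, (θ : K → ℂ) 1 ^ 2 = (Nat.card K : ℂ) := sum_sq_degree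
  have h2 := sum_sq_irrAbove (Z.subgroupOf K)
  have hsplit : (Finset.univ : Finset (IrrCharacter K))
      = thetaOff K Z ∪ irrAbove (Z.subgroupOf K) := by
    ext θ
    simp only [Finset.mem_univ, Finset.mem_union, true_iff]
    by_cases h : θ ∈ thetaOff K Z
    · exact Or.inl h
    · right
      rw [mem_irrAbove]
      intro n hn
      by_contra hne
      exact h ((mem_thetaOff K).mpr ⟨n, Subgroup.mem_subgroupOf.mp hn, hne⟩)
  have hdisj : Disjoint (thetaOff K Z) (irrAbove (Z.subgroupOf K)) := by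
    rw [Finset.disjoint_left]
    intro θ h1 h2
    obtain ⟨a, haZ, ha⟩ := (mem_thetaOff K).mp h1
    exact ha ((mem_irrAbove.mp h2) a (Subgroup.mem_subgroupOf.mpr haZ))
  rw [hsplit, Finset.sum_union hdisj] at h1
  have h3 : ((∑ θ ∈ thetaOff K Z, t θ ^ 2 + Z.relIndex K : ℕ) : ℂ) = (Nat.card K : ℂ) := by
    rw [← h1]
    push_cast
    congr 1
    · apply Finset.sum_congr rfl
      intro θ _
      rw [ht]
    · have h4 : ((Z.relIndex K : ℕ) : ℂ) = ((Z.subgroupOf K).index : ℂ) := rfl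
      rw [h4, ← h2]
      apply Finset.sum_congr rfl
      intro θ _
      rw [sq]
  exact_mod_cast h3

end ind

end Cfsg.Agent.H2.PF6
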