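import Mathlib
import Cfsg.Prelude.Def_OddOrderChar
import Cfsg.Agent.H2.PF6.J

set_option autoImplicit false
set_option linter.style.haveILetI false
set_option linter.unusedSectionVars false

/-!
# Coherence by induction on the degree levels
-/

namespace Cfsg.Agent.H2.PF6

open Cfsg Cfsg.Agent.Lib.helper3.Coh Cfsg.Agent.Lib.helper3.Irr
open scoped ComplexConjugate

section sys

variable {L : Type*} [Group L] [Fintype L] {G : Type*} [Group G] [Fintype G]
variable {S : Set (L → ℂ)} {τ : (L → ℂ) → (G → ℂ)} {R : (L → ℂ) → Finset (G → ℂ)}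

theorem CS.degree_conj (hS : IsCoherenceSystem S τ R) (d : (L → ℂ) → ℕ)
    (hd : ∀ φ ∈ S, φ 1 = (d φ : ℂ)) {φ : L → ℂ} (hφ : φ ∈ S) : d (Cfsg.conjFun φ) = d φ := by
  have h1 := hd _ (hS.conj_mem φ hφ)
  rw [conjFun_apply_one_of_isCharacter (hS.isCharacter φ hφ), hd φ hφ] at h1
  exact_mod_cast h1.symm

/-- Coherence of a finite conjugation-closed subset `T` of a coherence system, by induction on
the degree: each level is adjoined to the union of the lower levels. -/
theorem CS.coherent_of_levels (hS : IsCoherenceSystem S τ R) (d n : (L → ℂ) → ℕ)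
    (hd : ∀ φ ∈ S, φ 1 = (d φ : ℂ)) (hn : ∀ φ ∈ S, classInner φ φ = (n φ : ℂ))
    [DecidableEq (L → ℂ)]
    (T : Finset (L → ℂ)) (hT : (↑T : Set (L → ℂ)) ⊆ S) (hTc : ∀ φ ∈ T, Cfsg.conjFun φ ∈ T)
    (hTne : T.Nonempty)
    (hlev : ∀ D : ℕ, (T.filter (fun φ : L → ℂ => d φ < D)).Nonempty →
      (T.filter (fun φ : L → ℂ => d φ = D)).Nonempty →
      ∃ χ₁ ∈ T.filter (fun φ : L → ℂ => d φ < D),
        (∀ χ ∈ T.filter (fun φ : L → ℂ => d φ = D), d χ₁ ∣ d χ) ∧
        ∀ χ ∈ T.filter (fun φ : L → ℂ => d φ = D), (2 * d χ * d χ₁ : ℝ)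
          < ∑ φ ∈ T.filter (fun φ : L → ℂ => d φ < D), ((d φ : ℝ) ^ 2 / (n φ : ℝ))) :
    IsCoherent (↑T : Set (L → ℂ)) ({1}ᶜ : Set L) τ := by
  have hconj : ∀ φ ∈ T, d (Cfsg.conjFun φ) = d φ := fun φ hφ =>
    CS.degree_conj hS d hd (hT (Finset.mem_coe.mpr hφ))
  have hsubS : ∀ (P : (L → ℂ) → Prop) [DecidablePred P],
      (↑(T.filter P) : Set (L → ℂ)) ⊆ S := by
    intro P _ φ hφ
    exact hT (Finset.mem_coe.mpr (Finset.mem_filter.mp (Finset.mem_coe.mp hφ)).1)
  have hltc : ∀ D : ℕ, ∀ φ ∈ T.filter (fun φ : L → ℂ => d φ < D),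
      Cfsg.conjFun φ ∈ T.filter (fun φ : L → ℂ => d φ < D) := by
    intro D φ hφ
    obtain ⟨h1, h2⟩ := Finset.mem_filter.mp hφ
    exact Finset.mem_filter.mpr ⟨hTc φ h1, by rw [hconj φ h1]; exact h2⟩
  have heqc : ∀ D : ℕ, ∀ φ ∈ T.filter (fun φ : L → ℂ => d φ = D),
      Cfsg.conjFun φ ∈ T.filter (fun φ : L → ℂ => d φ = D) := by
    intro D φ hφ
    obtain ⟨h1, h2⟩ := Finset.mem_filter.mp hφ
    exact Finset.mem_filter.mpr ⟨hTc φ h1, by rw [hconj φ h1]; exact h2⟩
  have key : ∀ D : ℕ, (T.filter (fun φ : L → ℂ => d φ < D)).Nonempty →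
      IsCoherent (↑(T.filter (fun φ : L → ℂ => d φ < D)) : Set (L → ℂ)) ({1}ᶜ : Set L) τ := by
    intro D
    induction D with
    | zero =>
      rintro ⟨φ, hφ⟩
      exact absurd (Finset.mem_filter.mp hφ).2 (Nat.not_lt_zero _)
    | succ D ih =>
      intro hne
      have hunion : T.filter (fun φ : L → ℂ => d φ < D + 1)
          = T.filter (fun φ : L → ℂ => d φ < D) ∪ T.filter (fun φ : L → ℂ => d φ = D) := by
        ext φ
        simp only [Finset.mem_filter, Finset.mem_union]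
        constructor
        · rintro ⟨h1, h2⟩
          rcases Nat.lt_succ_iff_lt_or_eq.mp h2 with h | h
          · exact Or.inl ⟨h1, h⟩
          · exact Or.inr ⟨h1, h⟩
        · rintro (⟨h1, h2⟩ | ⟨h1, h2⟩)
          · exact ⟨h1, Nat.lt_succ_of_lt h2⟩
          · exact ⟨h1, by omega⟩
      by_cases h2 : (T.filter (fun φ : L → ℂ => d φ = D)).Nonempty
      · by_cases h1 : (T.filter (fun φ : L → ℂ => d φ < D)).Nonempty
        · obtain ⟨χ₁, hχ₁, hdvd, hineq⟩ := hlev D h1 h2
          rw [hunion]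
          exact CS.extend_many hS d n hd hn χ₁ (T.filter (fun φ : L → ℂ => d φ = D))
            (hsubS _) (heqc D) _ (T.filter (fun φ : L → ℂ => d φ < D)) le_rfl (hsubS _) (hltc D)
            (ih h1) hχ₁ hdvd hineq
        · rw [Finset.not_nonempty_iff_eq_empty] at h1
          rw [hunion, h1, Finset.empty_union]
          have hsub := CS.sub hS (hsubS (fun φ : L → ℂ => d φ = D))
            (by rw [Finset.coe_nonempty]; exact h2)
            (fun φ hφ => Finset.mem_coe.mpr (heqc D φ (Finset.mem_coe.mp hφ)))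
          apply CS.coherent_of_constant_degree hsub
          intro φ hφ ψ hψ
          have hφ' := Finset.mem_filter.mp (Finset.mem_coe.mp hφ)
          have hψ' := Finset.mem_filter.mp (Finset.mem_coe.mp hψ)
          rw [hd φ (hT (Finset.mem_coe.mpr hφ'.1)), hd ψ (hT (Finset.mem_coe.mpr hψ'.1)),
            hφ'.2, hψ'.2]
      · rw [Finset.not_nonempty_iff_eq_empty] at h2
        rw [hunion, h2, Finset.union_empty] at hne ⊢
        exact ih hne
  have hall : T.filter (fun φ : L → ℂ => d φ < T.sup d + 1) = T := by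
    apply Finset.filter_true_of_mem
    intro φ hφ
    exact Nat.lt_succ_of_le (Finset.le_sup hφ)
  have := key (T.sup d + 1) (by rw [hall]; exact hTne)
  rw [hall] at this
  exact this

end sys

end Cfsg.Agent.H2.PF6
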