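import Mathlib
import Cfsg.Prelude.Def_OddOrderChar
import Cfsg.Agent.H2.PF6.N3
import Cfsg.Agent.H2.PF6.N4
import Cfsg.Agent.Lib.helper3.Degrees

set_option autoImplicit false
set_option linter.style.haveILetI false
set_option linter.unusedSectionVars false

/-!
# Peterfalvi (6.6), second half: the `p`-group case
-/

namespace Cfsg.Agent.H2.PF6

open Cfsg Cfsg.Agent.Lib.helper3.Irr Cfsg.Agent.Lib.helper3.IndFun Cfsg.Agent.Lib.helper3.Coh
open scoped ComplexConjugate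

theorem level_ineq (e p a₁ b W : ℕ) (hp3 : 3 ≤ p) (he : 0 < e) (hab : a₁ < b)
    (hW : e * p ^ (2 * b) ≤ W) : 2 * (e * p ^ b) * (e * p ^ a₁) < e * W := by
  have h1 : 3 * p ^ a₁ ≤ p ^ b :=
    calc 3 * p ^ a₁ ≤ p * p ^ a₁ := Nat.mul_le_mul_right _ hp3
      _ = p ^ (a₁ + 1) := by ring
      _ ≤ p ^ b := Nat.pow_le_pow_right (by omega) hab
  have hpos : 0 < p ^ a₁ := Nat.pow_pos (by omega)
  have hpb : 0 < p ^ b := Nat.pow_pos (by omega)
  have h2 : 2 * p ^ a₁ < p ^ b := by omega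
  have h3 : p ^ b * (2 * p ^ a₁) < p ^ b * p ^ b := mul_lt_mul_of_pos_left h2 hpb
  have h4 : e * e * (p ^ b * (2 * p ^ a₁)) < e * e * (p ^ b * p ^ b) :=
    mul_lt_mul_of_pos_left h3 (Nat.mul_pos he he)
  calc 2 * (e * p ^ b) * (e * p ^ a₁) = e * e * (p ^ b * (2 * p ^ a₁)) := by ring
    _ < e * e * (p ^ b * p ^ b) := h4
    _ = e * (e * p ^ (2 * b)) := by ring
    _ ≤ e * W := Nat.mul_le_mul_left _ hW

section ind

variable {L : Type*} [Group L] [Fintype L] {G : Type*} [Group G] [Fintype G]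
variable (K : Subgroup L) [hK : K.Normal]

theorem thetaOff_nonempty (Z : Subgroup L) (hZ1 : Z ≠ ⊥) (hZK : Z ≤ K) :
    (thetaOff K Z).Nonempty := by
  classical
  letI : Fintype K := Fintype.ofFinite K
  obtain ⟨⟨z, hzZ⟩, hz1⟩ := (Subgroup.ne_bot_iff_exists_ne_one).mp hZ1
  by_contra hcon
  rw [Finset.not_nonempty_iff_eq_empty] at hcon
  have hall : ∀ θ : IrrCharacter K, (θ : K → ℂ) ⟨z, hZK hzZ⟩ = (θ : K → ℂ) 1 := by
    intro θ
    by_contra h
    have : θ ∈ thetaOff K Z := (mem_thetaOff K).mpr ⟨⟨z, hZK hzZ⟩, hzZ, h⟩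
    rw [hcon] at this
    exact absurd this (Finset.notMem_empty _)
  have h1 := sum_irrAbove (⊥ : Subgroup K) ⟨z, hZK hzZ⟩
  have hnot : (⟨z, hZK hzZ⟩ : K) ∉ (⊥ : Subgroup K) := by
    rw [Subgroup.mem_bot]
    intro h
    apply hz1
    apply Subtype.ext
    have h' : ((⟨z, hZK hzZ⟩ : K) : L) = ((1 : K) : L) := congrArg Subtype.val h
    exact h'
  rw [if_neg hnot] at h1
  have h2 := sum_sq_irrAbove (⊥ : Subgroup K)
  have h3 : ∑ θ ∈ irrAbove (⊥ : Subgroup K), (θ : K → ℂ) 1 * (θ : K → ℂ) ⟨z, hZK hzZ⟩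
      = ∑ θ ∈ irrAbove (⊥ : Subgroup K), (θ : K → ℂ) 1 * (θ : K → ℂ) 1 :=
    Finset.sum_congr rfl (fun θ _ => by rw [hall θ])
  rw [h3, h2] at h1
  have h4 : (⊥ : Subgroup K).index ≠ 0 := Subgroup.index_ne_zero_of_finite
  exact h4 (by exact_mod_cast h1)

end ind

end Cfsg.Agent.H2.PF6
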