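import Mathlib
import Cfsg.Prelude.Def_OddOrderChar
import Cfsg.Agent.H2.PF6.N5

set_option autoImplicit false
set_option linter.style.haveILetI false
set_option linter.unusedSectionVars false
set_option maxHeartbeats 1600000

/-!
# Peterfalvi (6.6), second half: the `p`-group case (assembly)
-/

namespace Cfsg.Agent.H2.PF6

open Cfsg Cfsg.Agent.Lib.helper3.Irr Cfsg.Agent.Lib.helper3.IndFun Cfsg.Agent.Lib.helper3.Coh
open scoped ComplexConjugate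

section ind

variable {L : Type*} [Group L] [Fintype L] {G : Type*} [Group G] [Fintype G]
variable (K : Subgroup L) [hK : K.Normal]

/-- The total of the squares of the degrees of `thetaOff`, in a `p`-group. -/
theorem total_thetaOff (Z : Subgroup L) [Z.Normal] (hZK : Z ≤ K) (p m : ℕ) (hp : p.Prime)
    (hpm : Nat.card K = p ^ m) (a : IrrCharacter K → ℕ)
    (ha : ∀ θ : IrrCharacter K, (θ : K → ℂ) 1 = ((p ^ a θ : ℕ) : ℂ)) :
    ∃ c : ℕ, Z.relIndex K = p ^ c ∧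
      ∑ θ ∈ thetaOff K Z, (p ^ a θ) ^ 2 = p ^ c * (Nat.card Z - 1) := by
  have h1 : Z.relIndex K ∣ p ^ m := by
    rw [← hpm]
    exact Subgroup.relIndex_dvd_card Z K
  obtain ⟨c, -, hc⟩ := (Nat.dvd_prime_pow hp).mp h1
  refine ⟨c, hc, ?_⟩
  have h2 := sum_sq_thetaOff K Z (fun θ => p ^ a θ) ha
  have h3 := relIndex_mul_card' Z K hZK
  rw [hc] at h2 h3
  obtain ⟨z', hz'⟩ : ∃ z', Nat.card Z = z' + 1 := ⟨Nat.card Z - 1, by
    have : 0 < Nat.card Z := Nat.card_pos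
    omega⟩
  rw [hz'] at h3 ⊢
  rw [Nat.add_sub_cancel]
  have h4 : p ^ c * (z' + 1) = p ^ c * z' + p ^ c := by ring
  omega

/-- `2b ≤ c` from the degree bound. -/
theorem two_mul_le_of_degree (Z : Subgroup L) [Z.Normal] (hZK : Z ≤ K)
    (hZc : ∀ z ∈ Z, ∀ k ∈ K, z * k = k * z) (p c b : ℕ) (hp : p.Prime)
    (hc : Z.relIndex K = p ^ c) {θ : IrrCharacter K} (hθ : θ ∈ thetaSet K ⊥)
    (hb : (θ : K → ℂ) 1 = ((p ^ b : ℕ) : ℂ)) : 2 * b ≤ c := by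
  have hcent : ∀ x ∈ Z, ∀ y ∈ K, x * y * x⁻¹ * y⁻¹ ∈ (⊥ : Subgroup L) := by
    intro x hx y hy
    rw [Subgroup.mem_bot, hZc x hx y hy]
    group
  have h1 := degree_bound K (B := ⊥) (C := K) (D := Z) bot_le hZK le_rfl hcent hθ hb
  have h3 := relIndex_mul_card' Z K hZK
  rw [hc] at h3
  have hK0 : 0 < Nat.card K := Nat.card_pos
  have hZ0 : 0 < Nat.card Z := Nat.card_pos
  have h4 : (p ^ b) ^ 2 * (Nat.card K * Nat.card Z) ≤ p ^ c * (Nat.card K * Nat.card Z) := by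
    calc (p ^ b) ^ 2 * (Nat.card K * Nat.card Z) = (p ^ b) ^ 2 * Nat.card K * Nat.card Z := by ring
      _ ≤ Nat.card K ^ 2 := h1
      _ = p ^ c * (Nat.card K * Nat.card Z) := by rw [← h3]; ring
  have h5 : (p ^ b) ^ 2 ≤ p ^ c := Nat.le_of_mul_le_mul_right h4 (Nat.mul_pos hK0 hZ0)
  rw [← pow_mul, mul_comm] at h5
  exact (Nat.pow_le_pow_iff_right hp.one_lt).mp h5


/-- Peterfalvi (6.6), second statement, when `K` is a `p`-group. -/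
theorem coherent_off_pgroup (τ : (L → ℂ) → (G → ℂ)) (R : (L → ℂ) → Finset (G → ℂ))
    (hS : IsCoherenceSystem (inducedIrrAbove K ⊥) τ R)
    (Z : Subgroup L) [Z.Normal] (hZ1 : Z ≠ ⊥) (hZK : Z ≤ K)
    (hZc : ∀ z ∈ Z, ∀ k ∈ K, z * k = k * z)
    (hirr : ∀ χ ∈ inducedIrrAbove K ⊥ \ inducedIrrAbove K Z, IsIrrCharacter L χ)
    (p m : ℕ) (hp : p.Prime) (hp3 : 3 ≤ p) (hpm : Nat.card K = p ^ m)
    (hcop : Nat.Coprime K.index p) :
    IsCoherent (inducedIrrAbove K ⊥ \ inducedIrrAbove K Z) ({1}ᶜ : Set L) τ := by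
  classical
  letI : Fintype K := Fintype.ofFinite K
  set e := K.index with he
  have he0 : 0 < e := Nat.pos_of_ne_zero Subgroup.index_ne_zero_of_finite
  have hfin : (inducedIrrAbove K (⊥ : Subgroup L)).Finite := CS.finite hS
  have hTS : inducedIrrAbove K ⊥ \ inducedIrrAbove K Z ⊆ inducedIrrAbove K ⊥ := Set.sdiff_subset
  set T : Finset (L → ℂ) := (hfin.subset hTS).toFinset with hTdef
  have hT' : ∀ φ, φ ∈ T ↔ φ ∈ inducedIrrAbove K ⊥ \ inducedIrrAbove K Z :=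
    fun φ => Set.Finite.mem_toFinset _
  have hTcoe : (↑T : Set (L → ℂ)) = inducedIrrAbove K ⊥ \ inducedIrrAbove K Z :=
    Set.Finite.coe_toFinset _
  -- degree and norm functions
  have hdeg : ∀ φ ∈ inducedIrrAbove K (⊥ : Subgroup L), ∃ m : ℕ, φ 1 = (m : ℂ) :=
    fun φ hφ => exists_nat_apply_one (hS.isCharacter φ hφ)
  have hnorm : ∀ φ ∈ inducedIrrAbove K (⊥ : Subgroup L),
      ∃ m : ℕ, 0 < m ∧ classInner φ φ = (m : ℂ) := fun φ hφ => CS.exists_norm hS hφ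
  choose! d hd using hdeg
  choose! n hn using hnorm
  -- degrees of the characters of `K`
  have htex : ∀ θ : IrrCharacter K, ∃ a : ℕ, (θ : K → ℂ) 1 = ((p ^ a : ℕ) : ℂ) := by
    intro θ
    obtain ⟨t, ht1, ht2, -⟩ := Cfsg.Agent.Lib.helper3.Central.irr_degree_dvd_card θ.2
    rw [hpm] at ht2
    obtain ⟨a, -, rfl⟩ := (Nat.dvd_prime_pow hp).mp ht2
    exact ⟨a, ht1⟩
  choose a ha using htex
  -- the members of `T`
  have hIndT : ∀ θ ∈ thetaOff K Z, indFun K (θ : K → ℂ) ∈ T := fun θ hθ =>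
    (hT' _).mpr ((mem_diff_iff K Z hZK).mpr ⟨θ, hθ, rfl⟩)
  have hTex : ∀ φ ∈ T, ∃ θ ∈ thetaOff K Z, φ = indFun K (θ : K → ℂ) := fun φ hφ =>
    (mem_diff_iff K Z hZK).mp ((hT' φ).mp hφ)
  have hdInd : ∀ θ ∈ thetaOff K Z, d (indFun K (θ : K → ℂ)) = e * p ^ a θ := by
    intro θ hθ
    have h1 := hd _ (hTS ((hT' _).mp (hIndT θ hθ)))
    rw [indFun_one_eq, ha θ] at h1
    exact_mod_cast h1.symm
  have hnInd : ∀ θ ∈ thetaOff K Z, n (indFun K (θ : K → ℂ)) = 1 := by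
    intro θ hθ
    have hmem := (hT' _).mp (hIndT θ hθ)
    have h1 := (hn _ (hTS hmem)).2
    rw [irr_classInner_self (hirr _ hmem)] at h1
    exact_mod_cast h1.symm
  have hTsub : (↑T : Set (L → ℂ)) ⊆ inducedIrrAbove K ⊥ := by rw [hTcoe]; exact hTS
  have hTconj : ∀ φ ∈ T, Cfsg.conjFun φ ∈ T := by
    intro φ hφ
    obtain ⟨h1, h2⟩ := (hT' φ).mp hφ
    refine (hT' _).mpr ⟨inducedIrrAbove_conj K h1, fun h3 => h2 ?_⟩
    have := inducedIrrAbove_conj K h3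
    rwa [conjFun_conjFun] at this
  have hTne : T.Nonempty := by
    obtain ⟨θ, hθ⟩ := thetaOff_nonempty K Z hZ1 hZK
    exact ⟨_, hIndT θ hθ⟩
  obtain ⟨c, hc, htotal⟩ := total_thetaOff K Z hZK p m hp hpm a ha
  have hcoh := CS.coherent_of_levels hS d n hd (fun φ hφ => (hn φ hφ).2) T hTsub hTconj hTne ?_
  · rw [hTcoe] at hcoh
    exact hcoh
  -- the level condition
  intro D h1 h2
  obtain ⟨χ₁, hχ₁⟩ := h1
  obtain ⟨hχ₁T, hχ₁D⟩ := Finset.mem_filter.mp hχ₁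
  obtain ⟨θ₁, hθ₁, rfl⟩ := hTex χ₁ hχ₁T
  obtain ⟨χ₂, hχ₂⟩ := h2
  obtain ⟨hχ₂T, hχ₂D⟩ := Finset.mem_filter.mp hχ₂
  obtain ⟨θ₂, hθ₂, rfl⟩ := hTex χ₂ hχ₂T
  rw [hdInd θ₂ hθ₂] at hχ₂D
  rw [hdInd θ₁ hθ₁, ← hχ₂D] at hχ₁D
  have hab : a θ₁ < a θ₂ := by
    have h3 : p ^ a θ₁ < p ^ a θ₂ := Nat.lt_of_mul_lt_mul_left hχ₁D
    exact (Nat.pow_lt_pow_iff_right hp.one_lt).mp h3
  have hbc : 2 * a θ₂ ≤ c :=
    two_mul_le_of_degree K Z hZK hZc p c (a θ₂) hp hc (thetaOff_subset K Z hθ₂) (ha θ₂)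
  -- the lower part of `thetaOff`
  set Θ' : Finset (IrrCharacter K) :=
    (thetaOff K Z).filter (fun θ : IrrCharacter K => e * p ^ a θ < D) with hΘ'
  set F : Finset (L → ℂ) := T.filter (fun φ : L → ℂ => d φ < D) with hF
  have hFmem : ∀ φ, φ ∈ F ↔ ∃ θ ∈ Θ', φ = indFun K (θ : K → ℂ) := by
    intro φ
    constructor
    · intro hφ
      obtain ⟨hφT, hφD⟩ := Finset.mem_filter.mp hφ
      obtain ⟨θ, hθ, rfl⟩ := hTex φ hφT
      rw [hdInd θ hθ] at hφD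
      exact ⟨θ, Finset.mem_filter.mpr ⟨hθ, hφD⟩, rfl⟩
    · rintro ⟨θ, hθ, rfl⟩
      obtain ⟨hθ1, hθ2⟩ := Finset.mem_filter.mp hθ
      exact Finset.mem_filter.mpr ⟨hIndT θ hθ1, by rw [hdInd θ hθ1]; exact hθ2⟩
  have hsat : ∀ θ ∈ Θ', ∀ θ' ∈ thetaSet K (⊥ : Subgroup L),
      indFun K (θ' : K → ℂ) = indFun K (θ : K → ℂ) → θ' ∈ Θ' := by
    intro θ hθ θ' _ heq
    obtain ⟨hθ1, hθ2⟩ := Finset.mem_filter.mp hθ
    have hθ'off : θ' ∈ thetaOff K Z := thetaOff_sat K Z hZK hθ1 heq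
    refine Finset.mem_filter.mpr ⟨hθ'off, ?_⟩
    rw [← hdInd θ' hθ'off, heq, hdInd θ hθ1]
    exact hθ2
  have hFsubT : ∀ φ ∈ F, φ ∈ T := fun φ hφ => (Finset.mem_filter.mp hφ).1
  have hFS : ∀ φ ∈ F, φ ∈ inducedIrrAbove K (⊥ : Subgroup L) := fun φ hφ =>
    hTS ((hT' φ).mp (hFsubT φ hφ))
  have hsumC := sum_sq_div_sat K Θ' ((Finset.filter_subset _ _).trans (thetaOff_subset K Z)) hsat
    F hFmem d n (fun φ hφ => hd φ (hFS φ hφ)) (fun φ hφ => (hn φ (hFS φ hφ)).2)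
    (fun φ hφ => (hn φ (hFS φ hφ)).1.ne')
  set W : ℕ := ∑ θ ∈ Θ', (p ^ a θ) ^ 2 with hW
  have hsumC' : ∑ φ ∈ F, ((d φ : ℂ) ^ 2 / (n φ : ℂ)) = ((e * W : ℕ) : ℂ) := by
    rw [hsumC, hW]
    push_cast
    congr 1
    apply Finset.sum_congr rfl
    intro θ _
    rw [ha θ]
    push_cast
    ring
  have hsumR : ∑ φ ∈ F, ((d φ : ℝ) ^ 2 / (n φ : ℝ)) = ((e * W : ℕ) : ℝ) := by
    apply Complex.ofReal_injective
    push_cast
    push_cast at hsumC'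
    exact hsumC'
  -- `e ∣ W`
  have hFn : ∀ φ ∈ F, n φ = 1 := by
    intro φ hφ
    obtain ⟨θ, hθ, rfl⟩ := hTex φ (hFsubT φ hφ)
    exact hnInd θ hθ
  have hsumN : e * W = ∑ φ ∈ F, d φ ^ 2 := by
    have h3 : ((e * W : ℕ) : ℂ) = ((∑ φ ∈ F, d φ ^ 2 : ℕ) : ℂ) := by
      rw [← hsumC']
      push_cast
      apply Finset.sum_congr rfl
      intro φ hφ
      rw [hFn φ hφ, Nat.cast_one, div_one]
    exact_mod_cast h3
  have heW : e ∣ W := by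
    have h3 : e * e ∣ e * W := by
      rw [hsumN]
      apply Finset.dvd_sum
      intro φ hφ
      obtain ⟨θ, hθ, rfl⟩ := hTex φ (hFsubT φ hφ)
      rw [hdInd θ hθ]
      exact ⟨(p ^ a θ) ^ 2, by ring⟩
    exact Nat.dvd_of_mul_dvd_mul_left he0 h3
  -- positivity
  have hθ₁Θ' : θ₁ ∈ Θ' := Finset.mem_filter.mpr ⟨hθ₁, by rw [← hχ₂D]; exact hχ₁D⟩
  have hWpos : 0 < W := by
    have h3 : (p ^ a θ₁) ^ 2 ≤ W :=
      Finset.single_le_sum (f := fun θ : IrrCharacter K => (p ^ a θ) ^ 2)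
        (fun _ _ => Nat.zero_le _) hθ₁Θ'
    have h4 : 0 < (p ^ a θ₁) ^ 2 := by
      have : 0 < p := hp.pos
      positivity
    omega
  -- the big part
  set Wbig : ℕ := ∑ θ ∈ (thetaOff K Z).filter (fun θ : IrrCharacter K => ¬ e * p ^ a θ < D),
    (p ^ a θ) ^ 2 with hWbig
  have hsplit : W + Wbig = p ^ c * (Nat.card Z - 1) := by
    rw [← htotal, hW, hWbig, hΘ']
    exact Finset.sum_filter_add_sum_filter_not (thetaOff K Z) _ _
  have hbig : p ^ (2 * a θ₂) ∣ Wbig := by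
    apply Finset.dvd_sum
    intro θ hθ
    obtain ⟨-, hθ2⟩ := Finset.mem_filter.mp hθ
    rw [← hχ₂D, not_lt] at hθ2
    have h3 : p ^ a θ₂ ≤ p ^ a θ := Nat.le_of_mul_le_mul_left hθ2 he0
    have h4 : a θ₂ ≤ a θ := (Nat.pow_le_pow_iff_right hp.one_lt).mp h3
    rw [← pow_mul]
    exact pow_dvd_pow p (by omega)
  have hkey := level_arith e p (a θ₂) c (Nat.card Z) W Wbig hp hcop hsplit hbc hbig heW hWpos
  have hfinal := level_ineq e p (a θ₁) (a θ₂) W hp3 he0 hab hkey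
  refine ⟨indFun K (θ₁ : K → ℂ), hχ₁, ?_, ?_⟩
  · intro χ hχ
    obtain ⟨hχT, hχD⟩ := Finset.mem_filter.mp hχ
    rw [hχD, hdInd θ₁ hθ₁, ← hχ₂D]
    exact Nat.mul_dvd_mul_left e (pow_dvd_pow p hab.le)
  · intro χ hχ
    obtain ⟨hχT, hχD⟩ := Finset.mem_filter.mp hχ
    rw [hsumR, hχD, hdInd θ₁ hθ₁, ← hχ₂D]
    exact_mod_cast hfinal

end ind

end Cfsg.Agent.H2.PF6
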