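import Mathlib
import Cfsg.Prelude.Def_OddOrderChar
import Cfsg.Agent.H2.PF6.N6

set_option autoImplicit false
set_option linter.style.haveILetI false
set_option linter.unusedSectionVars false

/-!
# Peterfalvi (6.6): assembly
-/

namespace Cfsg.Agent.H2.PF6

open Cfsg Cfsg.Agent.Lib.helper3.Irr Cfsg.Agent.Lib.helper3.IndFun Cfsg.Agent.Lib.helper3.Coh
open scoped ComplexConjugate

section main

variable {L : Type*} [Group L] [Fintype L] {G : Type*} [Group G] [Fintype G]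

/-- Peterfalvi (6.6). -/
theorem s1522 (K : Subgroup L) [hK : K.Normal] (hsolv : Group.IsSolvable K)
    (τ : (L → ℂ) → (G → ℂ)) (R : (L → ℂ) → Finset (G → ℂ))
    (hS : IsCoherenceSystem (inducedIrrAbove K ⊥) τ R) (hodd : Odd (Nat.card L))
    (hnil : Group.IsNilpotent K) (hH₁K : ⁅K, K⁆ < K)
    (hfrob : ∀ k ∈ K, k ∉ ⁅K, K⁆ → ∀ x : L, x * k * x⁻¹ * k⁻¹ ∈ ⁅K, K⁆ → x ∈ K)
    (Z : Subgroup L) [Z.Normal] (hZ1 : Z ≠ ⊥) (hZK : Z ≤ K)
    (hZc : ∀ z ∈ Z, ∀ k ∈ K, z * k = k * z)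
    (hirr : ∀ χ ∈ inducedIrrAbove K ⊥ \ inducedIrrAbove K Z, IsIrrCharacter L χ) :
    inducedIrrAbove K ⊥ \ inducedIrrAbove K Z = {χ | IsIrrCharacter L χ ∧ ∃ z ∈ Z, χ z ≠ χ 1} ∧
      IsCoherent (inducedIrrAbove K ⊥ \ inducedIrrAbove K Z) ({1}ᶜ : Set L) τ := by
  refine ⟨diff_eq_irr K Z hZK hirr, ?_⟩
  by_cases hpp : ∃ p m : ℕ, p.Prime ∧ Nat.card K = p ^ m
  · -- the `p`-group case
    obtain ⟨p, m, hp, hpm⟩ := hpp
    haveI : (⁅K, K⁆ : Subgroup L).Normal := inferInstance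
    have hdvd := frob_dvd ⁅K, K⁆ K K hH₁K.le le_rfl le_rfl hfrob
    -- `p ∣ [K:K']`
    have hrel1 : (⁅K, K⁆ : Subgroup L).relIndex K ≠ 1 := by
      intro h
      exact not_le_of_gt hH₁K (Subgroup.relIndex_eq_one.mp h)
    have hreldvd : (⁅K, K⁆ : Subgroup L).relIndex K ∣ p ^ m := by
      rw [← hpm]
      exact Subgroup.relIndex_dvd_card _ K
    obtain ⟨j, -, hj⟩ := (Nat.dvd_prime_pow hp).mp hreldvd
    have hj0 : j ≠ 0 := by
      rintro rfl
      rw [pow_zero] at hj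
      exact hrel1 hj
    have hpK : p ∣ Nat.card K := by
      have : p ∣ (⁅K, K⁆ : Subgroup L).relIndex K := by
        rw [hj]
        exact dvd_pow_self p hj0
      exact this.trans (Subgroup.relIndex_dvd_card _ K)
    have hpL : p ∣ Nat.card L := hpK.trans (Subgroup.card_subgroup_dvd_card K)
    have hpodd : Odd p := Odd.of_dvd_nat hodd hpL
    have hp3 : 3 ≤ p := by
      have h2 := hp.two_le
      obtain ⟨u, hu⟩ := hpodd
      omega
    have hcop : Nat.Coprime K.index p := by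
      rw [Nat.coprime_comm, Nat.Prime.coprime_iff_not_dvd hp]
      intro hpe
      have h1 : p ∣ p ^ j - 1 := by
        rw [← hj]
        exact hpe.trans hdvd
      have h2 : p ∣ p ^ j := dvd_pow_self p hj0
      have h3 : 0 < p ^ j := Nat.pow_pos hp.pos
      have h4 : p ∣ 1 := by
        have := (Nat.dvd_sub h2 h1)
        rwa [Nat.sub_sub_self h3] at this
      exact hp.one_lt.ne' (Nat.dvd_one.mp h4)
    exact coherent_off_pgroup K τ R hS Z hZ1 hZK hZc hirr p m hp hp3 hpm hcop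
  · -- not a prime power: everything is coherent
    haveI : ((⊥ : Subgroup L).subgroupOf K).Normal := inferInstance
    have hnilq : Group.IsNilpotent (↥K ⧸ (⊥ : Subgroup L).subgroupOf K) := by
      haveI := hnil
      infer_instance
    have hH₁ : (⁅K, K⁆ : Subgroup L) = ⁅K, K⁆ ⊔ ⊥ := (sup_bot_eq _).symm
    have hall := s1521 K hsolv τ R hS hodd ⊥ bot_le hnilq ⁅K, K⁆ hH₁ hH₁K hfrob
      (Or.inr (Or.inr (Or.inl (by
        rw [Subgroup.relIndex_bot_left]
        exact hpp))))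
    apply isCoherent_subset hall Set.sdiff_subset
    apply CS.exists_ne_zero hS Set.sdiff_subset
    · intro φ hφ
      obtain ⟨h1, h2⟩ := hφ
      refine ⟨inducedIrrAbove_conj K h1, fun h3 => h2 ?_⟩
      have := inducedIrrAbove_conj K h3
      rwa [conjFun_conjFun] at this
    · obtain ⟨θ, hθ⟩ := thetaOff_nonempty K Z hZ1 hZK
      exact ⟨_, (mem_diff_iff K Z hZK).mpr ⟨θ, hθ, rfl⟩⟩

end main

end Cfsg.Agent.H2.PF6
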