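import Mathlib
import Cfsg.Prelude.Def_OddOrderChar
import Cfsg.Agent.Lib.helper3.Coh16

set_option autoImplicit false
set_option linter.style.haveILetI false
set_option linter.unusedSectionVars false

/-!
# Sibley's theorem (Peterfalvi 6.8), part 1: arithmetic of the two-sided analysis
-/

namespace Cfsg.Agent.H2.PF6

theorem sum_sq_affine {ι : Type*} [DecidableEq ι] (W : Finset ι) (w₀ : ι) (hw₀ : w₀ ∈ W)
    (r c : ι → ℤ) (t c₀ : ℤ) (hr : r w₀ = 1)
    (hc : ∀ w ∈ W, c w = r w * t + if w = w₀ then c₀ else 0) :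
    ∑ w ∈ W, c w ^ 2 = t ^ 2 * ∑ w ∈ W, r w ^ 2 + 2 * t * c₀ + c₀ ^ 2 := by
  rw [← Finset.add_sum_erase W _ hw₀, ← Finset.add_sum_erase W (fun w => r w ^ 2) hw₀]
  have h1 : ∑ w ∈ W.erase w₀, c w ^ 2 = t ^ 2 * ∑ w ∈ W.erase w₀, r w ^ 2 := by
    rw [Finset.mul_sum]
    apply Finset.sum_congr rfl
    intro w hw
    rw [hc w (Finset.mem_of_mem_erase hw), if_neg (Finset.ne_of_mem_erase hw)]
    ring
  rw [h1, hc w₀ hw₀, if_pos rfl, hr]
  ring

/-- The integer arithmetic deciding the two-sided analysis. -/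
theorem link_arith (a nX sY v u k : ℤ) (ha : 1 ≤ a) (hnX : 2 ≤ nX) (hsY : 2 ≤ sY) (hk : 0 ≤ k)
    (h : a ^ 2 * (v ^ 2 * nX - 2 * v) + (u ^ 2 * sY + 2 * u) + k = 0) :
    k = 0 ∧ (v = 0 ∨ (v = 1 ∧ nX = 2)) ∧ (u = 0 ∨ (u = -1 ∧ sY = 2)) := by
  have h1 : 0 ≤ v ^ 2 * nX - 2 * v := by
    rcases le_or_gt v 0 with hv | hv
    · nlinarith [sq_nonneg v]
    · have hv1 : 1 ≤ v := hv
      nlinarith
  have h2 : 0 ≤ u ^ 2 * sY + 2 * u := by
    rcases le_or_gt 0 u with hu | hu
    · nlinarith [sq_nonneg u]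
    · have hu1 : u ≤ -1 := by omega
      nlinarith
  have ha2 : 0 < a ^ 2 := by positivity
  have h3 : 0 ≤ a ^ 2 * (v ^ 2 * nX - 2 * v) := mul_nonneg ha2.le h1
  have hk0 : k = 0 := by linarith
  have h4 : a ^ 2 * (v ^ 2 * nX - 2 * v) = 0 := by linarith
  have h5 : u ^ 2 * sY + 2 * u = 0 := by linarith
  have h6 : v ^ 2 * nX - 2 * v = 0 := by
    rcases mul_eq_zero.mp h4 with h | h
    · exact absurd h ha2.ne'
    · exact h
  refine ⟨hk0, ?_, ?_⟩
  · by_cases hv0 : v = 0
    · exact Or.inl hv0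
    · right
      have h7 : v * (v * nX - 2) = 0 := by linarith [h6]
      have h8 : v * nX = 2 := by
        rcases mul_eq_zero.mp h7 with h | h
        · exact absurd h hv0
        · linarith
      have hvpos : 0 < v := by
        by_contra hneg
        push Not at hneg
        have : v * nX ≤ 0 := mul_nonpos_of_nonpos_of_nonneg hneg (by linarith)
        linarith
      have hv1 : v = 1 := by nlinarith
      subst hv1
      exact ⟨rfl, by linarith⟩
  · by_cases hu0 : u = 0
    · exact Or.inl hu0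
    · right
      have h7 : u * (u * sY + 2) = 0 := by linarith [h5]
      have h8 : u * sY = -2 := by
        rcases mul_eq_zero.mp h7 with h | h
        · exact absurd h hu0
        · linarith
      have huneg : u < 0 := by
        by_contra hpos
        push Not at hpos
        have : 0 ≤ u * sY := mul_nonneg hpos (by linarith)
        linarith
      have hu1 : u = -1 := by nlinarith
      subst hu1
      exact ⟨rfl, by linarith⟩

end Cfsg.Agent.H2.PF6
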