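import Mathlib
import Cfsg.Prelude.Def_OddOrderChar
import Cfsg.Agent.H2.PF6.S1

set_option autoImplicit false
set_option linter.style.haveILetI false
set_option linter.unusedSectionVars false
set_option maxHeartbeats 1600000

/-!
# Sibley's theorem (Peterfalvi 6.8), part 2: the two-sided analysis of `τ (φ - a χ₁)`
-/

namespace Cfsg.Agent.H2.PF6

open Cfsg Cfsg.Agent.Lib.helper3.Coh Cfsg.Agent.Lib.helper3.Irr Cfsg.Agent.Lib.helper3.CharBasic
open Cfsg.Agent.Lib.helper3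
open scoped ComplexConjugate

section link

variable {L : Type*} [Group L] [Fintype L] {G : Type*} [Group G] [Fintype G]

/-- Two coherent sets `X` (of constant degree `e`) and `Y` (of degrees multiples of `a e`), with
orthogonal images: if the coefficient of `τ (φ - a χ₁)` on a second member of `X` is divisible
by `a`, then `τ (φ - a χ₁)` is the sum of a part in the image of `X` and a part in the image of
`Y` of the expected shape, up to the swap in the two-element cases. -/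
theorem link_analysis (τ : (L → ℂ) → (G → ℂ)) (S : Set (L → ℂ))
    (hirr : ∀ ξ ∈ S, IsIrrCharacter L ξ)
    (hτ : IsLinearIsometryOn (zspanOn S ({1}ᶜ : Set L)) τ)
    (X Y : Finset (L → ℂ)) (hXS : (↑X : Set (L → ℂ)) ⊆ S) (hYS : (↑Y : Set (L → ℂ)) ⊆ S)
    (hXY : Disjoint X Y)
    (σ τ₂ : (L → ℂ) → (G → ℂ)) (hσ : IsLinearIsometryOn (zspan (↑X : Set (L → ℂ))) σ)
    (hσα : ∀ θ ∈ zspanOn (↑X : Set (L → ℂ)) ({1}ᶜ : Set L), σ θ = τ θ)
    (hτ₂ : IsLinearIsometryOn (zspan (↑Y : Set (L → ℂ))) τ₂)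
    (hτ₂α : ∀ θ ∈ zspanOn (↑Y : Set (L → ℂ)) ({1}ᶜ : Set L), τ₂ θ = τ θ)
    (hcross : ∀ ψ ∈ X, ∀ η ∈ Y, classInner (σ ψ) (τ₂ η) = 0)
    (χ₁ : L → ℂ) (hχ₁ : χ₁ ∈ X) (e : ℕ) (hXdeg : ∀ ψ ∈ X, ψ 1 = (e : ℂ))
    (φ : L → ℂ) (hφ : φ ∈ Y) (a : ℕ) (ha : 0 < a) (b : (L → ℂ) → ℕ)
    (hb : ∀ η ∈ Y, η 1 = ((b η * (a * e) : ℕ) : ℂ)) (hbφ : b φ = 1)
    (ψ₂ : L → ℂ) (hψ₂ : ψ₂ ∈ X) (hψ₂ne : ψ₂ ≠ χ₁)
    (φ₂ : L → ℂ) (hφ₂ : φ₂ ∈ Y) (hφ₂ne : φ₂ ≠ φ) (hbφ₂ : b φ₂ = 1)
    (hbpos : ∀ η ∈ Y, 0 < b η)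
    (hcong : ∃ k : ℤ, classInner (τ (φ - (a : ℤ) • χ₁)) (σ ψ₂) = (((a : ℤ) * k : ℤ) : ℂ)) :
    ∃ PX PY : G → ℂ, τ (φ - (a : ℤ) • χ₁) = PY + PX ∧
      (PX = -((a : ℤ) • σ χ₁) ∨ (PX = (a : ℤ) • σ ψ₂ ∧ ∀ ψ ∈ X, ψ = χ₁ ∨ ψ = ψ₂)) ∧
      (PY = τ₂ φ ∨ (PY = -(τ₂ φ₂) ∧ ∀ η ∈ Y, η = φ ∨ η = φ₂)) := by
  classical
  have hXirr : ∀ ψ ∈ X, IsIrrCharacter L ψ := fun ψ h => hirr ψ (hXS (Finset.mem_coe.mpr h))
  have hYirr : ∀ η ∈ Y, IsIrrCharacter L η := fun η h => hirr η (hYS (Finset.mem_coe.mpr h))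
  have hXspan : ∀ ψ ∈ X, ψ ∈ zspan (↑X : Set (L → ℂ)) :=
    fun ψ h => mem_zspan_of_mem (Finset.mem_coe.mpr h)
  have hYspan : ∀ η ∈ Y, η ∈ zspan (↑Y : Set (L → ℂ)) :=
    fun η h => mem_zspan_of_mem (Finset.mem_coe.mpr h)
  have hXSspan : ∀ ψ ∈ X, ψ ∈ zspan S := fun ψ h => mem_zspan_of_mem (hXS (Finset.mem_coe.mpr h))
  have hYSspan : ∀ η ∈ Y, η ∈ zspan S := fun η h => mem_zspan_of_mem (hYS (Finset.mem_coe.mpr h))
  have hneXY : ∀ ψ ∈ X, ∀ η ∈ Y, ψ ≠ η := by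
    intro ψ hψ η hη h
    exact (Finset.disjoint_left.mp hXY hψ) (h ▸ hη)
  have horth : ∀ ξ ∈ S, ∀ ξ' ∈ S, ξ ≠ ξ' → classInner ξ ξ' = 0 :=
    fun ξ h ξ' h' hne => irr_classInner_eq_zero (hirr ξ h) (hirr ξ' h') hne
  have hφS : φ ∈ S := hYS (Finset.mem_coe.mpr hφ)
  have hχ₁S : χ₁ ∈ S := hXS (Finset.mem_coe.mpr hχ₁)
  -- β
  set β := φ - (a : ℤ) • χ₁ with hβdef
  have hβ : β ∈ zspanOn S ({1}ᶜ : Set L) := by
    rw [mem_zspanOn_one_iff]
    refine ⟨zspan_sub (hYSspan φ hφ) (zspan_zsmul _ (hXSspan χ₁ hχ₁)), ?_⟩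
    rw [hβdef, Pi.sub_apply, Pi.smul_apply, zsmul_eq_mul, hb φ hφ, hXdeg χ₁ hχ₁, hbφ]
    push_cast
    ring
  set B := τ β with hB
  have hBg : IsGeneralizedCharacter G B := hτ.2.2.2 β hβ
  have hφχ₁ : classInner φ χ₁ = 0 := horth φ hφS χ₁ hχ₁S (hneXY χ₁ hχ₁ φ hφ).symm
  have hχ₁φ : classInner χ₁ φ = 0 := horth χ₁ hχ₁S φ hφS (hneXY χ₁ hχ₁ φ hφ)
  have hBB : classInner B B = ((1 + (a : ℤ) ^ 2 : ℤ) : ℂ) := by
    rw [hB, hτ.2.2.1 β hβ β hβ, hβdef, classInner_sub_left, classInner_sub_right,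
      classInner_sub_right, classInner_zsmul_left, classInner_zsmul_left, classInner_zsmul_right,
      classInner_zsmul_right, irr_classInner_self (hirr φ hφS), irr_classInner_self (hirr χ₁ hχ₁S),
      hφχ₁, hχ₁φ]
    push_cast
    ring
  -- the orthonormal family
  set s : Finset (L → ℂ) := X ∪ Y with hs
  set u : (L → ℂ) → (G → ℂ) := fun ψ => if ψ ∈ X then σ ψ else τ₂ ψ with hu
  have huX : ∀ ψ ∈ X, u ψ = σ ψ := fun ψ h => by rw [hu]; simp only; rw [if_pos h]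
  have hYnotX : ∀ η ∈ Y, η ∉ X := fun η hη h => hneXY η h η hη rfl
  have huY : ∀ η ∈ Y, u η = τ₂ η := fun η h => by rw [hu]; simp only; rw [if_neg (hYnotX η h)]
  have hug : ∀ i ∈ s, IsGeneralizedCharacter G (u i) := by
    intro i hi
    rcases Finset.mem_union.mp hi with h | h
    · rw [huX i h]; exact hσ.2.2.2 i (hXspan i h)
    · rw [huY i h]; exact hτ₂.2.2.2 i (hYspan i h)
  have huu : ∀ i ∈ s, ∀ j ∈ s, classInner (u i) (u j) = if i = j then 1 else 0 := by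
    intro i hi j hj
    rcases Finset.mem_union.mp hi with h | h <;> rcases Finset.mem_union.mp hj with h' | h'
    · rw [huX i h, huX j h', hσ.2.2.1 i (hXspan i h) j (hXspan j h')]
      by_cases hij : i = j
      · rw [if_pos hij, hij, irr_classInner_self (hXirr j h')]
      · rw [if_neg hij]
        exact irr_classInner_eq_zero (hXirr i h) (hXirr j h') hij
    · rw [huX i h, huY j h', hcross i h j h', if_neg (hneXY i h j h')]
    · rw [huY i h, huX j h', ← classInner_conj_symm, hcross j h' i h, map_zero,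
        if_neg (hneXY j h' i h).symm]
    · rw [huY i h, huY j h', hτ₂.2.2.1 i (hYspan i h) j (hYspan j h')]
      by_cases hij : i = j
      · rw [if_pos hij, hij, irr_classInner_self (hYirr j h')]
      · rw [if_neg hij]
        exact irr_classInner_eq_zero (hYirr i h) (hYirr j h') hij
  -- coefficients
  have hex : ∀ i : L → ℂ, ∃ z : ℤ, i ∈ s → classInner B (u i) = (z : ℂ) := by
    intro i
    by_cases hi : i ∈ s
    · obtain ⟨z, hz⟩ := exists_int_classInner hBg (hug i hi)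
      exact ⟨z, fun _ => hz⟩
    · exact ⟨0, fun h => absurd h hi⟩
  choose c hc using hex
  have hcX : ∀ ψ ∈ X, classInner B (σ ψ) = (c ψ : ℂ) := by
    intro ψ h
    rw [← huX ψ h]
    exact hc ψ (Finset.mem_union_left _ h)
  have hcY : ∀ η ∈ Y, classInner B (τ₂ η) = (c η : ℂ) := by
    intro η h
    rw [← huY η h]
    exact hc η (Finset.mem_union_right _ h)
  -- the relations on `X`
  have hRX : ∀ ψ ∈ X, ψ ≠ χ₁ → c ψ = c χ₁ + (a : ℤ) := by
    intro ψ hψ hne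
    have hψS : ψ ∈ S := hXS (Finset.mem_coe.mpr hψ)
    set ζ := ψ - χ₁ with hζ
    have hζ1 : ζ ∈ zspanOn (↑X : Set (L → ℂ)) ({1}ᶜ : Set L) := by
      rw [mem_zspanOn_one_iff]
      refine ⟨zspan_sub (hXspan ψ hψ) (hXspan χ₁ hχ₁), ?_⟩
      rw [hζ, Pi.sub_apply, hXdeg ψ hψ, hXdeg χ₁ hχ₁, sub_self]
    have hζ2 : ζ ∈ zspanOn S ({1}ᶜ : Set L) := zspanOn_mono _ hXS hζ1
    have h1 : σ ζ = σ ψ - σ χ₁ := by
      rw [hζ, isom_map_sub hσ (fun n x hx => zspan_zsmul n hx) (hXspan ψ hψ) (hXspan χ₁ hχ₁)]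
    have h2 : classInner B (σ ζ) = classInner β ζ := by
      rw [hσα ζ hζ1, hB, hτ.2.2.1 β hβ ζ hζ2]
    have h3 : classInner β ζ = (a : ℂ) := by
      rw [hβdef, hζ, classInner_sub_left, classInner_sub_right, classInner_sub_right,
        classInner_zsmul_left, classInner_zsmul_left,
        horth φ hφS ψ hψS (hneXY ψ hψ φ hφ).symm, hφχ₁,
        horth χ₁ hχ₁S ψ hψS (Ne.symm hne), irr_classInner_self (hirr χ₁ hχ₁S)]
      push_cast
      ring
    rw [h1, classInner_sub_right, hcX ψ hψ, hcX χ₁ hχ₁, h3] at h2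
    have h4 : ((c ψ : ℤ) : ℂ) = ((c χ₁ + (a : ℤ) : ℤ) : ℂ) := by
      push_cast
      linear_combination h2
    exact_mod_cast h4
  -- the relations on `Y`
  have hRY : ∀ η ∈ Y, η ≠ φ → c η = (b η : ℤ) * (c φ - 1) := by
    intro η hη hne
    have hηS : η ∈ S := hYS (Finset.mem_coe.mpr hη)
    set ζ := η - (b η : ℤ) • φ with hζ
    have hζ1 : ζ ∈ zspanOn (↑Y : Set (L → ℂ)) ({1}ᶜ : Set L) := by
      rw [mem_zspanOn_one_iff]
      refine ⟨zspan_sub (hYspan η hη) (zspan_zsmul _ (hYspan φ hφ)), ?_⟩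
      rw [hζ, Pi.sub_apply, Pi.smul_apply, zsmul_eq_mul, hb η hη, hb φ hφ, hbφ]
      push_cast
      ring
    have hζ2 : ζ ∈ zspanOn S ({1}ᶜ : Set L) := zspanOn_mono _ hYS hζ1
    have h1 : τ₂ ζ = τ₂ η - (b η : ℤ) • τ₂ φ := by
      rw [hζ, isom_map_sub hτ₂ (fun n x hx => zspan_zsmul n hx) (hYspan η hη)
        (zspan_zsmul _ (hYspan φ hφ)), hτ₂.2.1 φ (hYspan φ hφ)]
    have h2 : classInner B (τ₂ ζ) = classInner β ζ := by
      rw [hτ₂α ζ hζ1, hB, hτ.2.2.1 β hβ ζ hζ2]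
    have h3 : classInner β ζ = -(b η : ℂ) := by
      rw [hβdef, hζ, classInner_sub_left, classInner_sub_right, classInner_sub_right,
        classInner_zsmul_left, classInner_zsmul_left, classInner_zsmul_right,
        classInner_zsmul_right,
        horth φ hφS η hηS (Ne.symm hne), irr_classInner_self (hirr φ hφS),
        horth χ₁ hχ₁S η hηS (hneXY χ₁ hχ₁ η hη), hχ₁φ]
      push_cast
      ring
    rw [h1, classInner_sub_right, classInner_zsmul_right, hcY η hη, hcY φ hφ, h3] at h2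
    have h4 : ((c η : ℤ) : ℂ) = (((b η : ℤ) * (c φ - 1) : ℤ) : ℂ) := by
      push_cast
      push_cast at h2
      linear_combination h2
    exact_mod_cast h4
  -- Bessel
  obtain ⟨-, hbes⟩ := bessel s u huu B c hc
  set Rem := B - ∑ j ∈ s, c j • u j with hRem
  have hRemg : IsGeneralizedCharacter G Rem := by
    apply GenChar.sub hBg
    apply GenChar.sum
    intro j hj
    exact GenChar.zsmul (hug j hj) _
  obtain ⟨k, hk⟩ := exists_nat_norm hRemg
  rw [hk, hBB] at hbes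
  have hbesZ : 1 + (a : ℤ) ^ 2 = ∑ i ∈ s, c i ^ 2 + (k : ℤ) := by exact_mod_cast hbes
  -- the two sums
  set v' : ℤ := c χ₁ + (a : ℤ) with hv'
  set u' : ℤ := c φ - 1 with hu'
  have hsumX : ∑ ψ ∈ X, c ψ ^ 2 = v' ^ 2 * (X.card : ℤ) + 2 * v' * (-(a : ℤ)) + (-(a : ℤ)) ^ 2 := by
    have := sum_sq_affine X χ₁ hχ₁ (fun _ => 1) c v' (-(a : ℤ)) rfl (by
      intro w hw
      by_cases hw1 : w = χ₁
      · rw [if_pos hw1, hw1, hv']
        ring
      · rw [if_neg hw1, hRX w hw hw1, hv']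
        ring)
    rw [this]
    simp
  have hsumY : ∑ η ∈ Y, c η ^ 2 = u' ^ 2 * ∑ η ∈ Y, (b η : ℤ) ^ 2 + 2 * u' * 1 + 1 ^ 2 := by
    apply sum_sq_affine Y φ hφ (fun η => (b η : ℤ)) c u' 1 (by simp [hbφ])
    intro w hw
    by_cases hw1 : w = φ
    · rw [if_pos hw1, hw1, hu', hbφ]
      push_cast
      ring
    · rw [if_neg hw1, hRY w hw hw1, hu']
      ring
  have hsplit : ∑ i ∈ s, c i ^ 2 = ∑ ψ ∈ X, c ψ ^ 2 + ∑ η ∈ Y, c η ^ 2 := by
    rw [hs, Finset.sum_union hXY]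
  -- the congruence
  obtain ⟨kk, hkk⟩ := hcong
  have hv'k : v' = (a : ℤ) * kk := by
    have h1 : ((c ψ₂ : ℤ) : ℂ) = (((a : ℤ) * kk : ℤ) : ℂ) := by
      rw [← hcX ψ₂ hψ₂, hB, hβdef, hkk]
    have h2 : c ψ₂ = (a : ℤ) * kk := by exact_mod_cast h1
    have h3 := hRX ψ₂ hψ₂ hψ₂ne
    rw [h2] at h3
    rw [hv']
    exact h3.symm
  -- sizes
  have hXcard : (2 : ℤ) ≤ (X.card : ℤ) := by
    have h1 : ({χ₁, ψ₂} : Finset (L → ℂ)) ⊆ X := by
      intro x hx
      rcases Finset.mem_insert.mp hx with rfl | hx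
      · exact hχ₁
      · rw [Finset.mem_singleton.mp hx]; exact hψ₂
    have h2 := Finset.card_le_card h1
    rw [Finset.card_pair (Ne.symm hψ₂ne)] at h2
    exact_mod_cast h2
  set sY : ℤ := ∑ η ∈ Y, (b η : ℤ) ^ 2 with hsY
  have hsY2 : (2 : ℤ) ≤ sY := by
    have h1 : ({φ, φ₂} : Finset (L → ℂ)) ⊆ Y := by
      intro x hx
      rcases Finset.mem_insert.mp hx with rfl | hx
      · exact hφ
      · rw [Finset.mem_singleton.mp hx]; exact hφ₂
    have h2 : ∑ η ∈ ({φ, φ₂} : Finset (L → ℂ)), (b η : ℤ) ^ 2 ≤ sY :=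
      Finset.sum_le_sum_of_subset_of_nonneg h1 (fun _ _ _ => sq_nonneg _)
    rw [Finset.sum_pair (Ne.symm hφ₂ne), hbφ, hbφ₂] at h2
    norm_num at h2
    linarith
  have harith : (a : ℤ) ^ 2 * (kk ^ 2 * (X.card : ℤ) - 2 * kk) + (u' ^ 2 * sY + 2 * u') + (k : ℤ)
      = 0 := by
    rw [hsplit, hsumX, hsumY, hv'k] at hbesZ
    linear_combination -hbesZ
  obtain ⟨hk0, hvcase, hucase⟩ := link_arith (a : ℤ) (X.card : ℤ) sY kk u' (k : ℤ)
    (by exact_mod_cast ha) hXcard hsY2 (by positivity) harith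
  -- the remainder vanishes
  have hRem0 : Rem = 0 := by
    apply eq_zero_of_classInner_self_eq_zero
    rw [hk]
    have : k = 0 := by exact_mod_cast hk0
    rw [this, Nat.cast_zero]
  have hBsum : B = ∑ η ∈ Y, c η • τ₂ η + ∑ ψ ∈ X, c ψ • σ ψ := by
    have h1 : B = ∑ j ∈ s, c j • u j := by
      have := sub_eq_zero.mp hRem0
      exact this
    rw [h1, hs, Finset.sum_union hXY, add_comm]
    congr 1
    · exact Finset.sum_congr rfl (fun η hη => by rw [huY η hη])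
    · exact Finset.sum_congr rfl (fun ψ hψ => by rw [huX ψ hψ])
  refine ⟨∑ ψ ∈ X, c ψ • σ ψ, ∑ η ∈ Y, c η • τ₂ η, hBsum, ?_, ?_⟩
  · rcases hvcase with hv0 | ⟨hv1, hX2⟩
    · left
      have hv'0 : v' = 0 := by rw [hv'k, hv0, mul_zero]
      rw [Finset.sum_eq_single χ₁]
      · have : c χ₁ = -(a : ℤ) := by rw [hv'] at hv'0; linarith
        rw [this, neg_smul]
      · intro ψ hψ hne
        rw [hRX ψ hψ hne, hv'0, zero_smul]
      · intro h; exact absurd hχ₁ h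
    · right
      have hv'a : v' = (a : ℤ) := by rw [hv'k, hv1, mul_one]
      have hXall : ∀ ψ ∈ X, ψ = χ₁ ∨ ψ = ψ₂ := by
        intro ψ hψ
        by_contra hcon
        push Not at hcon
        have h1 : ({χ₁, ψ₂, ψ} : Finset (L → ℂ)) ⊆ X := by
          intro x hx
          rcases Finset.mem_insert.mp hx with rfl | hx
          · exact hχ₁
          rcases Finset.mem_insert.mp hx with rfl | hx
          · exact hψ₂
          · rw [Finset.mem_singleton.mp hx]; exact hψ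
        have h2 := Finset.card_le_card h1
        have h3 : ({χ₁, ψ₂, ψ} : Finset (L → ℂ)).card = 3 := by
          rw [Finset.card_insert_of_notMem, Finset.card_pair (Ne.symm hcon.2)]
          intro h
          rcases Finset.mem_insert.mp h with h | h
          · exact hψ₂ne h.symm
          · exact hcon.1 (Finset.mem_singleton.mp h).symm
        have h4 : X.card = 2 := by exact_mod_cast hX2
        omega
      refine ⟨?_, hXall⟩
      rw [Finset.sum_eq_single ψ₂]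
      · rw [hRX ψ₂ hψ₂ hψ₂ne, hv'a]
      · intro ψ hψ hne
        rcases hXall ψ hψ with h | h
        · have : c χ₁ = 0 := by rw [hv'] at hv'a; linarith
          rw [h, this, zero_smul]
        · exact absurd h hne
      · intro h; exact absurd hψ₂ h
  · rcases hucase with hu0 | ⟨hu1, hY2⟩
    · left
      rw [Finset.sum_eq_single φ]
      · have : c φ = 1 := by rw [hu'] at hu0; linarith
        rw [this, one_smul]
      · intro η hη hne
        rw [hRY η hη hne, hu0, mul_zero, zero_smul]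
      · intro h; exact absurd hφ h
    · right
      have hYall : ∀ η ∈ Y, η = φ ∨ η = φ₂ := by
        intro η hη
        by_contra hcon
        push Not at hcon
        have h1 : ({φ, φ₂, η} : Finset (L → ℂ)) ⊆ Y := by
          intro x hx
          rcases Finset.mem_insert.mp hx with rfl | hx
          · exact hφ
          rcases Finset.mem_insert.mp hx with rfl | hx
          · exact hφ₂
          · rw [Finset.mem_singleton.mp hx]; exact hη
        have h2 : ∑ x ∈ ({φ, φ₂, η} : Finset (L → ℂ)), (b x : ℤ) ^ 2 ≤ sY :=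
          Finset.sum_le_sum_of_subset_of_nonneg h1 (fun _ _ _ => sq_nonneg _)
        have h3 : φ ∉ ({φ₂, η} : Finset (L → ℂ)) := by
          intro h
          rcases Finset.mem_insert.mp h with h | h
          · exact hφ₂ne h.symm
          · exact hcon.1 (Finset.mem_singleton.mp h).symm
        rw [Finset.sum_insert h3, Finset.sum_pair (Ne.symm hcon.2), hbφ, hbφ₂] at h2
        have h4 : (1 : ℤ) ≤ (b η : ℤ) := by exact_mod_cast hbpos η hη
        have h5 : (1 : ℤ) ≤ (b η : ℤ) ^ 2 := by nlinarith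
        push_cast at h2
        linarith
      refine ⟨?_, hYall⟩
      rw [Finset.sum_eq_single φ₂]
      · rw [hRY φ₂ hφ₂ hφ₂ne, hu1, hbφ₂]
        simp
      · intro η hη hne
        rcases hYall η hη with h | h
        · have : c φ = 0 := by rw [hu'] at hu1; linarith
          rw [h, this, zero_smul]
        · exact absurd h hne
      · intro h; exact absurd hφ₂ h

end link

end Cfsg.Agent.H2.PF6
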