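import Mathlib
import Cfsg.Prelude.Def_OddOrderChar
import Cfsg.Agent.H2.PF6.S2

set_option autoImplicit false
set_option linter.style.haveILetI false
set_option linter.unusedSectionVars false
set_option maxHeartbeats 1600000

/-!
# Sibley's theorem (Peterfalvi 6.8), part 3: swapping a two-element coherent set, and gluing
-/

namespace Cfsg.Agent.H2.PF6

open Cfsg Cfsg.Agent.Lib.helper3.Coh Cfsg.Agent.Lib.helper3.Irr Cfsg.Agent.Lib.helper3.CharBasic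
open Cfsg.Agent.Lib.helper3
open scoped ComplexConjugate

section swap

variable {L : Type*} [Group L] [Fintype L] {G : Type*} [Group G] [Fintype G]

/-- For a coherent two-element set `{χ₁, ψ₂}` of irreducible characters of equal degree, the
swapped isometry `χ₁ ↦ -σ ψ₂`, `ψ₂ ↦ -σ χ₁` is a coherent extension as well. -/
theorem swap_coherent (τ : (L → ℂ) → (G → ℂ)) (X : Finset (L → ℂ))
    (hXirr : ∀ ψ ∈ X, IsIrrCharacter L ψ) (χ₁ ψ₂ : L → ℂ) (hχ₁ : χ₁ ∈ X) (hψ₂ : ψ₂ ∈ X)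
    (hne : ψ₂ ≠ χ₁) (hXall : ∀ ψ ∈ X, ψ = χ₁ ∨ ψ = ψ₂) (hdeg : ψ₂ 1 = χ₁ 1)
    (hdeg0 : χ₁ 1 ≠ 0) (σ : (L → ℂ) → (G → ℂ))
    (hσ : IsLinearIsometryOn (zspan (↑X : Set (L → ℂ))) σ)
    (hσα : ∀ θ ∈ zspanOn (↑X : Set (L → ℂ)) ({1}ᶜ : Set L), σ θ = τ θ) :
    ∃ σ' : (L → ℂ) → (G → ℂ), IsLinearIsometryOn (zspan (↑X : Set (L → ℂ))) σ' ∧
      (∀ θ ∈ zspanOn (↑X : Set (L → ℂ)) ({1}ᶜ : Set L), σ' θ = τ θ) ∧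
      σ' χ₁ = -σ ψ₂ ∧ σ' ψ₂ = -σ χ₁ := by
  classical
  have hXspan : ∀ ψ ∈ X, ψ ∈ zspan (↑X : Set (L → ℂ)) :=
    fun ψ h => mem_zspan_of_mem (Finset.mem_coe.mpr h)
  have hXeq : X = {χ₁, ψ₂} := by
    ext ψ
    simp only [Finset.mem_insert, Finset.mem_singleton]
    constructor
    · exact hXall ψ
    · rintro (rfl | rfl)
      · exact hχ₁
      · exact hψ₂
  set T : (L → ℂ) → (G → ℂ) := fun ψ => if ψ = χ₁ then -σ ψ₂ else -σ χ₁ with hT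
  have hTχ₁ : T χ₁ = -σ ψ₂ := by rw [hT]; simp
  have hTψ₂ : T ψ₂ = -σ χ₁ := by rw [hT]; simp only; rw [if_neg hne]
  have hF : ∀ φ ∈ X, ∀ ψ ∈ X, classInner φ ψ = if φ = ψ then classInner φ φ else 0 := by
    intro φ hφ ψ hψ
    by_cases h : φ = ψ
    · rw [if_pos h, h]
    · rw [if_neg h]
      exact irr_classInner_eq_zero (hXirr φ hφ) (hXirr ψ hψ) h
  have hnorm : ∀ φ ∈ X, classInner φ φ ≠ 0 := by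
    intro φ hφ
    rw [irr_classInner_self (hXirr φ hφ)]
    exact one_ne_zero
  have h11 : classInner (σ χ₁) (σ χ₁) = 1 := by
    rw [hσ.2.2.1 χ₁ (hXspan χ₁ hχ₁) χ₁ (hXspan χ₁ hχ₁), irr_classInner_self (hXirr χ₁ hχ₁)]
  have h22 : classInner (σ ψ₂) (σ ψ₂) = 1 := by
    rw [hσ.2.2.1 ψ₂ (hXspan ψ₂ hψ₂) ψ₂ (hXspan ψ₂ hψ₂), irr_classInner_self (hXirr ψ₂ hψ₂)]
  have h12 : classInner (σ χ₁) (σ ψ₂) = 0 := by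
    rw [hσ.2.2.1 χ₁ (hXspan χ₁ hχ₁) ψ₂ (hXspan ψ₂ hψ₂)]
    exact irr_classInner_eq_zero (hXirr χ₁ hχ₁) (hXirr ψ₂ hψ₂) (Ne.symm hne)
  have h21 : classInner (σ ψ₂) (σ χ₁) = 0 := by
    rw [hσ.2.2.1 ψ₂ (hXspan ψ₂ hψ₂) χ₁ (hXspan χ₁ hχ₁)]
    exact irr_classInner_eq_zero (hXirr ψ₂ hψ₂) (hXirr χ₁ hχ₁) hne
  have hTT : ∀ φ ∈ X, ∀ ψ ∈ X,
      classInner (T φ) (T ψ) = if φ = ψ then classInner φ φ else 0 := by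
    intro φ hφ ψ hψ
    rcases hXall φ hφ with rfl | rfl <;> rcases hXall ψ hψ with rfl | rfl
    · rw [if_pos rfl, hTχ₁, classInner_neg_left, classInner_neg_right, neg_neg, h22,
        irr_classInner_self (hXirr _ hφ)]
    · rw [if_neg (Ne.symm hne), hTχ₁, hTψ₂, classInner_neg_left, classInner_neg_right, neg_neg,
        h21]
    · rw [if_neg hne, hTχ₁, hTψ₂, classInner_neg_left, classInner_neg_right, neg_neg, h12]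
    · rw [if_pos rfl, hTψ₂, classInner_neg_left, classInner_neg_right, neg_neg, h11,
        irr_classInner_self (hXirr _ hφ)]
  have hTg : ∀ φ ∈ X, IsGeneralizedCharacter G (T φ) := by
    intro φ hφ
    rcases hXall φ hφ with rfl | rfl
    · rw [hTχ₁]; exact GenChar.neg (hσ.2.2.2 _ (hXspan _ hψ₂))
    · rw [hTψ₂]; exact GenChar.neg (hσ.2.2.2 _ (hXspan _ hχ₁))
  obtain ⟨σ', hσ'iso, hσ'comb⟩ := exists_isometry_of_gram X T hF hnorm hTT hTg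
  have hpair : ∀ z : (L → ℂ) → ℤ, ∑ φ ∈ X, z φ • φ = z χ₁ • χ₁ + z ψ₂ • ψ₂ := by
    intro z
    rw [hXeq, Finset.sum_pair (Ne.symm hne)]
  have hpairT : ∀ z : (L → ℂ) → ℤ, ∑ φ ∈ X, z φ • T φ = z χ₁ • T χ₁ + z ψ₂ • T ψ₂ := by
    intro z
    rw [hXeq, Finset.sum_pair (Ne.symm hne)]
  have hσ'χ₁ : σ' χ₁ = -σ ψ₂ := by
    have h1 := hσ'comb (fun φ => if φ = χ₁ then 1 else 0)
    rw [hpair, hpairT] at h1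
    simp only [if_true, if_neg hne, one_smul, zero_smul, add_zero] at h1
    rw [h1, hTχ₁]
  have hσ'ψ₂ : σ' ψ₂ = -σ χ₁ := by
    have h1 := hσ'comb (fun φ => if φ = ψ₂ then 1 else 0)
    rw [hpair, hpairT] at h1
    simp only [if_true, if_neg (Ne.symm hne), one_smul, zero_smul, zero_add] at h1
    rw [h1, hTψ₂]
  refine ⟨σ', hσ'iso, ?_, hσ'χ₁, hσ'ψ₂⟩
  intro θ hθ
  rw [← hσα θ hθ]
  rw [mem_zspanOn_one_iff] at hθ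
  obtain ⟨z, hz⟩ := exists_coeff_finset X (fun φ => Finset.mem_coe.symm) hθ.1
  rw [hpair] at hz
  have hz1 : z ψ₂ = -z χ₁ := by
    have h1 := hθ.2
    rw [hz, Pi.add_apply, Pi.smul_apply, Pi.smul_apply, zsmul_eq_mul, zsmul_eq_mul, hdeg] at h1
    have h2 : ((z χ₁ : ℂ) + (z ψ₂ : ℂ)) * χ₁ 1 = 0 := by linear_combination h1
    rcases mul_eq_zero.mp h2 with h | h
    · have : ((z χ₁ + z ψ₂ : ℤ) : ℂ) = 0 := by push_cast; exact h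
      have : z χ₁ + z ψ₂ = 0 := by exact_mod_cast this
      linarith
    · exact absurd h hdeg0
  have h3 : σ' θ = z χ₁ • T χ₁ + z ψ₂ • T ψ₂ := by
    rw [hz, ← hpair, hσ'comb, hpairT]
  have h4 : σ θ = z χ₁ • σ χ₁ + z ψ₂ • σ ψ₂ := by
    rw [hz, hσ.1 _ (zspan_zsmul _ (hXspan χ₁ hχ₁)) _ (zspan_zsmul _ (hXspan ψ₂ hψ₂)),
      hσ.2.1 _ (hXspan χ₁ hχ₁), hσ.2.1 _ (hXspan ψ₂ hψ₂)]
  rw [h3, h4, hTχ₁, hTψ₂, hz1]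
  simp only [smul_neg, neg_smul, neg_neg]
  abel


/-- Gluing two coherent sets along Sibley's congruence. -/
theorem coherent_glue (τ : (L → ℂ) → (G → ℂ)) (S : Set (L → ℂ))
    (hirr : ∀ ξ ∈ S, IsIrrCharacter L ξ)
    (hτ : IsLinearIsometryOn (zspanOn S ({1}ᶜ : Set L)) τ)
    (hτ1 : ∀ θ ∈ zspanOn S ({1}ᶜ : Set L), τ θ 1 = 0)
    (X Y : Finset (L → ℂ)) (hXS : (↑X : Set (L → ℂ)) ⊆ S) (hYS : (↑Y : Set (L → ℂ)) ⊆ S)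
    (hXY : Disjoint X Y)
    (hX : IsCoherent (↑X : Set (L → ℂ)) ({1}ᶜ : Set L) τ)
    (hY : IsCoherent (↑Y : Set (L → ℂ)) ({1}ᶜ : Set L) τ)
    (χ₁ : L → ℂ) (hχ₁ : χ₁ ∈ X) (e : ℕ) (he : 0 < e) (hXdeg : ∀ ψ ∈ X, ψ 1 = (e : ℂ))
    (φ : L → ℂ) (hφ : φ ∈ Y) (a : ℕ) (ha : 0 < a) (b : (L → ℂ) → ℕ)
    (hb : ∀ η ∈ Y, η 1 = ((b η * (a * e) : ℕ) : ℂ)) (hbφ : b φ = 1)
    (ψ₂ : L → ℂ) (hψ₂ : ψ₂ ∈ X) (hψ₂ne : ψ₂ ≠ χ₁)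
    (φ₂ : L → ℂ) (hφ₂ : φ₂ ∈ Y) (hφ₂ne : φ₂ ≠ φ) (hbφ₂ : b φ₂ = 1)
    (hbpos : ∀ η ∈ Y, 0 < b η)
    (hcong : ∀ σ τ₂ : (L → ℂ) → (G → ℂ), IsLinearIsometryOn (zspan (↑X : Set (L → ℂ))) σ →
      (∀ θ ∈ zspanOn (↑X : Set (L → ℂ)) ({1}ᶜ : Set L), σ θ = τ θ) →
      IsLinearIsometryOn (zspan (↑Y : Set (L → ℂ))) τ₂ →
      (∀ θ ∈ zspanOn (↑Y : Set (L → ℂ)) ({1}ᶜ : Set L), τ₂ θ = τ θ) →
      (∀ ψ ∈ X, ∀ η ∈ Y, classInner (σ ψ) (τ₂ η) = 0) →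
      ∃ k : ℤ, classInner (τ (φ - (a : ℤ) • χ₁)) (σ ψ₂) = (((a : ℤ) * k : ℤ) : ℂ)) :
    IsCoherent (↑X ∪ ↑Y : Set (L → ℂ)) ({1}ᶜ : Set L) τ := by
  classical
  obtain ⟨-, σ, hσ, hσα⟩ := hX
  obtain ⟨-, τ₂, hτ₂, hτ₂α⟩ := hY
  have hXYset : Disjoint (↑X : Set (L → ℂ)) (↑Y : Set (L → ℂ)) := Finset.disjoint_coe.mpr hXY
  have hX2 : ∃ a ∈ (↑X : Set (L → ℂ)), ∃ b ∈ (↑X : Set (L → ℂ)), a ≠ b :=
    ⟨χ₁, Finset.mem_coe.mpr hχ₁, ψ₂, Finset.mem_coe.mpr hψ₂, Ne.symm hψ₂ne⟩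
  have hY2 : ∃ a ∈ (↑Y : Set (L → ℂ)), ∃ b ∈ (↑Y : Set (L → ℂ)), a ≠ b :=
    ⟨φ, Finset.mem_coe.mpr hφ, φ₂, Finset.mem_coe.mpr hφ₂, Ne.symm hφ₂ne⟩
  have hcross : ∀ ψ ∈ X, ∀ η ∈ Y, classInner (σ ψ) (τ₂ η) = 0 := by
    intro ψ hψ η hη
    exact cross_orthogonal S ↑X ↑Y hirr hXS hYS hXYset hX2 hY2 τ hτ hτ1 σ τ₂ hσ hσα hτ₂ hτ₂α
      ψ (Finset.mem_coe.mpr hψ) η (Finset.mem_coe.mpr hη)
  obtain ⟨PX, PY, hsum, hPX, hPY⟩ := link_analysis τ S hirr hτ X Y hXS hYS hXY σ τ₂ hσ hσα hτ₂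
    hτ₂α hcross χ₁ hχ₁ e hXdeg φ hφ a ha b hb hbφ ψ₂ hψ₂ hψ₂ne φ₂ hφ₂ hφ₂ne hbφ₂ hbpos
    (hcong σ τ₂ hσ hσα hτ₂ hτ₂α hcross)
  have hXirr : ∀ ψ ∈ X, IsIrrCharacter L ψ := fun ψ h => hirr ψ (hXS (Finset.mem_coe.mpr h))
  have hYirr : ∀ η ∈ Y, IsIrrCharacter L η := fun η h => hirr η (hYS (Finset.mem_coe.mpr h))
  have he0 : (e : ℂ) ≠ 0 := by exact_mod_cast he.ne'
  -- the isometry on `X`
  obtain ⟨σ', hσ', hσ'α, hPX'⟩ : ∃ σ' : (L → ℂ) → (G → ℂ),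
      IsLinearIsometryOn (zspan (↑X : Set (L → ℂ))) σ' ∧
      (∀ θ ∈ zspanOn (↑X : Set (L → ℂ)) ({1}ᶜ : Set L), σ' θ = τ θ) ∧
      PX = -((a : ℤ) • σ' χ₁) := by
    rcases hPX with h | ⟨h, hall⟩
    · exact ⟨σ, hσ, hσα, h⟩
    · obtain ⟨σ', h1, h2, h3, -⟩ := swap_coherent τ X hXirr χ₁ ψ₂ hχ₁ hψ₂ hψ₂ne hall
        (by rw [hXdeg ψ₂ hψ₂, hXdeg χ₁ hχ₁]) (by rw [hXdeg χ₁ hχ₁]; exact he0) σ hσ hσα
      refine ⟨σ', h1, h2, ?_⟩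
      rw [h, h3, smul_neg, neg_neg]
  -- the isometry on `Y`
  have hφ1 : φ 1 = ((a * e : ℕ) : ℂ) := by rw [hb φ hφ, hbφ, one_mul]
  obtain ⟨τ₂', hτ₂', hτ₂'α, hPY'⟩ : ∃ τ₂' : (L → ℂ) → (G → ℂ),
      IsLinearIsometryOn (zspan (↑Y : Set (L → ℂ))) τ₂' ∧
      (∀ θ ∈ zspanOn (↑Y : Set (L → ℂ)) ({1}ᶜ : Set L), τ₂' θ = τ θ) ∧
      PY = τ₂' φ := by
    rcases hPY with h | ⟨h, hall⟩
    · exact ⟨τ₂, hτ₂, hτ₂α, h⟩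
    · obtain ⟨τ₂', h1, h2, h3, -⟩ := swap_coherent τ Y hYirr φ φ₂ hφ hφ₂ hφ₂ne hall
        (by rw [hb φ₂ hφ₂, hb φ hφ, hbφ, hbφ₂])
        (by
          rw [hφ1]
          have : 0 < a * e := Nat.mul_pos ha he
          exact_mod_cast this.ne') τ₂ hτ₂ hτ₂α
      exact ⟨τ₂', h1, h2, by rw [h, h3]⟩
  -- the link
  apply coherent_union S ↑X ↑Y hirr hXS hYS hXYset hX2 hY2 τ hτ hτ1 σ' τ₂' hσ' hσ'α hτ₂' hτ₂'α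
  refine ⟨χ₁, Finset.mem_coe.mpr hχ₁, φ, Finset.mem_coe.mpr hφ, ?_⟩
  have hβ : φ - (a : ℤ) • χ₁ ∈ zspanOn S ({1}ᶜ : Set L) := by
    rw [mem_zspanOn_one_iff]
    refine ⟨zspan_sub (mem_zspan_of_mem (hYS (Finset.mem_coe.mpr hφ)))
      (zspan_zsmul _ (mem_zspan_of_mem (hXS (Finset.mem_coe.mpr hχ₁)))), ?_⟩
    rw [Pi.sub_apply, Pi.smul_apply, zsmul_eq_mul, hφ1, hXdeg χ₁ hχ₁]
    push_cast
    ring
  have hfun : χ₁ 1 • φ - φ 1 • χ₁ = (e : ℤ) • (φ - (a : ℤ) • χ₁) := by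
    funext x
    simp only [Pi.sub_apply, Pi.smul_apply]
    simp only [zsmul_eq_mul, smul_eq_mul, hXdeg χ₁ hχ₁, hφ1]
    push_cast
    ring
  rw [hfun, hτ.2.1 _ hβ, hsum, hPX', hPY']
  funext x
  simp only [Pi.sub_apply, Pi.add_apply, Pi.neg_apply, Pi.smul_apply]
  simp only [zsmul_eq_mul, smul_eq_mul, hXdeg χ₁ hχ₁, hφ1]
  push_cast
  ring

end swap

end Cfsg.Agent.H2.PF6
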