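import Mathlib
import Cfsg.Prelude.Def_OddOrderChar
import Cfsg.Agent.Lib.helper3.Tifn1
import Cfsg.Agent.Lib.helper3.NormOne
import Cfsg.Agent.Lib.helper3.NormTwo
import Cfsg.Agent.Lib.helper3.SylowNorm
import Cfsg.Agent.S1523

set_option autoImplicit false
set_option linter.style.haveILetI false
set_option linter.unusedSectionVars false

/-!
# Sibley's theorem (Peterfalvi 6.8), part 4: the congruence
-/

namespace Cfsg.Agent.H2.PF6

open Cfsg Cfsg.Agent.Lib.helper3.Irr Cfsg.Agent.Lib.helper3.CharBasic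
open Cfsg.Agent.Lib.helper3
open scoped ComplexConjugate

section restrict

variable {L : Type*} [Group L] [Fintype L]

/-- A generalized character whose coefficients on the irreducible characters non-trivial on `Z`
are proportional to the degrees: the difference of its values at `1` and at `z ∈ Z`, `z ≠ 1`. -/
theorem restrict_diff (Z : Subgroup L) (Ψ : L → ℂ) (hΨ : IsGeneralizedCharacter L Ψ)
    (hprop : ∀ χ χ' : L → ℂ, IsIrrCharacter L χ → IsIrrCharacter L χ' →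
      (∃ z ∈ Z, χ z ≠ χ 1) → (∃ z ∈ Z, χ' z ≠ χ' 1) →
      classInner Ψ χ * χ' 1 = classInner Ψ χ' * χ 1)
    (φ : L → ℂ) (hφ : IsIrrCharacter L φ) (hφZ : ∃ z ∈ Z, φ z ≠ φ 1) (z : L) (hz : z ∈ Z)
    (hz1 : z ≠ 1) :
    (Ψ 1 - Ψ z) * φ 1 = classInner Ψ φ * (Nat.card L : ℂ) := by
  classical
  obtain ⟨c, hc⟩ := exists_int_decomposition hΨ
  have hcoef : ∀ χ : IrrCharacter L, classInner Ψ (χ : L → ℂ) = (c χ : ℂ) := by
    intro χ
    rw [hc, classInner_sum_left, Finset.sum_eq_single χ]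
    · rw [classInner_smul_left, irr_classInner_self χ.2, mul_one]
    · intro ψ _ hne
      rw [classInner_smul_left, irr_classInner_eq_zero ψ.2 χ.2
        (fun h => hne (Subtype.ext h)), mul_zero]
    · intro h; exact absurd (Finset.mem_univ _) h
  have hval : ∀ x : L, Ψ x = ∑ χ : IrrCharacter L, (c χ : ℂ) * (χ : L → ℂ) x := by
    intro x
    have := congrFun hc x
    simp only [Finset.sum_apply, Pi.smul_apply, smul_eq_mul] at this
    exact this
  have h1 : (Ψ 1 - Ψ z) * φ 1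
      = ∑ χ : IrrCharacter L, classInner Ψ φ * ((χ : L → ℂ) 1 * ((χ : L → ℂ) 1 - (χ : L → ℂ) z)) := by
    rw [hval 1, hval z, ← Finset.sum_sub_distrib, Finset.sum_mul]
    apply Finset.sum_congr rfl
    intro χ _
    by_cases hχZ : ∃ z' ∈ Z, (χ : L → ℂ) z' ≠ (χ : L → ℂ) 1
    · have h2 := hprop χ φ χ.2 hφ hχZ hφZ
      rw [hcoef χ] at h2
      calc ((c χ : ℂ) * (χ : L → ℂ) 1 - (c χ : ℂ) * (χ : L → ℂ) z) * φ 1
          = ((c χ : ℂ) * φ 1) * ((χ : L → ℂ) 1 - (χ : L → ℂ) z) := by ring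
        _ = (classInner Ψ φ * (χ : L → ℂ) 1) * ((χ : L → ℂ) 1 - (χ : L → ℂ) z) := by rw [h2]
        _ = classInner Ψ φ * ((χ : L → ℂ) 1 * ((χ : L → ℂ) 1 - (χ : L → ℂ) z)) := by ring
    · push Not at hχZ
      rw [hχZ z hz]
      ring
  rw [h1, ← Finset.mul_sum]
  congr 1
  have h3 : ∑ χ : IrrCharacter L, (χ : L → ℂ) 1 * ((χ : L → ℂ) 1 - (χ : L → ℂ) z)
      = ∑ χ : IrrCharacter L, (χ : L → ℂ) 1 ^ 2
        - ∑ χ : IrrCharacter L, (χ : L → ℂ) 1 * (χ : L → ℂ) z := by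
    rw [← Finset.sum_sub_distrib]
    apply Finset.sum_congr rfl
    intro χ _
    ring
  rw [h3, sum_sq_degree, Tifn.sum_degree_mul_apply hz1, sub_zero]

end restrict

section sylow

variable {G : Type*} [Group G] [Finite G]

/-- A `p`-subgroup whose index in its normalizer is prime to `p` is a Sylow `p`-subgroup. -/
theorem exists_sylow_eq (p : ℕ) [hp : Fact p.Prime] (H L : Subgroup G) (hHp : IsPGroup p H)
    (hN : Subgroup.normalizer (H : Set G) = L) (hHL : H ≤ L)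
    (hcop : Nat.Coprime (H.relIndex L) p) : ∃ P : Sylow p G, (P : Subgroup G) = H := by
  have hmax : ∀ Q : Subgroup G, IsPGroup p Q → H ≤ Q →
      Q ≤ ⊤ ⊓ Subgroup.normalizer (H : Set G) → Q = H := by
    intro Q hQ hHQ hQN
    rw [hN, top_inf_eq] at hQN
    have h1 : H.relIndex Q * Q.relIndex L = H.relIndex L :=
      Subgroup.relIndex_mul_relIndex H Q L hHQ hQN
    have h2 : H.relIndex Q ∣ Nat.card Q := Subgroup.relIndex_dvd_card H Q
    obtain ⟨n, hn⟩ := IsPGroup.iff_card.mp hQ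
    rw [hn] at h2
    obtain ⟨i, -, hi⟩ := (Nat.dvd_prime_pow hp.out).mp h2
    have h3 : H.relIndex Q ∣ H.relIndex L := Dvd.intro _ h1
    have h4 : Nat.Coprime (H.relIndex Q) p := Nat.Coprime.coprime_dvd_left h3 hcop
    have h5 : H.relIndex Q = 1 := by
      rw [hi] at h4 ⊢
      rcases Nat.eq_zero_or_pos i with h0 | h0
      · rw [h0, pow_zero]
      · exfalso
        have : p ∣ p ^ i := dvd_pow_self p h0.ne'
        have h6 : p ∣ Nat.gcd (p ^ i) p := Nat.dvd_gcd this dvd_rfl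
        rw [h4] at h6
        exact hp.out.one_lt.ne' (Nat.dvd_one.mp h6)
    exact le_antisymm (Subgroup.relIndex_eq_one.mp h5) hHQ
  refine ⟨⟨H, hHp, ?_⟩, rfl⟩
  intro Q hQ hHQ
  exact Cfsg.Agent.Lib.helper3.Block.eq_of_maximal_in_normalizer H ⊤ hmax Q hQ hHQ le_top

end sylow

section cong

variable {G : Type*} [Group G] [Fintype G]

/-- Peterfalvi (6.7) in the form needed: a generalized character of norm one, constant on
`Z ∖ {1}`, has `Θ 1 - Θ z` divisible by `|H|`. -/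
theorem sibley_dvd (p : ℕ) (hp : p.Prime) (H L : Subgroup G) (hHp : IsPGroup p H)
    (hTI : IsTISubset (H : Set G)) (hN : Subgroup.normalizer (H : Set G) = L) (hHL : H ≤ L)
    (hodd : Odd (Nat.card L)) (hcop : Nat.Coprime (H.relIndex L) p)
    (Z : Subgroup G) (hZ1 : Z ≠ ⊥) (hZH : Z ≤ H) (hZn : ∀ x ∈ L, ∀ z ∈ Z, x * z * x⁻¹ ∈ Z)
    (hZc : ∀ z ∈ Z, ∀ y ∈ H, z * y = y * z)
    (hC : ∀ z ∈ Z, z ≠ 1 → ∀ x ∈ L, x * z = z * x → x ∈ H)
    (Θ : G → ℂ) (hΘ : IsGeneralizedCharacter G Θ) (hΘ1 : classInner Θ Θ = 1)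
    (hconst : ∀ z ∈ Z, ∀ z' ∈ Z, z ≠ 1 → z' ≠ 1 → Θ z = Θ z') (z : G) (hz : z ∈ Z)
    (hz1 : z ≠ 1) :
    ∃ k : ℤ, Θ 1 - Θ z = (((Nat.card H : ℤ) * k : ℤ) : ℂ) := by
  haveI : Fact p.Prime := ⟨hp⟩
  obtain ⟨P, hP⟩ := exists_sylow_eq p H L hHp hN hHL hcop
  have hNP : Subgroup.normalizer ((P : Subgroup G) : Set G) = L := by rw [hP, hN]
  have hcent : ∀ w ∈ Z, w ≠ 1 →
      Subgroup.normalizer ((P : Subgroup G) : Set G) ⊓ Subgroup.centralizer ({w} : Set G) = H := by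
    intro w hw hw1
    rw [hNP]
    apply le_antisymm
    · rintro x ⟨hxL, hxC⟩
      have := Subgroup.mem_centralizer_iff.mp hxC w (Set.mem_singleton w)
      exact hC w hw hw1 x hxL this.symm
    · intro x hx
      refine ⟨hHL hx, ?_⟩
      show x ∈ Subgroup.centralizer ({w} : Set G)
      rw [Subgroup.mem_centralizer_iff]
      intro y hy
      rw [Set.mem_singleton_iff] at hy
      subst hy
      exact hZc y hw x hx
  obtain ⟨a, ha⟩ := exists_irr_of_norm_one hΘ hΘ1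
  have hconst' : ∀ w ∈ Z, ∀ w' ∈ Z, w ≠ 1 → w' ≠ 1 → (a : G → ℂ) w = (a : G → ℂ) w' := by
    intro w hw w' hw' h1 h1'
    have := hconst w hw w' hw' h1 h1'
    rcases ha with h | h
    · rw [h] at this; exact this
    · rw [h] at this
      simp only [Pi.neg_apply] at this
      exact neg_injective this
  obtain ⟨n, d, hn, hd, hdvd⟩ := Cfsg.Agent.S1523.result p P (by rw [hP]; exact hTI)
    (by rw [hNP]; exact hodd) Z hZ1 (by rw [hP]; exact hZH) (by rw [hNP]; exact hZn)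
    (by rw [hP]; exact hZc)
    (by
      intro w hw w' hw' h1 h1'
      rw [hcent w hw h1, hcent w' hw' h1'])
    (a : G → ℂ) a.2 hconst' z hz hz1
  rw [hP] at hdvd
  obtain ⟨k, hk⟩ := hdvd
  rcases ha with h | h
  · refine ⟨k, ?_⟩
    rw [h, hd, hn]
    have : ((d - n : ℤ) : ℂ) = (((Nat.card H : ℤ) * k : ℤ) : ℂ) := by rw [hk]
    push_cast at this ⊢
    exact this
  · refine ⟨-k, ?_⟩
    rw [h]
    simp only [Pi.neg_apply]
    rw [hd, hn]
    have : ((d - n : ℤ) : ℂ) = (((Nat.card H : ℤ) * k : ℤ) : ℂ) := by rw [hk]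
    push_cast at this ⊢
    linear_combination -this

end cong

end Cfsg.Agent.H2.PF6
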