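import Mathlib
import Cfsg.Agent.H2.PF6.G

set_option autoImplicit false
set_option linter.style.haveILetI false
set_option linter.unusedSectionVars false

/-!
# Sibley's theorem (Peterfalvi 6.8), part 5: group theory of a Frobenius-like normal subgroup
-/

namespace Cfsg.Agent.H2.PF6

open scoped commutatorElement

section grp

variable {L : Type*} [Group L]

/-- If the centralizers of the non-identity elements of the normal subgroup `K` lie in `K`, then
`L/D` has the same property modulo every normal subgroup `D ≤ K` of `L`. -/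
theorem frob_quot [Finite L] (K D : Subgroup L) [hK : K.Normal] [hD : D.Normal] (hDK : D ≤ K)
    (hC : ∀ n ∈ K, n ≠ 1 → Subgroup.centralizer ({n} : Set L) ≤ K) :
    ∀ k ∈ K, k ∉ D → ∀ x : L, x * k * x⁻¹ * k⁻¹ ∈ D → x ∈ K := by
  intro k hk hkD x hx
  by_contra hxK
  -- `x k x⁻¹ = k c'` with `c' ∈ D`
  set c' : L := k⁻¹ * (x * k * x⁻¹) with hc'
  have hc'D : c' ∈ D := by
    have h1 := hD.conj_mem _ hx k⁻¹
    have h2 : k⁻¹ * (x * k * x⁻¹ * k⁻¹) * k⁻¹⁻¹ = c' := by rw [hc']; group
    rwa [h2] at h1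
  -- the map `d ↦ d x d⁻¹ x⁻¹` on `D`
  set g : D → D := fun d => ⟨(d : L) * x * (d : L)⁻¹ * x⁻¹, by
    have h1 : x * (d : L)⁻¹ * x⁻¹ ∈ D := hD.conj_mem _ (D.inv_mem d.2) x
    have h2 := D.mul_mem d.2 h1
    have h3 : (d : L) * (x * (d : L)⁻¹ * x⁻¹) = (d : L) * x * (d : L)⁻¹ * x⁻¹ := by group
    rwa [h3] at h2⟩ with hg
  have hginj : Function.Injective g := by
    intro d d' hdd
    have h1 : (d : L) * x * (d : L)⁻¹ * x⁻¹ = (d' : L) * x * (d' : L)⁻¹ * x⁻¹ :=
      congrArg Subtype.val hdd
    have h2 : (d : L) * x * (d : L)⁻¹ = (d' : L) * x * (d' : L)⁻¹ := mul_right_cancel h1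
    set w : L := (d' : L)⁻¹ * (d : L) with hw
    have hwD : w ∈ D := D.mul_mem (D.inv_mem d'.2) d.2
    have hcomm : w * x = x * w := by
      have h3 : (d' : L)⁻¹ * ((d : L) * x * (d : L)⁻¹) * (d : L)
          = (d' : L)⁻¹ * ((d' : L) * x * (d' : L)⁻¹) * (d : L) := by rw [h2]
      have h4 : (d' : L)⁻¹ * ((d : L) * x * (d : L)⁻¹) * (d : L) = w * x := by rw [hw]; group
      have h5 : (d' : L)⁻¹ * ((d' : L) * x * (d' : L)⁻¹) * (d : L) = x * w := by rw [hw]; group
      rw [h4, h5] at h3
      exact h3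
    by_cases hw1 : w = 1
    · apply Subtype.ext
      have : (d : L) = (d' : L) * w := by rw [hw]; group
      rw [this, hw1, mul_one]
    · exfalso
      apply hxK
      apply hC w (hDK hwD) hw1
      rw [Subgroup.mem_centralizer_iff]
      intro y hy
      rw [Set.mem_singleton_iff] at hy
      subst hy
      exact hcomm
  have hgsurj : Function.Surjective g := Finite.injective_iff_surjective.mp hginj
  obtain ⟨d, hd⟩ := hgsurj ⟨c', hc'D⟩
  have hd' : (d : L) * x * (d : L)⁻¹ * x⁻¹ = c' := congrArg Subtype.val hd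
  -- `x` centralizes `k d`
  have hfix : x * (k * (d : L)) = (k * (d : L)) * x := by
    have h1 : x * k * x⁻¹ = k * c' := by rw [hc']; group
    have h2 : x * (k * (d : L)) * x⁻¹ = k * (d : L) := by
      calc x * (k * (d : L)) * x⁻¹ = (x * k * x⁻¹) * (x * (d : L) * x⁻¹) := by group
        _ = k * c' * (x * (d : L) * x⁻¹) := by rw [h1]
        _ = k * ((d : L) * x * (d : L)⁻¹ * x⁻¹) * (x * (d : L) * x⁻¹) := by rw [hd']
        _ = k * (d : L) := by group
    calc x * (k * (d : L)) = (x * (k * (d : L)) * x⁻¹) * x := by group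
      _ = (k * (d : L)) * x := by rw [h2]
  have hkd1 : k * (d : L) ≠ 1 := by
    intro h
    apply hkD
    have : k = (d : L)⁻¹ := eq_inv_of_mul_eq_one_left h
    rw [this]
    exact D.inv_mem d.2
  apply hxK
  apply hC (k * (d : L)) (K.mul_mem hk (hDK d.2)) hkd1
  rw [Subgroup.mem_centralizer_iff]
  intro y hy
  rw [Set.mem_singleton_iff] at hy
  subst hy
  exact hfix.symm

/-- The commutator subgroup of a nontrivial nilpotent subgroup is proper. -/
theorem commutator_lt_of_nilpotent (K : Subgroup L) (hnil : Group.IsNilpotent K) (hK1 : K ≠ ⊥) :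
    ⁅K, K⁆ < K := by
  haveI := hnil
  haveI : Nontrivial K := (Subgroup.nontrivial_iff_ne_bot K).mpr hK1
  have h := Group.IsSolvable.commutator_lt_top_of_nontrivial K
  have h1 : (commutator K).map K.subtype < (⊤ : Subgroup K).map K.subtype :=
    Subgroup.map_subtype_lt_map_subtype.mpr h
  rw [Subgroup.map_subtype_commutator, ← MonoidHom.range_eq_map, K.range_subtype] at h1
  exact h1

/-- The descending series `N, [N,K], [[N,K],K], …`. -/
def commSeries (N K : Subgroup L) : ℕ → Subgroup L
  | 0 => N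
  | n + 1 => ⁅commSeries N K n, K⁆

theorem commSeries_le (N K : Subgroup L) [hN : N.Normal] (hNK : N ≤ K) (n : ℕ) :
    commSeries N K n ≤ K.lowerCentralSeries n ⊓ N := by
  induction n with
  | zero => exact le_inf hNK le_rfl
  | succ n ih =>
    show ⁅commSeries N K n, K⁆ ≤ _
    apply le_inf
    · rw [Subgroup.lowerCentralSeries_succ]
      exact Subgroup.commutator_mono (ih.trans inf_le_left) le_rfl
    · exact (Subgroup.commutator_mono (ih.trans inf_le_right) le_rfl).trans
        (Subgroup.commutator_le_left N K)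

/-- A nontrivial normal subgroup inside a nilpotent subgroup `K` contains a non-identity element
centralizing `K`. -/
theorem exists_central_mem (K N : Subgroup L) [hN : N.Normal] (hnil : Group.IsNilpotent K)
    (hNK : N ≤ K) (hN1 : N ≠ ⊥) : ∃ x ∈ N, x ≠ 1 ∧ ∀ k ∈ K, x * k = k * x := by
  classical
  obtain ⟨n, hn⟩ := (Subgroup.isNilpotent_iff_lowerCentralSeries K).mp hnil
  have hex : ∃ m, commSeries N K m = ⊥ := by
    refine ⟨n, ?_⟩
    rw [eq_bot_iff, ← hn]
    exact (commSeries_le N K hNK n).trans inf_le_left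
  set m := Nat.find hex with hm
  have hm0 : m ≠ 0 := by
    intro h0
    have := Nat.find_spec hex
    rw [← hm, h0] at this
    exact hN1 this
  obtain ⟨j, hj⟩ := Nat.exists_eq_succ_of_ne_zero hm0
  have hjne : commSeries N K j ≠ ⊥ := by
    have := Nat.find_min hex (m := j) (by rw [← hm, hj]; exact Nat.lt_succ_self j)
    exact this
  have hjs : ⁅commSeries N K j, K⁆ = ⊥ := by
    have := Nat.find_spec hex
    rw [← hm, hj] at this
    exact this
  obtain ⟨⟨x, hx⟩, hx1⟩ := (Subgroup.ne_bot_iff_exists_ne_one).mp hjne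
  refine ⟨x, ((commSeries_le N K hNK j).trans inf_le_right) hx, ?_, ?_⟩
  · intro h
    apply hx1
    exact Subtype.ext h
  · intro k hk
    have h1 : ⁅x, k⁆ ∈ ⁅commSeries N K j, K⁆ := Subgroup.commutator_mem_commutator hx hk
    rw [hjs, Subgroup.mem_bot, commutatorElement_def] at h1
    calc x * k = (x * k * x⁻¹ * k⁻¹) * (k * x) := by group
      _ = k * x := by rw [h1, one_mul]

end grp

section count

variable {L : Type*} [Group L] [Fintype L]

/-- In a Frobenius-like situation, `[L:K]` divides `|Z| - 1` for a normal subgroup `Z` of `L`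
central in `K`. -/
theorem frob_index_dvd (K Z : Subgroup L) [hK : K.Normal] [hZ : Z.Normal] (hZK : Z ≤ K)
    (hZc : ∀ z ∈ Z, ∀ k ∈ K, z * k = k * z)
    (hC : ∀ n ∈ K, n ≠ 1 → Subgroup.centralizer ({n} : Set L) ≤ K) :
    K.index ∣ Nat.card Z - 1 := by
  classical
  set s : Finset L := (Finset.univ.filter (fun x : L => x ∈ Z)).erase 1 with hs
  have hscard : s.card = Nat.card Z - 1 := by
    rw [hs, Finset.card_erase_of_mem (by simp [Z.one_mem])]
    congr 1
    rw [Nat.card_eq_fintype_card, Fintype.card_subtype]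
  have hinv : ∀ γ : L, ∀ x ∈ s, γ * x * γ⁻¹ ∈ s := by
    intro γ x hx
    rw [hs, Finset.mem_erase, Finset.mem_filter] at hx ⊢
    refine ⟨?_, Finset.mem_univ _, hZ.conj_mem x hx.2.2 γ⟩
    intro h
    apply hx.1
    have : x = γ⁻¹ * (γ * x * γ⁻¹) * γ := by group
    rw [this, h]
    group
  have horb : ∀ x ∈ s, (Finset.univ.image (fun γ : L => γ * x * γ⁻¹)).card = K.index := by
    intro x hx
    rw [hs, Finset.mem_erase, Finset.mem_filter] at hx
    have h1 := card_conj_mul_card_centralizer x
    have hcent : Subgroup.centralizer ({x} : Set L) = K := by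
      apply le_antisymm (hC x (hZK hx.2.2) hx.1)
      intro k hk
      rw [Subgroup.mem_centralizer_iff]
      intro y hy
      rw [Set.mem_singleton_iff] at hy
      subst hy
      exact hZc y hx.2.2 k hk
    rw [hcent] at h1
    have h2 : K.index * Nat.card K = Nat.card L := Subgroup.index_mul_card K
    have h3 : 0 < Nat.card K := Nat.card_pos
    exact Nat.eq_of_mul_eq_mul_right h3 (h1.trans h2.symm)
  have := card_dvd_of_uniform_orbits (Γ := L) (X := L) (fun γ x => γ * x * γ⁻¹)
    (fun x => by simp) (fun a b x => by group) K.index s hinv horb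
  rw [hscard] at this
  exact this

end count

end Cfsg.Agent.H2.PF6
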