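import Mathlib
import Cfsg.Prelude.Def_OddOrderChar
import Cfsg.Agent.H2.PF6.S3
import Cfsg.Agent.H2.PF6.S4

set_option autoImplicit false
set_option linter.style.haveILetI false
set_option linter.unusedSectionVars false
set_option maxHeartbeats 1600000

/-!
# Sibley's theorem (Peterfalvi 6.8), part 6: the congruence for the link
-/

namespace Cfsg.Agent.H2.PF6

open Cfsg Cfsg.Agent.Lib.helper3.Coh Cfsg.Agent.Lib.helper3.Irr Cfsg.Agent.Lib.helper3.CharBasic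
open Cfsg.Agent.Lib.helper3
open scoped ComplexConjugate

section cong

variable {L : Type*} [Group L] [Fintype L] {G : Type*} [Group G] [Fintype G]

/-- Sibley's congruence: the coefficient of `τ (φ - a χ₁)` on a norm-one generalized character
orthogonal to the image of `Y` is divisible by `a`. -/
theorem sibley_cong (K : Subgroup L) (S : Set (L → ℂ)) (hirrS : ∀ χ ∈ S, IsIrrCharacter L χ)
    (τ : (L → ℂ) → (G → ℂ)) (ρ : (G → ℂ) → (L → ℂ))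
    (hρ1 : ∀ α ∈ zspanOn S ({1}ᶜ : Set L), ∀ Θ : G → ℂ, IsGeneralizedCharacter G Θ →
      classInner (τ α) Θ = classInner α (ρ Θ))
    (hρ2 : ∀ Θ : G → ℂ, IsGeneralizedCharacter G Θ → IsGeneralizedCharacter L (ρ Θ))
    (Z : Subgroup L) (hZ1 : Z ≠ ⊥)
    (hsib : ∀ Θ : G → ℂ, IsGeneralizedCharacter G Θ → classInner Θ Θ = 1 →
      (∀ z ∈ Z, ∀ z' ∈ Z, z ≠ 1 → z' ≠ 1 → ρ Θ z = ρ Θ z') →
      ∀ z ∈ Z, z ≠ 1 → ∃ k : ℤ, ρ Θ 1 - ρ Θ z = (((Nat.card K : ℤ) * k : ℤ) : ℂ))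
    (Y : Finset (L → ℂ)) (hYS : (↑Y : Set (L → ℂ)) ⊆ S)
    (hYmem : ∀ χ : L → ℂ, IsIrrCharacter L χ → (∃ z ∈ Z, χ z ≠ χ 1) → χ ∈ Y)
    (hYZ : ∀ χ ∈ Y, ∃ z ∈ Z, χ z ≠ χ 1)
    (τ₂ : (L → ℂ) → (G → ℂ)) (hτ₂ : IsLinearIsometryOn (zspan (↑Y : Set (L → ℂ))) τ₂)
    (hτ₂α : ∀ θ ∈ zspanOn (↑Y : Set (L → ℂ)) ({1}ᶜ : Set L), τ₂ θ = τ θ)
    (Θ : G → ℂ) (hΘ : IsGeneralizedCharacter G Θ) (hΘ1 : classInner Θ Θ = 1)
    (hΘY : ∀ η ∈ Y, classInner Θ (τ₂ η) = 0)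
    (φ : L → ℂ) (hφ : φ ∈ Y) (a e : ℕ) (ha : 0 < a) (he : e = K.index)
    (hφ1 : φ 1 = ((a * e : ℕ) : ℂ))
    (χ₁ : L → ℂ) (hχ₁ : χ₁ ∈ S) (hχ₁1 : χ₁ 1 = (e : ℂ)) :
    ∃ k : ℤ, classInner (τ (φ - (a : ℤ) • χ₁)) Θ = (((a : ℤ) * k : ℤ) : ℂ) := by
  classical
  have hYirr : ∀ η ∈ Y, IsIrrCharacter L η := fun η h => hirrS η (hYS (Finset.mem_coe.mpr h))
  have hYspan : ∀ η ∈ Y, η ∈ zspan (↑Y : Set (L → ℂ)) :=
    fun η h => mem_zspan_of_mem (Finset.mem_coe.mpr h)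
  have hφS : φ ∈ S := hYS (Finset.mem_coe.mpr hφ)
  set Ψ := ρ Θ with hΨdef
  have hΨ : IsGeneralizedCharacter L Ψ := hρ2 Θ hΘ
  have he0 : 0 < e := by
    rw [he]
    exact Nat.pos_of_ne_zero Subgroup.index_ne_zero_of_finite
  -- proportionality
  have hprop : ∀ χ χ' : L → ℂ, IsIrrCharacter L χ → IsIrrCharacter L χ' →
      (∃ z ∈ Z, χ z ≠ χ 1) → (∃ z ∈ Z, χ' z ≠ χ' 1) →
      classInner Ψ χ * χ' 1 = classInner Ψ χ' * χ 1 := by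
    intro χ χ' hχ hχ' hχZ hχ'Z
    have hχY := hYmem χ hχ hχZ
    have hχ'Y := hYmem χ' hχ' hχ'Z
    obtain ⟨d, hd⟩ := exists_nat_apply_one (isCharacter_of_isIrrCharacter hχ)
    obtain ⟨d', hd'⟩ := exists_nat_apply_one (isCharacter_of_isIrrCharacter hχ')
    set α := (d' : ℤ) • χ - (d : ℤ) • χ' with hα
    have hα1 : α ∈ zspanOn (↑Y : Set (L → ℂ)) ({1}ᶜ : Set L) := by
      rw [mem_zspanOn_one_iff]
      refine ⟨zspan_sub (zspan_zsmul _ (hYspan χ hχY)) (zspan_zsmul _ (hYspan χ' hχ'Y)), ?_⟩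
      rw [hα, Pi.sub_apply, Pi.smul_apply, Pi.smul_apply, zsmul_eq_mul, zsmul_eq_mul, hd, hd']
      push_cast
      ring
    have hα2 : α ∈ zspanOn S ({1}ᶜ : Set L) := zspanOn_mono _ hYS hα1
    have h1 : τ₂ α = (d' : ℤ) • τ₂ χ - (d : ℤ) • τ₂ χ' := by
      rw [hα, isom_map_sub hτ₂ (fun n x hx => zspan_zsmul n hx) (zspan_zsmul _ (hYspan χ hχY))
        (zspan_zsmul _ (hYspan χ' hχ'Y)), hτ₂.2.1 χ (hYspan χ hχY), hτ₂.2.1 χ' (hYspan χ' hχ'Y)]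
    have h2 : classInner (τ α) Θ = 0 := by
      rw [← hτ₂α α hα1, h1, classInner_sub_left, classInner_zsmul_left, classInner_zsmul_left,
        ← classInner_conj_symm Θ (τ₂ χ), ← classInner_conj_symm Θ (τ₂ χ'), hΘY χ hχY,
        hΘY χ' hχ'Y]
      simp
    rw [hρ1 α hα2 Θ hΘ, hα, classInner_sub_left, classInner_zsmul_left,
      classInner_zsmul_left] at h2
    have h3 := congrArg conj h2
    rw [map_sub, map_mul, map_mul, classInner_conj_symm, classInner_conj_symm, map_zero,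
      map_intCast, map_intCast] at h3
    rw [hd, hd']
    push_cast at h3
    linear_combination h3
  have hφZ := hYZ φ hφ
  have hdiff := restrict_diff Z Ψ hΨ hprop φ (hYirr φ hφ) hφZ
  have hφ10 : φ 1 ≠ 0 := by
    rw [hφ1]
    have : 0 < a * e := Nat.mul_pos ha he0
    exact_mod_cast this.ne'
  have hconst : ∀ z ∈ Z, ∀ z' ∈ Z, z ≠ 1 → z' ≠ 1 → Ψ z = Ψ z' := by
    intro z hz z' hz' h1 h1'
    have e1 := hdiff z hz h1
    have e2 := hdiff z' hz' h1'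
    have e3 : (Ψ 1 - Ψ z) * φ 1 = (Ψ 1 - Ψ z') * φ 1 := by rw [e1, e2]
    have e4 := mul_right_cancel₀ hφ10 e3
    linear_combination -e4
  obtain ⟨⟨z, hzZ⟩, hz1⟩ := (Subgroup.ne_bot_iff_exists_ne_one).mp hZ1
  have hz1' : z ≠ 1 := fun h => hz1 (Subtype.ext h)
  obtain ⟨k, hk⟩ := hsib Θ hΘ hΘ1 hconst z hzZ hz1'
  have hd1 := hdiff z hzZ hz1'
  -- `⟨Ψ, φ⟩ = k a`
  have hcard : (Nat.card L : ℂ) = (e : ℂ) * (Nat.card K : ℂ) := by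
    have := Subgroup.index_mul_card K
    rw [← he] at this
    exact_mod_cast this.symm
  have hK0 : (Nat.card K : ℂ) ≠ 0 := by
    have : 0 < Nat.card K := Nat.card_pos
    exact_mod_cast this.ne'
  have he0' : (e : ℂ) ≠ 0 := by exact_mod_cast he0.ne'
  have hΨφ : classInner Ψ φ = ((k * (a : ℤ) : ℤ) : ℂ) := by
    rw [hk, hφ1, hcard] at hd1
    push_cast at hd1 ⊢
    have h5 : ((e : ℂ) * (Nat.card K : ℂ)) * ((k : ℂ) * (a : ℂ))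
        = ((e : ℂ) * (Nat.card K : ℂ)) * classInner Ψ φ := by linear_combination hd1
    exact (mul_left_cancel₀ (mul_ne_zero he0' hK0) h5).symm
  obtain ⟨m₁, hm₁⟩ := exists_int_classInner
    (GenChar.of_isIrrCharacter (hirrS χ₁ hχ₁)) hΨ
  have hβ : φ - (a : ℤ) • χ₁ ∈ zspanOn S ({1}ᶜ : Set L) := by
    rw [mem_zspanOn_one_iff]
    refine ⟨zspan_sub (mem_zspan_of_mem hφS) (zspan_zsmul _ (mem_zspan_of_mem hχ₁)), ?_⟩
    rw [Pi.sub_apply, Pi.smul_apply, zsmul_eq_mul, hφ1, hχ₁1]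
    push_cast
    ring
  refine ⟨k - m₁, ?_⟩
  rw [hρ1 _ hβ Θ hΘ, classInner_sub_left, classInner_zsmul_left, hm₁,
    ← classInner_conj_symm Ψ φ, hΨφ, map_intCast]
  push_cast
  ring

end cong

end Cfsg.Agent.H2.PF6
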