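import Mathlib
import Cfsg.Prelude.Def_OddOrderChar
import Cfsg.Agent.H2.PF6.N7
import Cfsg.Agent.H2.PF6.S5
import Cfsg.Agent.H2.PF6.S6
import Cfsg.Agent.Lib.helper3.Frob

set_option autoImplicit false
set_option linter.style.haveILetI false
set_option linter.unusedSectionVars false
set_option maxHeartbeats 3200000

/-!
# Sibley's theorem (Peterfalvi 6.8), part 7: the abstract theorem
-/

namespace Cfsg.Agent.H2.PF6

open Cfsg Cfsg.Agent.Lib.helper3.Coh Cfsg.Agent.Lib.helper3.Irr Cfsg.Agent.Lib.helper3.CharBasic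
open Cfsg.Agent.Lib.helper3 Cfsg.Agent.Lib.helper3.IndFun
open scoped ComplexConjugate

theorem two_mul_le_of_odd_dvd (e z : ℕ) (he : Odd e) (hz : Odd z) (hdvd : e ∣ z - 1)
    (hz1 : 1 < z) : 2 * e ≤ z - 1 := by
  obtain ⟨c, hc⟩ := hdvd
  have hc0 : c ≠ 0 := by
    rintro rfl
    omega
  have hc1 : c ≠ 1 := by
    rintro rfl
    obtain ⟨u, hu⟩ := he
    obtain ⟨v, hv⟩ := hz
    omega
  calc 2 * e = e * 2 := by ring
    _ ≤ e * c := Nat.mul_le_mul_left _ (by omega)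
    _ = z - 1 := hc.symm

theorem final_arith (e t r z : ℕ) (h1 : 2 * e ≤ z - 1) (ht : t ^ 2 ≤ r) (hr : 2 ≤ r)
    (hz : 2 ≤ z) : 2 * e * t < r * (z - 1) := by
  have htr : t < r := by
    rcases Nat.lt_or_ge t 2 with h | h
    · omega
    · have : t < t ^ 2 := by nlinarith
      omega
  have hz1 : 0 < z - 1 := by omega
  calc 2 * e * t ≤ (z - 1) * t := Nat.mul_le_mul_right _ h1
    _ < (z - 1) * r := mul_lt_mul_of_pos_left htr hz1
    _ = r * (z - 1) := by ring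

theorem pow_eq_of_mul_pow_eq {e p i j : ℕ} (he : 0 < e) (hp : 1 < p)
    (h : e * p ^ i = e * p ^ j) : i = j :=
  Nat.pow_right_injective hp (Nat.eq_of_mul_eq_mul_left he h)

section main

variable {L : Type*} [Group L] [Fintype L] {G : Type*} [Group G] [Fintype G]

/-- The degree bound `θ(1)² ≤ [K:Z]` for a central subgroup `Z`. -/
theorem degree_sq_le_relIndex (K : Subgroup L) [hK : K.Normal] (Z : Subgroup L) [Z.Normal]
    (hZK : Z ≤ K) (hZc : ∀ z ∈ Z, ∀ k ∈ K, z * k = k * z) {θ : IrrCharacter K}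
    (hθ : θ ∈ thetaSet K ⊥) {t : ℕ} (ht : (θ : K → ℂ) 1 = (t : ℂ)) : t ^ 2 ≤ Z.relIndex K := by
  have hcent : ∀ x ∈ Z, ∀ y ∈ K, x * y * x⁻¹ * y⁻¹ ∈ (⊥ : Subgroup L) := by
    intro x hx y hy
    rw [Subgroup.mem_bot, hZc x hx y hy]
    group
  have h1 := degree_bound K (B := ⊥) (C := K) (D := Z) bot_le hZK le_rfl hcent hθ ht
  have h3 := relIndex_mul_card' Z K hZK
  have hK0 : 0 < Nat.card K := Nat.card_pos
  have hZ0 : 0 < Nat.card Z := Nat.card_pos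
  have h4 : t ^ 2 * (Nat.card K * Nat.card Z) ≤ Z.relIndex K * (Nat.card K * Nat.card Z) := by
    calc t ^ 2 * (Nat.card K * Nat.card Z) = t ^ 2 * Nat.card K * Nat.card Z := by ring
      _ ≤ Nat.card K ^ 2 := h1
      _ = Z.relIndex K * (Nat.card K * Nat.card Z) := by rw [← h3]; ring
  exact Nat.le_of_mul_le_mul_right h4 (Nat.mul_pos hK0 hZ0)

/-- Sibley's theorem in abstract form: `ρ` plays the role of restriction from `G` to `L`. -/
theorem sibley_abstract (K : Subgroup L) [hK : K.Normal] (τ : (L → ℂ) → (G → ℂ))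
    (R : (L → ℂ) → Finset (G → ℂ))
    (hS : IsCoherenceSystem (inducedIrrAbove K ⊥) τ R) (hodd : Odd (Nat.card L))
    (hnil : Group.IsNilpotent K) (hK1 : K ≠ ⊥)
    (hC : ∀ n ∈ K, n ≠ 1 → Subgroup.centralizer ({n} : Set L) ≤ K)
    (ρ : (G → ℂ) → (L → ℂ))
    (hρ1 : ∀ α ∈ zspanOn (inducedIrrAbove K ⊥) ({1}ᶜ : Set L), ∀ Θ : G → ℂ,
      IsGeneralizedCharacter G Θ → classInner (τ α) Θ = classInner α (ρ Θ))
    (hρ2 : ∀ Θ : G → ℂ, IsGeneralizedCharacter G Θ → IsGeneralizedCharacter L (ρ Θ))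
    (hρ3 : ∀ p m : ℕ, p.Prime → Nat.card K = p ^ m → Nat.Coprime K.index p →
      ∀ Z : Subgroup L, Z.Normal → Z ≠ ⊥ → Z ≤ K → (∀ z ∈ Z, ∀ k ∈ K, z * k = k * z) →
      ∀ Θ : G → ℂ, IsGeneralizedCharacter G Θ → classInner Θ Θ = 1 →
      (∀ z ∈ Z, ∀ z' ∈ Z, z ≠ 1 → z' ≠ 1 → ρ Θ z = ρ Θ z') →
      ∀ z ∈ Z, z ≠ 1 → ∃ k : ℤ, ρ Θ 1 - ρ Θ z = (((Nat.card K : ℤ) * k : ℤ) : ℂ)) :
    IsCoherent (inducedIrrAbove K ⊥) ({1}ᶜ : Set L) τ := by
  classical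
  letI : Fintype K := Fintype.ofFinite K
  have hsolv : Group.IsSolvable K := by
    haveI := hnil
    infer_instance
  have hKK : ⁅K, K⁆ < K := commutator_lt_of_nilpotent K hnil hK1
  haveI hK'n : (⁅K, K⁆ : Subgroup L).Normal := inferInstance
  have hfrob := frob_quot K ⁅K, K⁆ hKK.le hC
  haveI : ((⊥ : Subgroup L).subgroupOf K).Normal := inferInstance
  have hnilq : Group.IsNilpotent (↥K ⧸ (⊥ : Subgroup L).subgroupOf K) := by
    haveI := hnil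
    infer_instance
  have hH₁ : (⁅K, K⁆ : Subgroup L) = ⁅K, K⁆ ⊔ ⊥ := (sup_bot_eq _).symm
  by_cases hpp : ∃ p m : ℕ, p.Prime ∧ Nat.card K = p ^ m
  swap
  · exact s1521 K hsolv τ R hS hodd ⊥ bot_le hnilq ⁅K, K⁆ hH₁ hKK hfrob
      (Or.inr (Or.inr (Or.inl (by rw [Subgroup.relIndex_bot_left]; exact hpp))))
  by_cases hab : (⁅K, K⁆ : Subgroup L) ≤ ⊥
  · exact s1521 K hsolv τ R hS hodd ⊥ bot_le hnilq ⁅K, K⁆ hH₁ hKK hfrob
      (Or.inr (Or.inr (Or.inr (Or.inl hab))))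
  obtain ⟨p, m, hp, hpm⟩ := hpp
  -- the central subgroup `Z`
  have hK'1 : (⁅K, K⁆ : Subgroup L) ≠ ⊥ := fun h => hab (by rw [h])
  set Z : Subgroup L := Subgroup.centralizer (K : Set L) ⊓ ⁅K, K⁆ with hZdef
  haveI hZn : Z.Normal := by rw [hZdef]; infer_instance
  have hZK' : Z ≤ ⁅K, K⁆ := inf_le_right
  have hZK : Z ≤ K := hZK'.trans hKK.le
  have hZc : ∀ z ∈ Z, ∀ k ∈ K, z * k = k * z := by
    intro z hz k hk
    have h1 : z ∈ Subgroup.centralizer (K : Set L) := (Subgroup.mem_inf.mp hz).1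
    exact ((Subgroup.mem_centralizer_iff.mp h1) k hk).symm
  have hZ1 : Z ≠ ⊥ := by
    obtain ⟨x, hx, hx1, hxc⟩ := exists_central_mem K ⁅K, K⁆ hnil hKK.le hK'1
    intro h
    apply hx1
    have hxZ : x ∈ Z := Subgroup.mem_inf.mpr
      ⟨Subgroup.mem_centralizer_iff.mpr (fun k hk => (hxc k hk).symm), hx⟩
    rw [h] at hxZ
    exact Subgroup.mem_bot.mp hxZ
  -- parameters
  set e := K.index with he
  have he0 : 0 < e := Nat.pos_of_ne_zero Subgroup.index_ne_zero_of_finite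
  have hedvd : e ∣ Nat.card Z - 1 := frob_index_dvd K Z hZK hZc hC
  have hZcard1 : 1 < Nat.card Z := (Subgroup.one_lt_card_iff_ne_bot Z).mpr hZ1
  have hZdvd : Nat.card Z ∣ p ^ m := by
    rw [← hpm]
    exact Subgroup.card_dvd_of_le hZK
  obtain ⟨i, -, hi⟩ := (Nat.dvd_prime_pow hp).mp hZdvd
  have hi0 : i ≠ 0 := by
    rintro rfl
    rw [pow_zero] at hi
    omega
  have hcop : Nat.Coprime e p := by
    rw [Nat.coprime_comm, Nat.Prime.coprime_iff_not_dvd hp]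
    intro hpe
    have h1 : p ∣ p ^ i - 1 := by
      rw [← hi]
      exact hpe.trans hedvd
    have h2 : p ∣ p ^ i := dvd_pow_self p hi0
    have h3 : 0 < p ^ i := Nat.pow_pos hp.pos
    have h4 : p ∣ 1 := by
      have := Nat.dvd_sub h2 h1
      rwa [Nat.sub_sub_self h3] at this
    exact hp.one_lt.ne' (Nat.dvd_one.mp h4)
  -- irreducibility
  have hirrS : ∀ χ ∈ inducedIrrAbove K (⊥ : Subgroup L), IsIrrCharacter L χ := by
    rintro χ ⟨θ, hθ, hθ1, -, rfl⟩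
    exact isIrrCharacter_indFun_of_centralizer_le K hC θ hθ hθ1
  -- (6.6) and `S(K')`
  obtain ⟨hYeq, hYcoh⟩ := s1522 K hsolv τ R hS hodd hnil hKK hfrob Z hZ1 hZK hZc
    (fun χ hχ => hirrS χ hχ.1)
  have hXcoh := coherent_above_commutator K hsolv τ R hS ⁅K, K⁆ le_rfl hKK
  -- finsets
  have hfin : (inducedIrrAbove K (⊥ : Subgroup L)).Finite := CS.finite hS
  have hXS : inducedIrrAbove K ⁅K, K⁆ ⊆ inducedIrrAbove K ⊥ := inducedIrrAbove_mono K bot_le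
  have hYS : inducedIrrAbove K ⊥ \ inducedIrrAbove K Z ⊆ inducedIrrAbove K ⊥ := Set.sdiff_subset
  set FX : Finset (L → ℂ) := (hfin.subset hXS).toFinset with hFX
  set FY : Finset (L → ℂ) := (hfin.subset hYS).toFinset with hFY
  set FS : Finset (L → ℂ) := hfin.toFinset with hFS
  have hFX' : ∀ φ, φ ∈ FX ↔ φ ∈ inducedIrrAbove K ⁅K, K⁆ := fun φ => Set.Finite.mem_toFinset _
  have hFY' : ∀ φ, φ ∈ FY ↔ φ ∈ inducedIrrAbove K ⊥ \ inducedIrrAbove K Z :=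
    fun φ => Set.Finite.mem_toFinset _
  have hFS' : ∀ φ, φ ∈ FS ↔ φ ∈ inducedIrrAbove K ⊥ := fun φ => Set.Finite.mem_toFinset _
  have hFXc : (↑FX : Set (L → ℂ)) = inducedIrrAbove K ⁅K, K⁆ := Set.Finite.coe_toFinset _
  have hFYc : (↑FY : Set (L → ℂ)) = inducedIrrAbove K ⊥ \ inducedIrrAbove K Z :=
    Set.Finite.coe_toFinset _
  have hFSc : (↑FS : Set (L → ℂ)) = inducedIrrAbove K ⊥ := Set.Finite.coe_toFinset _
  have hFXS : (↑FX : Set (L → ℂ)) ⊆ inducedIrrAbove K ⊥ := by rw [hFXc]; exact hXS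
  have hFYS : (↑FY : Set (L → ℂ)) ⊆ inducedIrrAbove K ⊥ := by rw [hFYc]; exact hYS
  have hXY : Disjoint FX FY := by
    rw [Finset.disjoint_left]
    intro φ hφX hφY
    have h1 := (hFX' φ).mp hφX
    have h2 := (hFY' φ).mp hφY
    exact h2.2 (inducedIrrAbove_mono K hZK' h1)
  -- degrees and norms
  have hdeg : ∀ φ ∈ inducedIrrAbove K (⊥ : Subgroup L), ∃ m : ℕ, φ 1 = (m : ℂ) :=
    fun φ hφ => exists_nat_apply_one (hS.isCharacter φ hφ)
  have hnorm : ∀ φ ∈ inducedIrrAbove K (⊥ : Subgroup L),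
      ∃ m : ℕ, 0 < m ∧ classInner φ φ = (m : ℂ) := fun φ hφ => CS.exists_norm hS hφ
  choose! d hd using hdeg
  choose! n hn using hnorm
  have htex : ∀ θ : IrrCharacter K, ∃ a : ℕ, (θ : K → ℂ) 1 = ((p ^ a : ℕ) : ℂ) := by
    intro θ
    obtain ⟨t, ht1, ht2, -⟩ := Cfsg.Agent.Lib.helper3.Central.irr_degree_dvd_card θ.2
    rw [hpm] at ht2
    obtain ⟨a, -, rfl⟩ := (Nat.dvd_prime_pow hp).mp ht2
    exact ⟨a, ht1⟩
  choose aθ haθ using htex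
  have hXdeg : ∀ ψ ∈ FX, ψ 1 = (e : ℂ) := by
    intro ψ hψ
    obtain ⟨θ, hθ, rfl⟩ := (mem_inducedIrrAbove K).mp ((hFX' ψ).mp hψ)
    rw [indFun_one_eq, linear_of_mem_thetaSet K ⁅K, K⁆ le_rfl hθ, mul_one]
  -- the members of `FY`
  have hYex : ∀ η : L → ℂ, ∃ θ : IrrCharacter K,
      η ∈ FY → θ ∈ thetaOff K Z ∧ η = indFun K (θ : K → ℂ) := by
    intro η
    by_cases hη : η ∈ FY
    · obtain ⟨θ, hθ, h⟩ := (mem_diff_iff K Z hZK).mp ((hFY' η).mp hη)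
      exact ⟨θ, fun _ => ⟨hθ, h⟩⟩
    · exact ⟨oneIrr K, fun h => absurd h hη⟩
  choose θY hθY using hYex
  set j : (L → ℂ) → ℕ := fun η => aθ (θY η) with hj
  have hYdeg : ∀ η ∈ FY, η 1 = ((e * p ^ j η : ℕ) : ℂ) := by
    intro η hη
    obtain ⟨-, h2⟩ := hθY η hη
    have h3 := congrFun h2 1
    rw [h3, indFun_one_eq, haθ]
    push_cast
    rfl
  -- conjugation
  have hFXconj : ∀ ψ ∈ FX, Cfsg.conjFun ψ ∈ FX :=
    fun ψ hψ => (hFX' _).mpr (inducedIrrAbove_conj K ((hFX' ψ).mp hψ))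
  have hFYconj : ∀ η ∈ FY, Cfsg.conjFun η ∈ FY := by
    intro η hη
    obtain ⟨h1, h2⟩ := (hFY' η).mp hη
    refine (hFY' _).mpr ⟨inducedIrrAbove_conj K h1, fun h3 => h2 ?_⟩
    have := inducedIrrAbove_conj K h3
    rwa [conjFun_conjFun] at this
  have hFSconj : ∀ η ∈ FS, Cfsg.conjFun η ∈ FS :=
    fun η hη => (hFS' _).mpr (inducedIrrAbove_conj K ((hFS' η).mp hη))
  -- base points
  obtain ⟨lam, hlam, -⟩ := exists_linear_induced K hsolv ⁅K, K⁆ hKK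
  set χ₁ : L → ℂ := indFun K (lam : K → ℂ) with hχ₁def
  have hχ₁X : χ₁ ∈ FX := (hFX' _).mpr ((mem_inducedIrrAbove K).mpr ⟨lam, hlam, rfl⟩)
  have hχ₁S : χ₁ ∈ inducedIrrAbove K (⊥ : Subgroup L) := hFXS (Finset.mem_coe.mpr hχ₁X)
  set ψ₂ : L → ℂ := Cfsg.conjFun χ₁ with hψ₂def
  have hψ₂X : ψ₂ ∈ FX := hFXconj χ₁ hχ₁X
  have hψ₂ne : ψ₂ ≠ χ₁ := hS.conj_ne χ₁ hχ₁S
  have hFYne : FY.Nonempty := by
    obtain ⟨θ, hθ⟩ := thetaOff_nonempty K Z hZ1 hZK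
    exact ⟨_, (hFY' _).mpr ((mem_diff_iff K Z hZK).mpr ⟨θ, hθ, rfl⟩)⟩
  obtain ⟨φ, hφY, hφmin⟩ := Finset.exists_min_image FY j hFYne
  have hφS : φ ∈ inducedIrrAbove K (⊥ : Subgroup L) := hFYS (Finset.mem_coe.mpr hφY)
  set φ₂ : L → ℂ := Cfsg.conjFun φ with hφ₂def
  have hφ₂Y : φ₂ ∈ FY := hFYconj φ hφY
  have hφ₂ne : φ₂ ≠ φ := hS.conj_ne φ hφS
  have hjφ₂ : j φ₂ = j φ := by
    have h1 := hYdeg φ₂ hφ₂Y
    rw [hφ₂def, conjFun_apply_one_of_isCharacter (hS.isCharacter φ hφS), hYdeg φ hφY] at h1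
    have h2 : e * p ^ j φ = e * p ^ j (Cfsg.conjFun φ) := by exact_mod_cast h1
    exact (pow_eq_of_mul_pow_eq he0 hp.one_lt h2).symm
  set a : ℕ := p ^ j φ with ha
  have ha0 : 0 < a := Nat.pow_pos hp.pos
  set b : (L → ℂ) → ℕ := fun η => p ^ (j η - j φ) with hb
  have hbdeg : ∀ η ∈ FY, η 1 = ((b η * (a * e) : ℕ) : ℂ) := by
    intro η hη
    rw [hYdeg η hη]
    congr 1
    rw [hb, ha]
    simp only
    have h1 : p ^ (j η - j φ) * p ^ j φ = p ^ j η := by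
      rw [← pow_add, Nat.sub_add_cancel (hφmin η hη)]
    calc e * p ^ j η = e * (p ^ (j η - j φ) * p ^ j φ) := by rw [h1]
      _ = p ^ (j η - j φ) * (p ^ j φ * e) := by ring
  have hbφ : b φ = 1 := by rw [hb]; simp
  have hbφ₂ : b φ₂ = 1 := by rw [hb]; simp only; rw [hjφ₂, Nat.sub_self, pow_zero]
  have hbpos : ∀ η ∈ FY, 0 < b η := fun η _ => Nat.pow_pos hp.pos
  have hφ1 : φ 1 = ((a * e : ℕ) : ℂ) := by rw [hbdeg φ hφY, hbφ, one_mul]
  have hχ₁1 : χ₁ 1 = (e : ℂ) := hXdeg χ₁ hχ₁X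
  -- membership facts for `FY`
  have hYmem : ∀ χ : L → ℂ, IsIrrCharacter L χ → (∃ z ∈ Z, χ z ≠ χ 1) → χ ∈ FY := by
    intro χ hχ hχZ
    rw [hFY', hYeq]
    exact ⟨hχ, hχZ⟩
  have hYZ : ∀ χ ∈ FY, ∃ z ∈ Z, χ z ≠ χ 1 := by
    intro χ hχ
    have := (hFY' χ).mp hχ
    rw [hYeq] at this
    exact this.2
  -- the glue
  have hglue : IsCoherent (↑FX ∪ ↑FY : Set (L → ℂ)) ({1}ᶜ : Set L) τ := by
    apply coherent_glue τ (inducedIrrAbove K ⊥) hirrS hS.isometry hS.map_one FX FY hFXS hFYS hXY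
      (by rw [hFXc]; exact hXcoh) (by rw [hFYc]; exact hYcoh) χ₁ hχ₁X e he0 hXdeg φ hφY a ha0 b
      hbdeg hbφ ψ₂ hψ₂X hψ₂ne φ₂ hφ₂Y hφ₂ne hbφ₂ hbpos
    intro σ τ₂ hσ _ hτ₂ hτ₂α hcross
    have hψ₂span : ψ₂ ∈ zspan (↑FX : Set (L → ℂ)) := mem_zspan_of_mem (Finset.mem_coe.mpr hψ₂X)
    exact sibley_cong K (inducedIrrAbove K ⊥) hirrS τ ρ hρ1 hρ2 Z hZ1
      (hρ3 p m hp hpm hcop Z hZn hZ1 hZK hZc) FY hFYS hYmem hYZ τ₂ hτ₂ hτ₂α (σ ψ₂)
      (hσ.2.2.2 ψ₂ hψ₂span)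
      (by rw [hσ.2.2.1 ψ₂ hψ₂span ψ₂ hψ₂span,
        irr_classInner_self (hirrS ψ₂ (hFXS (Finset.mem_coe.mpr hψ₂X)))])
      (fun η hη => hcross ψ₂ hψ₂X η hη) φ hφY a e ha0 rfl hφ1 χ₁ hχ₁S hχ₁1
  -- the final extension
  have hn1 : ∀ φ' ∈ inducedIrrAbove K (⊥ : Subgroup L), n φ' = 1 := by
    intro φ' hφ'
    have h1 := (hn φ' hφ').2
    rw [irr_classInner_self (hirrS φ' hφ')] at h1
    exact_mod_cast h1.symm
  have hdχ₁ : d χ₁ = e := by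
    have h1 := hd χ₁ hχ₁S
    rw [hχ₁1] at h1
    exact_mod_cast h1.symm
  set S₁ : Finset (L → ℂ) := FX ∪ FY with hS₁
  have hS₁S : (↑S₁ : Set (L → ℂ)) ⊆ inducedIrrAbove K ⊥ := by
    rw [hS₁, Finset.coe_union]
    exact Set.union_subset hFXS hFYS
  have hS₁FS : S₁ ⊆ FS := by
    intro x hx
    exact (hFS' x).mpr (hS₁S (Finset.mem_coe.mpr hx))
  -- the sum over `FY`
  have hsumC := sum_sq_div_sat K (thetaOff K Z) (thetaOff_subset K Z)
    (fun θ hθ θ' _ h => thetaOff_sat K Z hZK hθ h) FY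
    (fun φ' => by rw [hFY']; exact mem_diff_iff K Z hZK) d n
    (fun φ' hφ' => hd φ' (hFYS (Finset.mem_coe.mpr hφ')))
    (fun φ' hφ' => (hn φ' (hFYS (Finset.mem_coe.mpr hφ'))).2)
    (fun φ' hφ' => (hn φ' (hFYS (Finset.mem_coe.mpr hφ'))).1.ne')
  have htot := sum_sq_thetaOff K Z (fun θ => p ^ aθ θ) haθ
  have hrz := relIndex_mul_card' Z K hZK
  set r := Z.relIndex K with hr
  set zc := Nat.card Z with hzc
  have hsumN : ∑ θ ∈ thetaOff K Z, (p ^ aθ θ) ^ 2 = r * (zc - 1) := by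
    obtain ⟨z', hz'⟩ : ∃ z', zc = z' + 1 := ⟨zc - 1, by omega⟩
    rw [hz'] at hrz ⊢
    rw [Nat.add_sub_cancel]
    have h4 : r * (z' + 1) = r * z' + r := by ring
    omega
  have hsumR : ∑ φ' ∈ FY, ((d φ' : ℝ) ^ 2 / (n φ' : ℝ)) = ((e * (r * (zc - 1)) : ℕ) : ℝ) := by
    apply Complex.ofReal_injective
    push_cast
    have h5 : ∑ θ ∈ thetaOff K Z, (θ : K → ℂ) 1 * (θ : K → ℂ) 1
        = ((∑ θ ∈ thetaOff K Z, (p ^ aθ θ) ^ 2 : ℕ) : ℂ) := by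
      push_cast
      apply Finset.sum_congr rfl
      intro θ _
      rw [haθ θ]
      push_cast
      ring
    rw [hsumC, h5, hsumN]
    push_cast
    rfl
  have hr2 : 2 ≤ r := by
    have h0 : r ≠ 0 := (relIndex_pos' Z K).ne'
    have h1 : r ≠ 1 := by
      intro h
      have : K ≤ Z := Subgroup.relIndex_eq_one.mp h
      exact not_le_of_gt hKK (this.trans hZK')
    omega
  have hodde : Odd e := Odd.of_dvd_nat hodd (Subgroup.index_dvd_card K)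
  have hoddz : Odd zc := Odd.of_dvd_nat hodd (Subgroup.card_subgroup_dvd_card Z)
  have h2e : 2 * e ≤ zc - 1 := two_mul_le_of_odd_dvd e zc hodde hoddz hedvd hZcard1
  have hmany := CS.extend_many hS d n hd (fun φ' hφ' => (hn φ' hφ').2) χ₁ FS
    (by rw [hFSc]) hFSconj (FS \ S₁).card S₁ le_rfl hS₁S
    (by
      intro φ' hφ'
      rw [hS₁] at hφ' ⊢
      rcases Finset.mem_union.mp hφ' with h | h
      · exact Finset.mem_union_left _ (hFXconj φ' h)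
      · exact Finset.mem_union_right _ (hFYconj φ' h))
    (by rw [hS₁, Finset.coe_union]; exact hglue)
    (Finset.mem_union_left _ hχ₁X) ?_ ?_
  · rw [Finset.union_eq_right.mpr hS₁FS, hFSc] at hmany
    exact hmany
  · -- divisibility
    intro χ hχ
    obtain ⟨θ, hθ, rfl⟩ := (mem_inducedIrrAbove K).mp ((hFS' χ).mp hχ)
    obtain ⟨t, ht⟩ := exists_nat_apply_one (isCharacter_of_isIrrCharacter θ.2)
    have h1 := hd _ ((hFS' _).mp hχ)
    rw [indFun_one_eq, ht] at h1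
    have h2 : d (indFun K (θ : K → ℂ)) = e * t := by exact_mod_cast h1.symm
    rw [hdχ₁, h2]
    exact Dvd.intro _ rfl
  · -- the inequality
    intro χ hχ
    obtain ⟨θ, hθ, rfl⟩ := (mem_inducedIrrAbove K).mp ((hFS' χ).mp hχ)
    obtain ⟨t, ht⟩ := exists_nat_apply_one (isCharacter_of_isIrrCharacter θ.2)
    have h1 := hd _ ((hFS' _).mp hχ)
    rw [indFun_one_eq, ht] at h1
    have h2 : d (indFun K (θ : K → ℂ)) = e * t := by exact_mod_cast h1.symm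
    have htr : t ^ 2 ≤ r := degree_sq_le_relIndex K Z hZK hZc hθ ht
    have hfin := final_arith e t r zc h2e htr hr2 (by omega)
    have hle : ∑ φ' ∈ FY, ((d φ' : ℝ) ^ 2 / (n φ' : ℝ))
        ≤ ∑ φ' ∈ S₁, ((d φ' : ℝ) ^ 2 / (n φ' : ℝ)) := by
      apply Finset.sum_le_sum_of_subset_of_nonneg Finset.subset_union_right
      intro φ' _ _
      positivity
    refine lt_of_lt_of_le ?_ hle
    rw [hsumR, hdχ₁, h2]
    have h3 : 2 * (e * t) * e < e * (r * (zc - 1)) := by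
      calc 2 * (e * t) * e = e * (2 * e * t) := by ring
        _ < e * (r * (zc - 1)) := mul_lt_mul_of_pos_left hfin he0
    exact_mod_cast h3

end main

end Cfsg.Agent.H2.PF6
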