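import Mathlib
import Cfsg.Prelude.Def_OddOrderChar
import Cfsg.Agent.H2.PF6.S4
import Cfsg.Agent.H2.PF6.S7
import Cfsg.Agent.Lib.helper3.FP12
import Cfsg.Agent.Lib.helper3.Tifn7
import Cfsg.Agent.S1514

set_option autoImplicit false
set_option linter.style.haveILetI false
set_option linter.unusedSectionVars false
set_option linter.unusedVariables false
set_option maxHeartbeats 1600000

/-!
# Sibley's theorem (Peterfalvi 6.8), part 8: the concrete statement
-/

namespace Cfsg.Agent.H2.PF6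

open Cfsg Module Cfsg.Agent.Lib.helper3.CharBasic Cfsg.Agent.Lib.helper3.IndFun
open Cfsg.Agent.Lib.helper3.Irr Cfsg.Agent.Lib.helper3.Coh Cfsg.Agent.Lib.helper3.Tifn
open Cfsg.Agent.Lib.helper3.IndFunTI Cfsg.Agent.Lib.helper3.FP
open scoped ComplexConjugate

/-- Sibley's theorem (Peterfalvi 6.8), stated for a subgroup `L` with the data of a Frobenius
group with nilpotent trivial-intersection kernel `H` whose normalizer is `L`. -/
theorem s1524_aux {G : Type*} [Group G] [Fintype G] (H L W₁ : Subgroup G) [Fintype L]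
    (hodd : Odd (Nat.card L)) (hHL : H ≤ L) (hW₁L : W₁ ≤ L) (hH1 : H ≠ ⊥)
    (hnil : Group.IsNilpotent H) (hHn : ∀ x ∈ L, ∀ h ∈ H, x * h * x⁻¹ ∈ H)
    (hsup : H ⊔ W₁ = L)
    (hfpf : ∀ w ∈ W₁, w ≠ 1 → ∀ h ∈ H, w * h = h * w → h = 1)
    (hTI : IsTISubset (H : Set G))
    (hiso : IsLinearIsometryOn (zspanOn (relSet (H.subgroupOf L)) ({1}ᶜ : Set L))
      (fun α => indFun L α) ∧
      ∀ α ∈ zspanOn (relSet (H.subgroupOf L)) ({1}ᶜ : Set L), indFun L α 1 = 0)
    (hN : Subgroup.normalizer (H : Set G) = L) :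
    IsCoherent (inducedIrrAbove (H.subgroupOf L) ⊥) ({1}ᶜ : Set L)
      (fun α : L → ℂ => indFun L α) := by
  classical
  set K : Subgroup L := H.subgroupOf L with hK
  haveI hKn : K.Normal := by
    constructor
    intro n hn g
    rw [hK, Subgroup.mem_subgroupOf] at hn ⊢
    exact hHn g g.2 n hn
  have hK1 : K ≠ ⊥ := by
    intro hbot
    rw [hK, Subgroup.subgroupOf_eq_bot, disjoint_iff, inf_of_le_left hHL] at hbot
    exact hH1 hbot
  have hnilK : Group.IsNilpotent K := by
    haveI := hnil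
    exact Group.nilpotent_of_mulEquiv (Subgroup.subgroupOfEquivOfLe hHL).symm
  have hsolvK : Group.IsSolvable K := by
    haveI := hnilK
    infer_instance
  -- the centralizer condition
  have hsupL : K ⊔ W₁.subgroupOf L = ⊤ := by
    rw [hK, ← Subgroup.subgroupOf_sup hHL hW₁L, Subgroup.subgroupOf_eq_top, hsup]
  have hCn : ∀ n ∈ K, n ≠ 1 → Subgroup.centralizer ({n} : Set L) ≤ K := by
    apply centralizer_le_of_frobenius K (W₁.subgroupOf L) hsupL
    intro w hw hw1 k hk hwk
    rw [Subgroup.mem_subgroupOf] at hw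
    rw [hK, Subgroup.mem_subgroupOf] at hk
    apply Subtype.ext
    apply hfpf (w : G) hw (fun h => hw1 (Subtype.ext h)) (k : G) hk
    have := congrArg (Subtype.val) hwk
    simpa using this
  -- the coherence system
  obtain ⟨ξ₀, hξ₀, -⟩ := exists_relSet_degree_index K hCn hsolvK hK1
  obtain ⟨hisom, hone⟩ := hiso
  obtain ⟨R, hR⟩ := Cfsg.Agent.S1514.result (relSet K) ⟨ξ₀, hξ₀⟩ (fun χ hχ => hχ.1)
    (fun χ hχ => ⟨conjFun_mem_relSet _ hχ, conjFun_ne_of_odd _ hodd hχ⟩)
    (fun α => indFun L α) hisom hone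
  have hSeq : inducedIrrAbove K ⊥ = relSet K := inducedIrrAbove_bot_eq_relSet K hCn
  rw [← hSeq] at hR
  -- the abstract theorem
  refine sibley_abstract K (fun α : L → ℂ => indFun L α) R hR hodd hnilK hK1 hCn
    (fun Θ => fun l : L => Θ l) ?_ ?_ ?_
  · intro α hα Θ hΘ
    exact frobenius_reciprocity L α Θ (isClassFunction_of_isGeneralizedCharacter hΘ)
  · intro Θ hΘ
    exact isGeneralizedCharacter_restrict hΘ L
  · intro p m hp hcard hcop Z hZn hZ1 hZK hZc Θ hΘ hΘ1 hconst z hz hz1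
    have hcardKH : Nat.card K = Nat.card H :=
      Nat.card_congr (Subgroup.subgroupOfEquivOfLe hHL).toEquiv
    have hHp : IsPGroup p H := by
      haveI : Fact p.Prime := ⟨hp⟩
      exact IsPGroup.of_card (n := m) (by rw [← hcardKH, hcard])
    obtain ⟨k, hk⟩ := sibley_dvd p hp H L hHp hTI hN hHL hodd hcop (Z.map L.subtype)
      (by
        intro hbot
        rw [Subgroup.map_eq_bot_iff_of_injective _ (Subgroup.subtype_injective L)] at hbot
        exact hZ1 hbot)
      (by
        rintro _ ⟨z', hz', rfl⟩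
        exact Subgroup.mem_subgroupOf.mp (hZK hz'))
      (by
        rintro x hx _ ⟨z', hz', rfl⟩
        refine ⟨(⟨x, hx⟩ : L) * z' * (⟨x, hx⟩ : L)⁻¹, hZn.conj_mem z' hz' _, ?_⟩
        simp)
      (by
        rintro _ ⟨z', hz', rfl⟩ y hy
        have := hZc z' hz' ⟨y, hHL hy⟩ (Subgroup.mem_subgroupOf.mpr hy)
        have h2 := congrArg (Subtype.val) this
        simpa using h2)
      (by
        rintro _ ⟨z', hz', rfl⟩ hz'1 x hx hxz
        have hz'K : z' ∈ K := hZK hz'
        have hz'ne : z' ≠ 1 := by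
          rintro rfl
          exact hz'1 rfl
        have hmem : (⟨x, hx⟩ : L) ∈ Subgroup.centralizer ({z'} : Set L) := by
          rw [Subgroup.mem_centralizer_iff]
          intro y hy
          rw [Set.mem_singleton_iff] at hy
          subst hy
          apply Subtype.ext
          simpa using hxz.symm
        exact Subgroup.mem_subgroupOf.mp (hCn z' hz'K hz'ne hmem))
      Θ hΘ hΘ1
      (by
        rintro _ ⟨a, ha, rfl⟩ _ ⟨b, hb, rfl⟩ ha1 hb1
        apply hconst a ha b hb
        · rintro rfl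
          exact ha1 rfl
        · rintro rfl
          exact hb1 rfl)
      (z : G) ⟨z, hz, rfl⟩ (fun h => hz1 (Subtype.ext h))
    refine ⟨k, ?_⟩
    rw [hcardKH]
    exact hk

/-- Sibley's theorem (Peterfalvi 6.8): the characters induced from a nilpotent
trivial-intersection Frobenius kernel form a coherent set. -/
theorem s1524 {G : Type*} [Group G] [Fintype G] (H L W₁ : Subgroup G) [Fintype L]
    (hodd : Odd (Nat.card L)) (hHL : H ≤ L) (hW₁L : W₁ ≤ L) (hH1 : H ≠ ⊥) (hW1 : W₁ ≠ ⊥)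
    (hnil : Group.IsNilpotent H) (hHn : ∀ x ∈ L, ∀ h ∈ H, x * h * x⁻¹ ∈ H)
    (hinf : H ⊓ W₁ = ⊥) (hsup : H ⊔ W₁ = L)
    (hfpf : ∀ w ∈ W₁, w ≠ 1 → ∀ h ∈ H, w * h = h * w → h = 1)
    (hTI : IsTISubset (H : Set G)) (hN : Subgroup.normalizer (H : Set G) = L) :
    IsCoherent (inducedIrrAbove (H.subgroupOf L) ⊥) ({1}ᶜ : Set L)
      (fun α : L → ℂ => indFun L α) := by
  classical
  refine s1524_aux H L W₁ hodd hHL hW₁L hH1 hnil hHn hsup hfpf hTI ?_ hN
  subst hN
  have hsupL : H.subgroupOf (Subgroup.normalizer (H : Set G)) ⊔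
      W₁.subgroupOf (Subgroup.normalizer (H : Set G)) = ⊤ := by
    rw [← Subgroup.subgroupOf_sup hHL hW₁L, Subgroup.subgroupOf_eq_top, hsup]
  haveI hKn : (H.subgroupOf (Subgroup.normalizer (H : Set G))).Normal := by
    constructor
    intro n hn g
    rw [Subgroup.mem_subgroupOf] at hn ⊢
    exact hHn g g.2 n hn
  have hCn : ∀ n ∈ H.subgroupOf (Subgroup.normalizer (H : Set G)), n ≠ 1 →
      Subgroup.centralizer ({n} : Set ↥(Subgroup.normalizer (H : Set G))) ≤
        H.subgroupOf (Subgroup.normalizer (H : Set G)) := by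
    apply centralizer_le_of_frobenius _ (W₁.subgroupOf (Subgroup.normalizer (H : Set G))) hsupL
    intro w hw hw1 k hk hwk
    rw [Subgroup.mem_subgroupOf] at hw
    rw [Subgroup.mem_subgroupOf] at hk
    apply Subtype.ext
    apply hfpf (w : G) hw (fun h => hw1 (Subtype.ext h)) (k : G) hk
    have := congrArg (Subtype.val) hwk
    simpa using this
  exact isLinearIsometryOn_indFun_TI H hTI (relSet _)
    (fun χ hχ => Cfsg.Agent.Lib.helper3.GenChar.of_isIrrCharacter hχ.1)
    (fun χ hχ x hx => apply_eq_zero_of_not_mem _ hCn hχ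
      (fun h => hx (Subgroup.mem_subgroupOf.mp h)))

end Cfsg.Agent.H2.PF6
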