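import Mathlib
import Cfsg.Prelude.Def_OddOrderChar
import Cfsg.Agent.H2.PF6.S8

set_option autoImplicit false
set_option linter.style.haveILetI false
set_option linter.unusedSectionVars false
set_option linter.unusedVariables false
set_option maxHeartbeats 1600000

/-!
# Coherence for trivial-intersection Sylow subgroups with Frobenius normalizer
-/

namespace Cfsg.Agent.H2.PF6

open Cfsg Module Cfsg.Agent.Lib.helper3.CharBasic Cfsg.Agent.Lib.helper3.IndFun
open Cfsg.Agent.Lib.helper3.Irr Cfsg.Agent.Lib.helper3.Coh Cfsg.Agent.Lib.helper3.Tifn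
open Cfsg.Agent.Lib.helper3.IndFunTI Cfsg.Agent.Lib.helper3.FP
open scoped ComplexConjugate

/-- A Frobenius group whose kernel has odd order and is not commutative has odd order. -/
theorem odd_card_of_nonabelian_kernel {L : Type*} [Group L] [Finite L] (K : Subgroup L)
    [hK : K.Normal] (hC : ∀ n ∈ K, n ≠ 1 → Subgroup.centralizer ({n} : Set L) ≤ K)
    (hna : ¬ ∀ a ∈ K, ∀ b ∈ K, a * b = b * a) (hoddK : Odd (Nat.card K)) :
    Odd (Nat.card L) := by
  classical
  by_contra hnot
  rw [Nat.not_odd_iff_even] at hnot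
  haveI : Fact (Nat.Prime 2) := ⟨Nat.prime_two⟩
  obtain ⟨t, ht⟩ := exists_prime_orderOf_dvd_card' 2 hnot.two_dvd
  have htK : t ∉ K := by
    intro h
    have h1 : orderOf (⟨t, h⟩ : K) = 2 := by
      rw [← ht]
      exact Subgroup.orderOf_mk t h
    have h2 : 2 ∣ Nat.card K := by
      rw [← h1]
      exact orderOf_dvd_natCard _
    obtain ⟨c, hc⟩ := hoddK
    omega
  have ht2 : t * t = 1 := by
    have := pow_orderOf_eq_one t
    rwa [ht, pow_two] at this
  have htinv : t⁻¹ = t := inv_eq_of_mul_eq_one_left ht2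
  apply hna
  set φ : K →* K := (MulAut.conjNormal t : MulAut K).toMonoidHom with hφ
  have hφa : ∀ k : K, ((φ k : K) : L) = t * k * t⁻¹ := fun k => MulAut.conjNormal_apply t k
  have hfpf : MonoidHom.FixedPointFree φ := by
    intro k hk
    by_contra hk1
    apply htK
    apply hC (k : L) k.2 (fun h => hk1 (Subtype.ext h))
    rw [Subgroup.mem_centralizer_iff]
    intro y hy
    rw [Set.mem_singleton_iff] at hy
    subst hy
    have := congrArg (Subtype.val) hk
    rw [hφa] at this
    calc (k : L) * t = (t * k * t⁻¹) * t := by rw [this]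
      _ = t * k := by group
  have hinv : Function.Involutive φ := by
    intro k
    apply Subtype.ext
    rw [hφa, hφa, htinv]
    calc t * (t * (k : L) * t) * t = (t * t) * k * (t * t) := by group
      _ = k := by rw [ht2, one_mul, mul_one]
  intro a ha b hb
  have := hfpf.commute_all_of_involutive hinv (⟨a, ha⟩ : K) ⟨b, hb⟩
  exact congrArg (Subtype.val) this.eq

/-- The coherence system for the induced characters of a trivial-intersection Frobenius kernel
in a group of odd order. -/
theorem exists_coherenceSystem {G : Type*} [Group G] [Fintype G] (H : Subgroup G)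
    [Fintype ↥(Subgroup.normalizer (H : Set G))]
    (hodd : Odd (Nat.card ↥(Subgroup.normalizer (H : Set G))))
    (hTI : IsTISubset (H : Set G)) (hH1 : H ≠ ⊥) (hsolv : Group.IsSolvable H)
    (hC : ∀ k ∈ H, k ≠ 1 → Subgroup.centralizer ({k} : Set G) ≤ H) :
    ∃ R, IsCoherenceSystem
      (inducedIrrAbove (H.subgroupOf (Subgroup.normalizer (H : Set G))) ⊥)
      (fun α => indFun (Subgroup.normalizer (H : Set G)) α) R := by
  classical
  have hHL : H ≤ Subgroup.normalizer (H : Set G) := Subgroup.le_normalizer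
  haveI hKn : (H.subgroupOf (Subgroup.normalizer (H : Set G))).Normal :=
    Subgroup.normal_in_normalizer
  have hCn := centralizer_le_subgroupOf H hC
  have hK1 : H.subgroupOf (Subgroup.normalizer (H : Set G)) ≠ ⊥ := by
    intro hbot
    rw [Subgroup.subgroupOf_eq_bot, disjoint_iff, inf_of_le_left hHL] at hbot
    exact hH1 hbot
  have hsolvK : Group.IsSolvable (H.subgroupOf (Subgroup.normalizer (H : Set G))) := by
    haveI := hsolv
    exact Group.isSolvable_of_isSolvable_injective
      (f := (Subgroup.subgroupOfEquivOfLe hHL).toMonoidHom)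
      (Subgroup.subgroupOfEquivOfLe hHL).injective
  obtain ⟨ξ₀, hξ₀, -⟩ := exists_relSet_degree_index _ hCn hsolvK hK1
  obtain ⟨hisom, hone⟩ := isLinearIsometryOn_indFun_TI H hTI (relSet _)
    (fun χ hχ => Cfsg.Agent.Lib.helper3.GenChar.of_isIrrCharacter hχ.1)
    (fun χ hχ x hx => apply_eq_zero_of_not_mem _ hCn hχ
      (fun h => hx (Subgroup.mem_subgroupOf.mp h)))
  obtain ⟨R, hR⟩ := Cfsg.Agent.S1514.result (relSet _) ⟨ξ₀, hξ₀⟩ (fun χ hχ => hχ.1)
    (fun χ hχ => ⟨conjFun_mem_relSet _ hχ, conjFun_ne_of_odd _ hodd hχ⟩)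
    (fun α => indFun (Subgroup.normalizer (H : Set G)) α) hisom hone
  rw [← inducedIrrAbove_bot_eq_relSet _ hCn] at hR
  exact ⟨R, hR⟩

/-- Coherence of the characters nontrivial on a central subgroup, for a nilpotent, noncommutative
trivial-intersection subgroup of odd order with Frobenius normalizer. -/
theorem coherent_central {G : Type*} [Group G] [Fintype G] (H : Subgroup G)
    [Fintype ↥(Subgroup.normalizer (H : Set G))]
    (hoddH : Odd (Nat.card H)) (hnil : Group.IsNilpotent H)
    (hna : ¬ ∀ a ∈ H, ∀ b ∈ H, a * b = b * a)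
    (hTI : IsTISubset (H : Set G))
    (hC : ∀ k ∈ H, k ≠ 1 → Subgroup.centralizer ({k} : Set G) ≤ H)
    (Z : Subgroup G) (hZ1 : Z ≠ ⊥)
    (hZP : ∀ z ∈ Z, z ∈ H ∧ ∀ y ∈ H, z * y = y * z)
    (hZn : ∀ x ∈ Subgroup.normalizer (H : Set G), ∀ z ∈ Z, x * z * x⁻¹ ∈ Z) :
    IsCoherent {χ : ↥(Subgroup.normalizer (H : Set G)) → ℂ |
        IsIrrCharacter ↥(Subgroup.normalizer (H : Set G)) χ ∧
        ∃ z : ↥(Subgroup.normalizer (H : Set G)), (z : G) ∈ Z ∧ χ z ≠ χ 1} {1}ᶜ
      (fun α => indFun (Subgroup.normalizer (H : Set G)) α) := by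
  classical
  have hHL : H ≤ Subgroup.normalizer (H : Set G) := Subgroup.le_normalizer
  haveI hKn : (H.subgroupOf (Subgroup.normalizer (H : Set G))).Normal :=
    Subgroup.normal_in_normalizer
  have hCn := centralizer_le_subgroupOf H hC
  have hH1 : H ≠ ⊥ := by
    rintro rfl
    apply hna
    intro a ha b hb
    rw [Subgroup.mem_bot] at ha hb
    rw [ha, hb]
  have hK1 : H.subgroupOf (Subgroup.normalizer (H : Set G)) ≠ ⊥ := by
    intro hbot
    rw [Subgroup.subgroupOf_eq_bot, disjoint_iff, inf_of_le_left hHL] at hbot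
    exact hH1 hbot
  have hnilK : Group.IsNilpotent (H.subgroupOf (Subgroup.normalizer (H : Set G))) := by
    haveI := hnil
    exact Group.nilpotent_of_mulEquiv (Subgroup.subgroupOfEquivOfLe hHL).symm
  have hsolvK : Group.IsSolvable (H.subgroupOf (Subgroup.normalizer (H : Set G))) := by
    haveI := hnilK
    infer_instance
  have hsolv : Group.IsSolvable H := by
    haveI := hnil
    infer_instance
  have hcardKH : Nat.card (H.subgroupOf (Subgroup.normalizer (H : Set G))) = Nat.card H :=
    Nat.card_congr (Subgroup.subgroupOfEquivOfLe hHL).toEquiv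
  have hoddL : Odd (Nat.card ↥(Subgroup.normalizer (H : Set G))) := by
    apply odd_card_of_nonabelian_kernel _ hCn _ (by rw [hcardKH]; exact hoddH)
    intro hab
    apply hna
    intro a ha b hb
    have := hab ⟨a, hHL ha⟩ (Subgroup.mem_subgroupOf.mpr ha) ⟨b, hHL hb⟩
      (Subgroup.mem_subgroupOf.mpr hb)
    exact congrArg Subtype.val this
  obtain ⟨R, hR⟩ := exists_coherenceSystem H hoddL hTI hH1 hsolv hC
  have hKK := commutator_lt_of_nilpotent _ hnilK hK1
  have hfrob := frob_quot (H.subgroupOf (Subgroup.normalizer (H : Set G)))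
    ⁅H.subgroupOf (Subgroup.normalizer (H : Set G)),
      H.subgroupOf (Subgroup.normalizer (H : Set G))⁆ hKK.le hCn
  haveI hZLn : (Z.subgroupOf (Subgroup.normalizer (H : Set G))).Normal := by
    constructor
    intro n hn g
    rw [Subgroup.mem_subgroupOf] at hn ⊢
    exact hZn g g.2 n hn
  have hZL1 : Z.subgroupOf (Subgroup.normalizer (H : Set G)) ≠ ⊥ := by
    intro hbot
    apply hZ1
    rw [Subgroup.subgroupOf_eq_bot, disjoint_iff] at hbot
    rw [← hbot]
    exact (inf_of_le_left (fun z hz => hHL (hZP z hz).1)).symm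
  have hZK : Z.subgroupOf (Subgroup.normalizer (H : Set G)) ≤
      H.subgroupOf (Subgroup.normalizer (H : Set G)) := by
    intro z hz
    rw [Subgroup.mem_subgroupOf] at hz ⊢
    exact (hZP _ hz).1
  have hZc : ∀ z ∈ Z.subgroupOf (Subgroup.normalizer (H : Set G)),
      ∀ k ∈ H.subgroupOf (Subgroup.normalizer (H : Set G)), z * k = k * z := by
    intro z hz k hk
    rw [Subgroup.mem_subgroupOf] at hz hk
    apply Subtype.ext
    exact (hZP _ hz).2 _ hk
  have hirrS : ∀ χ ∈ inducedIrrAbove (H.subgroupOf (Subgroup.normalizer (H : Set G)))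
      (⊥ : Subgroup ↥(Subgroup.normalizer (H : Set G))),
      IsIrrCharacter ↥(Subgroup.normalizer (H : Set G)) χ := by
    rintro χ ⟨θ, hθ, hθ1, -, rfl⟩
    exact isIrrCharacter_indFun_of_centralizer_le _ hCn θ hθ hθ1
  obtain ⟨hYeq, hYcoh⟩ := s1522 _ hsolvK _ R hR hoddL hnilK hKK hfrob
    (Z.subgroupOf (Subgroup.normalizer (H : Set G))) hZL1 hZK hZc
    (fun χ hχ => hirrS χ hχ.1)
  rw [hYeq] at hYcoh
  have hset : {χ : ↥(Subgroup.normalizer (H : Set G)) → ℂ |
        IsIrrCharacter ↥(Subgroup.normalizer (H : Set G)) χ ∧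
        ∃ z : ↥(Subgroup.normalizer (H : Set G)), (z : G) ∈ Z ∧ χ z ≠ χ 1} =
      {χ | IsIrrCharacter ↥(Subgroup.normalizer (H : Set G)) χ ∧
        ∃ z ∈ Z.subgroupOf (Subgroup.normalizer (H : Set G)), χ z ≠ χ 1} := by
    ext χ
    constructor
    · rintro ⟨h1, z, hz, hne⟩
      exact ⟨h1, z, Subgroup.mem_subgroupOf.mpr hz, hne⟩
    · rintro ⟨h1, z, hz, hne⟩
      exact ⟨h1, z, Subgroup.mem_subgroupOf.mp hz, hne⟩
  rw [hset]
  exact hYcoh

end Cfsg.Agent.H2.PF6
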